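import Cfsg.Agent.Lib.Spor.Yamaki.Ctx

/-!
The elementary abelian subgroup of order sixty-four of the Sylow subgroup.
-/

set_option autoImplicit false
set_option maxRecDepth 100000
set_option Elab.async false

namespace Cfsg.Agent.Spor.Yamaki

open Equiv Subgroup

/-- addition of vectors -/
def vx (v w : Fin 64) : Fin 64 := ⟨(v.val ^^^ w.val) % 64, Nat.mod_lt _ (by norm_num)⟩

theorem av_table : ((List.range 64).all fun v => (List.range 64).all fun w =>
    Nat.beq (mN (avN v) (avN w)) (avN ((v ^^^ w) % 64))) = true := by decide +kernel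

theorem avN_table : ((List.range 64).all fun v => Nat.beq (slAt v) (avN v)) = true := by decide +kernel

theorem avN_zero : avN 0 = idN := by decide +kernel

theorem av_mul (v w : Fin 64) : av v * av w = av (vx v w) := enc_inj (by
  rw [enc_mul, enc_av, enc_av, enc_av]
  exact Nat.beq_eq.mp (List.all_eq_true.1 (List.all_eq_true.1 av_table v.val (List.mem_range.2 v.isLt)) w.val
    (List.mem_range.2 w.isLt)))

theorem av_zero : av 0 = 1 := enc_inj (by rw [enc_av, enc_one]; exact avN_zero)

theorem slAt_av (v : Fin 64) : slAt v.val = enc (av v) := by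
  rw [enc_av]
  exact Nat.beq_eq.mp (List.all_eq_true.1 avN_table v.val (List.mem_range.2 v.isLt))

theorem vx_self : ∀ v, vx v v = 0 := by decide +kernel

theorem av_sq (v : Fin 64) : av v * av v = 1 := by rw [av_mul, vx_self, av_zero]

theorem av_inj : Function.Injective av := fun v w h => Fin.ext (by
  have h1 := List.all_eq_true.1 SL_index
  rw [← Nat.beq_eq.mp (h1 v.val (List.mem_range.2 (v.isLt.trans (by norm_num)))),
    ← Nat.beq_eq.mp (h1 w.val (List.mem_range.2 (w.isLt.trans (by norm_num)))), slAt_av, slAt_av, h])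

theorem av_mem (v : Fin 64) : av v ∈ S0 := by
  obtain ⟨p, hp, h⟩ := SL_surj v.val (v.isLt.trans (by norm_num))
  rwa [← enc_inj (h.trans (slAt_av v))]

/-- the translations -/
def A0 : Subgroup P12 where
  carrier := Set.range av
  one_mem' := ⟨0, av_zero⟩
  mul_mem' := by rintro _ _ ⟨v, rfl⟩ ⟨w, rfl⟩; exact ⟨_, (av_mul v w).symm⟩
  inv_mem' := by rintro _ ⟨v, rfl⟩; exact ⟨v, (inv_eq_of_mul_eq_one_right (av_sq v)).symm⟩

theorem mem_A0 {p : P12} : p ∈ A0 ↔ ∃ v, av v = p := Iff.rfl

theorem A0_le : A0 ≤ S0 := fun _ ⟨v, hv⟩ => hv ▸ av_mem v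

theorem card_A0 : Nat.card A0 = 64 := by
  show Nat.card (Set.range av) = 64
  rw [← Nat.card_congr (Equiv.ofInjective av av_inj), Nat.card_fin]

theorem A0_comm {p q : P12} (hp : p ∈ A0) (hq : q ∈ A0) : p * q = q * p := by
  obtain ⟨v, rfl⟩ := hp; obtain ⟨w, rfl⟩ := hq
  rw [av_mul, av_mul, show vx v w = vx w v from Fin.ext (by simp [vx, Nat.xor_comm])]

theorem coset_table : ((List.range 8).all fun c => (List.range 64).all fun v =>
    Nat.beq (mN (slAt (64 * c)) (avN v)) (slAt (64 * c + v))) = true := by decide +kernel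

theorem one_comm : ((List.range 448).all fun i => let a := slAt (64 + i)
    !(Nat.beq (mN a a) idN) || Nat.ble ((List.range 64).filter fun v => cm (avN v) a).length 16) = true := by
  decide +kernel

/-- involutions outside the translations -/
def outInv : List ℕ := ((List.range 448).map (· + 64)).filter fun k => Nat.beq (mN (slAt k) (slAt k)) idN

theorem mem_outInv {k : ℕ} (hk : k < 512) (hk' : 64 ≤ k) (h : Nat.beq (mN (slAt k) (slAt k)) idN = true) :
    k ∈ outInv :=
  List.mem_filter.2 ⟨List.mem_map.2 ⟨k - 64, List.mem_range.2 (by omega), by omega⟩, h⟩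

theorem two_comm : (outInv.all fun i => outInv.all fun j =>
    Nat.beq (i / 64) (j / 64) || !(cm (slAt i) (slAt j)) ||
      Nat.ble ((List.range 64).filter fun v => cm (avN v) (slAt i) && cm (avN v) (slAt j)).length 8) = true := by
  decide +kernel

theorem no_comm : (outInv.all fun i => outInv.all fun j =>
    !(Nat.beq (i / 64) 2) || !(Nat.beq (j / 64) 4) || !(cm (slAt i) (slAt j))) = true := by decide +kernel

/-- position of an element -/
def pos (p : P12) : ℕ := idxN (enc p)

theorem pos_lt {p : P12} (hp : p ∈ S0) : pos p < 512 ∧ slAt (pos p) = enc p := by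
  obtain ⟨k, hk, h⟩ := mem_SL.1 (enc_mem_SL hp)
  have h1 : idxN (slAt k) = k := Nat.beq_eq.mp (List.all_eq_true.1 SL_index k (List.mem_range.2 hk))
  rw [pos, ← h, h1]
  exact ⟨hk, rfl⟩

theorem pos_small {p : P12} (hp : p ∈ S0) : pos p < 64 ↔ p ∈ A0 := by
  constructor
  · intro h
    exact ⟨⟨pos p, h⟩, enc_inj (by rw [← slAt_av]; exact (pos_lt hp).2)⟩
  · rintro ⟨v, rfl⟩
    have h1 := Nat.beq_eq.mp (List.all_eq_true.1 SL_index v.val (List.mem_range.2 (v.isLt.trans (by norm_num))))
    rw [slAt_av] at h1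
    rw [pos, h1]
    exact v.isLt

theorem coset_eq {p q : P12} (hp : p ∈ S0) (hq : q ∈ S0) (h : pos p / 64 = pos q / 64) : p⁻¹ * q ∈ A0 := by
  obtain ⟨h1, e1⟩ := pos_lt hp
  obtain ⟨h2, e2⟩ := pos_lt hq
  have hdec : ∀ (r : P12) (n : ℕ), n < 512 → slAt n = enc r →
      ∀ t : P12, enc t = slAt (64 * (n / 64)) → r = t * av ⟨n % 64, Nat.mod_lt _ (by norm_num)⟩ := by
    intro r n hn e t ht
    have := Nat.beq_eq.mp (List.all_eq_true.1 (List.all_eq_true.1 coset_table (n / 64) (List.mem_range.2 (by omega)))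
      (n % 64) (List.mem_range.2 (Nat.mod_lt _ (by norm_num))))
    rw [Nat.div_add_mod, e, ← ht] at this
    exact (enc_inj (by rw [enc_mul, enc_av, this])).symm
  obtain ⟨t, -, ht⟩ := SL_surj (64 * (pos p / 64)) (by omega)
  rw [hdec p _ h1 e1 t ht, hdec q _ h2 e2 t (h ▸ ht)]
  rw [show (t * av ⟨pos p % 64, Nat.mod_lt _ (by norm_num)⟩)⁻¹ * (t * av ⟨pos q % 64, Nat.mod_lt _ (by norm_num)⟩) =
    (av ⟨pos p % 64, Nat.mod_lt _ (by norm_num)⟩)⁻¹ * av ⟨pos q % 64, Nat.mod_lt _ (by norm_num)⟩ by group]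
  exact mul_mem (inv_mem ⟨_, rfl⟩) ⟨_, rfl⟩

theorem mem_outInv_pos {p : P12} (hp : p ∈ S0) (h2 : p * p = 1) (hA : p ∉ A0) : pos p ∈ outInv := by
  refine mem_outInv (pos_lt hp).1 (by by_contra h; exact hA ((pos_small hp).1 (by omega))) ?_
  rw [(pos_lt hp).2, ← enc_mul, h2, enc_one]
  exact Nat.beq_eq.mpr rfl

/-- An elementary abelian subgroup of order sixty-four of the Sylow subgroup is the translation group. -/
theorem elementary_unique (E : Subgroup P12) (hE : E ≤ S0) (hsq : ∀ x ∈ E, x * x = 1)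
    (hc : ∀ x ∈ E, ∀ y ∈ E, x * y = y * x) (hcard : 64 ≤ Nat.card E) : E = A0 := by
  classical
  by_cases hsub : E ≤ A0
  · exact eq_of_le_of_card_ge hsub (by rw [card_A0]; exact hcard)
  exfalso
  set F : ℕ → Finset P12 := fun c => Finset.univ.filter fun x => x ∈ E ∧ pos x / 64 = c
  set m := (Finset.univ.filter fun v : Fin 64 => av v ∈ E).card
  have hF : ∀ c, (F c).card ≤ m := by
    intro c
    rcases (F c).eq_empty_or_nonempty with h | ⟨x, hx⟩
    · simp [h]
    obtain ⟨-, hxE, hxc⟩ := Finset.mem_filter.1 hx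
    have hy : ∀ y ∈ F c, ∃ v, av v ∈ E ∧ x * av v = y := fun y hy => by
      obtain ⟨-, hyE, hyc⟩ := Finset.mem_filter.1 hy
      obtain ⟨v, hv⟩ := coset_eq (hE hxE) (hE hyE) (hxc.trans hyc.symm)
      exact ⟨v, hv ▸ mul_mem (inv_mem hxE) hyE, by rw [hv, mul_inv_cancel_left]⟩
    refine (Finset.card_le_card (fun y hy' => ?_)).trans (Finset.card_image_le (f := fun v => x * av v))
    obtain ⟨v, hv, he⟩ := hy y hy'
    exact Finset.mem_image.2 ⟨v, Finset.mem_filter.2 ⟨Finset.mem_univ _, hv⟩, he⟩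
  have hbound : ∀ P : ℕ → Bool, ∀ (_ : ∀ v : Fin 64, av v ∈ E → P v.val = true),
      m ≤ ((List.range 64).filter P).length := by
    intro P hP
    rw [← List.toFinset_card_of_nodup (List.nodup_range.filter _)]
    refine Finset.card_le_card_of_injOn Fin.val (fun v hv => ?_) Fin.val_injective.injOn
    simp only [Finset.coe_filter, Finset.mem_univ, true_and, Set.mem_setOf_eq] at hv
    simp [hP v hv, v.isLt]
  have hall : ∀ x ∈ E, pos x / 64 < 8 := fun x hx => by have := (pos_lt (hE hx)).1; omega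
  have hsum : 64 ≤ ∑ c ∈ Finset.range 8, (F c).card := by
    rw [← Finset.card_biUnion]
    · refine hcard.trans ?_
      rw [Nat.card_eq_fintype_card, Fintype.card_subtype]
      refine Finset.card_le_card fun x hx => ?_
      have hxE := (Finset.mem_filter.1 hx).2
      exact Finset.mem_biUnion.2 ⟨_, Finset.mem_range.2 (hall x hxE),
        Finset.mem_filter.2 ⟨Finset.mem_univ _, hxE, rfl⟩⟩
    · intro a _ b _ hab
      exact Finset.disjoint_left.2 fun x hxa hxb =>
        hab ((Finset.mem_filter.1 hxa).2.2.symm.trans (Finset.mem_filter.1 hxb).2.2)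
  obtain ⟨x, hxE, hxA⟩ := SetLike.not_le_iff_exists.1 hsub
  have hcx : ∀ p ∈ E, ∀ q ∈ E, cm (enc p) (enc q) = true := fun p hp q hq => cm_iff.2 (hc p hp q hq)
  have hout : ∀ y ∈ E, y ∉ A0 → pos y ∈ outInv := fun y hy hA => mem_outInv_pos (hE hy) (hsq y hy) hA
  by_cases h2 : ∃ y ∈ E, y ∉ A0 ∧ pos y / 64 ≠ pos x / 64
  · obtain ⟨y, hyE, hyA, hne⟩ := h2
    have hm8 : m ≤ 8 := by
      have := List.all_eq_true.1 (List.all_eq_true.1 two_comm _ (hout x hxE hxA)) _ (hout y hyE hyA)
      rw [(pos_lt (hE hxE)).2, (pos_lt (hE hyE)).2, hcx x hxE y hyE] at this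
      simp only [Bool.not_true, Bool.or_false, Bool.or_eq_true] at this
      rcases this with h | h
      · exact absurd (Nat.beq_eq.mp h).symm hne
      · refine (hbound _ fun v hv => ?_).trans (Nat.ble_eq.mp h)
        rw [← enc_av, hcx _ hv x hxE, hcx _ hv y hyE, Bool.and_self]
    have hfull : ∀ c < 8, (F c).Nonempty := by
      intro c hc8
      by_contra h
      have h0 : (F c).card = 0 := Finset.card_eq_zero.2 (Finset.not_nonempty_iff_eq_empty.1 h)
      rw [← Finset.sum_erase (Finset.range 8) (f := fun c => (F c).card) h0] at hsum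
      have h7 := Finset.sum_le_card_nsmul ((Finset.range 8).erase c) (fun c => (F c).card) 8
        (fun a _ => (hF a).trans hm8)
      rw [Finset.card_erase_of_mem (Finset.mem_range.2 hc8), Finset.card_range, smul_eq_mul] at h7
      omega
    obtain ⟨p, hp⟩ := hfull 2 (by norm_num)
    obtain ⟨q, hq⟩ := hfull 4 (by norm_num)
    obtain ⟨-, hpE, hp2⟩ := Finset.mem_filter.1 hp
    obtain ⟨-, hqE, hq4⟩ := Finset.mem_filter.1 hq
    have hpA : p ∉ A0 := fun h => by have := (pos_small (hE hpE)).2 h; omega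
    have hqA : q ∉ A0 := fun h => by have := (pos_small (hE hqE)).2 h; omega
    have := List.all_eq_true.1 (List.all_eq_true.1 no_comm _ (hout p hpE hpA)) _ (hout q hqE hqA)
    rw [(pos_lt (hE hpE)).2, (pos_lt (hE hqE)).2, hcx p hpE q hqE, hp2, hq4] at this
    simp at this
  · simp only [not_exists, not_and, not_not] at h2
    have hm16 : m ≤ 16 := by
      have h64 : 64 ≤ pos x := by by_contra h; exact hxA ((pos_small (hE hxE)).1 (by omega))
      have := List.all_eq_true.1 one_comm (pos x - 64) (List.mem_range.2 (by have := (pos_lt (hE hxE)).1; omega))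
      simp only [show 64 + (pos x - 64) = pos x by omega] at this
      rw [(pos_lt (hE hxE)).2, ← enc_mul, hsq x hxE, enc_one] at this
      simp only [Nat.beq_refl, Bool.not_true, Bool.false_or] at this
      exact (hbound _ fun v hv => by rw [← enc_av, hcx _ hv x hxE]).trans (Nat.ble_eq.mp this)
    have hzero : ∀ c ∈ Finset.range 8, c ∉ ({0, pos x / 64} : Finset ℕ) → (F c).card = 0 := by
      intro c _ hc'
      simp only [Finset.mem_insert, Finset.mem_singleton, not_or] at hc'
      refine Finset.card_eq_zero.2 (Finset.filter_eq_empty_iff.2 fun y _ hy => ?_)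
      by_cases hyA : y ∈ A0
      · have := (pos_small (hE hy.1)).2 hyA
        exact hc'.1 (by omega)
      · exact hc'.2 (hy.2.symm.trans (h2 y hy.1 hyA))
    have hsubset : ({0, pos x / 64} : Finset ℕ) ⊆ Finset.range 8 := fun c hc' => by
      have := hall x hxE
      simp only [Finset.mem_insert, Finset.mem_singleton] at hc'
      rw [Finset.mem_range]; omega
    rw [← Finset.sum_subset hsubset hzero] at hsum
    have h7 := Finset.sum_le_card_nsmul ({0, pos x / 64} : Finset ℕ) (fun c => (F c).card) 16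
      (fun a _ => (hF a).trans hm16)
    have h2c : ({0, pos x / 64} : Finset ℕ).card ≤ 2 := Finset.card_le_two
    rw [smul_eq_mul] at h7
    omega

/-- conjugators sending involutions into the translations -/
def cjP : Fin 7 → P12 :=
  ![1, swap 2 4 * swap 3 5, swap 2 6 * swap 3 7, swap 6 8 * swap 7 9, swap 6 10 * swap 7 11,
    swap 2 8 * swap 3 9, swap 2 10 * swap 3 11]

/-- their codes -/
def cjN : List ℕ :=
  [0xba9876543210, 0xba9876325410, 0xba9832547610, 0xba7698543210, 0x7698ba543210, 0xba3276549810,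
    0x32987654ba10]

theorem enc_cjP : ∀ i : Fin 7, enc (cjP i) = cjN.getD i.val 0 := by decide +kernel

theorem cjP_sq (i : Fin 7) : cjP i * cjP i = 1 := by
  refine enc_inj ?_
  have h : ((List.range 7).all fun i => Nat.beq (mN (cjN.getD i 0) (cjN.getD i 0)) idN) = true := by decide +kernel
  rw [enc_mul, enc_cjP, enc_one]
  exact Nat.beq_eq.mp (List.all_eq_true.1 h i.val (List.mem_range.2 i.isLt))

theorem cjP_mem (i : Fin 7) : cjP i ∈ C0 := by
  have hc : cm (enc (cjP i)) (enc tp) = true := by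
    have h : ((List.range 7).all fun i => cm (cjN.getD i 0) tpN) = true := by decide +kernel
    rw [enc_cjP, probe_enc.2.1]
    exact List.all_eq_true.1 h i.val (List.mem_range.2 i.isLt)
  refine mem_C0.2 ⟨?_, cm_iff.1 hc⟩
  fin_cases i <;> simp only [cjP] <;> simp [Perm.sign_swap']

theorem conj_table : ((List.range 512).all fun k => !(Nat.beq (mN (slAt k) (slAt k)) idN) ||
    cjN.any fun g => Nat.blt (idxN (mN g (mN (slAt k) g))) 64 &&
      Nat.beq (avN (idxN (mN g (mN (slAt k) g)))) (mN g (mN (slAt k) g))) = true := by decide +kernel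

theorem conj_into_A0_of_mem {x : P12} (hx : x ∈ S0) (h2 : x * x = 1) :
    ∃ c ∈ C0, ∃ v, c * x * c⁻¹ = av v := by
  have h := List.all_eq_true.1 conj_table (pos x) (List.mem_range.2 (pos_lt hx).1)
  rw [(pos_lt hx).2, ← enc_mul, h2, enc_one] at h
  simp only [Nat.beq_refl, Bool.not_true, Bool.false_or, List.any_eq_true, Bool.and_eq_true] at h
  obtain ⟨g, hg, hlt, he⟩ := h
  obtain ⟨n, hn, rfl⟩ := List.getElem_of_mem hg
  have hn7 : n < 7 := by simpa [cjN] using hn
  refine ⟨cjP ⟨n, hn7⟩, cjP_mem _, ⟨idxN (mN cjN[n] (mN (enc x) cjN[n])), Nat.ble_eq.mp hlt⟩, enc_inj ?_⟩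
  rw [inv_eq_of_mul_eq_one_right (cjP_sq _), enc_av, mul_assoc, enc_mul, enc_mul, enc_cjP, List.getD_eq_getElem _ _ hn]
  exact (Nat.beq_eq.mp he).symm

/-- Every involution of the model is conjugate to a translation. -/
theorem conj_into_A0 {x : C0} (h2 : x * x = 1) : ∃ c : C0, ∃ v, (c * x * c⁻¹).1 = av v := by
  haveI : Fact (Nat.Prime 2) := ⟨Nat.prime_two⟩
  have hS : Nat.card S0' = 2 ^ (Nat.card C0).factorization 2 := by
    rw [card_S0', card_C0, show (23040 : ℕ) = 2 ^ 9 * 45 by norm_num,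
      Nat.factorization_mul (by norm_num) (by norm_num), Finsupp.add_apply,
      Nat.Prime.factorization_pow Nat.prime_two, Finsupp.single_eq_same,
      Nat.factorization_eq_zero_of_not_dvd (by norm_num)]
    rfl
  obtain ⟨Q, hQ⟩ := (IsPGroup.of_card (G := zpowers x) (p := 2)
    (n := if x = 1 then 0 else 1) (by
      rw [Nat.card_zpowers]
      split_ifs with h
      · rw [h, orderOf_one, pow_zero]
      · rw [orderOf_eq_prime (by rw [pow_two, h2]) h, pow_one])).exists_le_sylow
  obtain ⟨c, hc⟩ := MulAction.exists_smul_eq C0 Q (Sylow.ofCard S0' hS)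
  have hxc : c * x * c⁻¹ ∈ S0' := by
    have : MulAut.conj c x ∈ ((c • Q : Sylow 2 C0) : Subgroup C0) := by
      rw [Sylow.coe_subgroup_smul]
      exact Subgroup.smul_mem_pointwise_smul x _ _ (hQ (mem_zpowers x))
    rw [hc, Sylow.coe_ofCard] at this
    exact this
  obtain ⟨d, hd, v, hv⟩ := conj_into_A0_of_mem (show ((c * x * c⁻¹ : C0) : P12) ∈ S0 from hxc) (by
    rw [← Subgroup.coe_mul, show c * x * c⁻¹ * (c * x * c⁻¹) = c * (x * x) * c⁻¹ by group, h2, mul_one,
      mul_inv_cancel, Subgroup.coe_one])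
  refine ⟨⟨d, hd⟩ * c, v, ?_⟩
  rw [← hv]
  simp [mul_assoc, mul_inv_rev]

theorem square_table : (((List.range 512).all fun k => !(Nat.beq (mN (slAt k) (slAt k)) tpN)) &&
    ([5, 16].all fun v => (List.range 512).any fun k => Nat.beq (mN (slAt k) (slAt k)) (avN v))) = true := by
  decide +kernel

theorem tp_not_square {x : P12} (hx : x ∈ S0) : x * x ≠ tp := fun h => by
  have h1 := List.all_eq_true.1 (Bool.and_eq_true_iff.1 square_table).1 (pos x) (List.mem_range.2 (pos_lt hx).1)
  rw [(pos_lt hx).2, ← enc_mul, h, probe_enc.2.1] at h1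
  simp at h1

theorem central_squares (v : Fin 64) (hv : v = 5 ∨ v = 16) : ∃ x ∈ S0, x * x = av v := by
  have h1 := List.all_eq_true.1 (Bool.and_eq_true_iff.1 square_table).2 v.val
    (by rcases hv with rfl | rfl <;> simp)
  obtain ⟨k, hk, hk'⟩ := List.any_eq_true.1 h1
  obtain ⟨p, hp, he⟩ := SL_surj k (List.mem_range.1 hk)
  exact ⟨p, hp, enc_inj (by rw [enc_mul, he, enc_av]; exact Nat.beq_eq.mp hk')⟩

theorem centre_table : ((List.range 512).all fun k => [0, 5, 16, 21].any (Nat.beq k) ||
    !((List.finRange 9).all fun i => cm (slAt k) (gN i))) = true := by decide +kernel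

theorem avN_tp : avN 21 = tpN := by decide +kernel

attribute [local irreducible] slAt mN enc tab avN gN

theorem centre_S0 {x : P12} (hx : x ∈ S0) (hc : ∀ y ∈ S0, x * y = y * x) :
    x = 1 ∨ x = tp ∨ x = av 5 ∨ x = av 16 := by
  have h := List.all_eq_true.1 centre_table (pos x) (List.mem_range.2 (pos_lt hx).1)
  have hall : ((List.finRange 9).all fun i => cm (slAt (pos x)) (gN i)) = true :=
    List.all_eq_true.2 fun i _ => by
      rw [(pos_lt hx).2, ← enc_gP]
      exact cm_iff.2 (hc _ (subset_closure ⟨i, rfl⟩))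
  rw [hall] at h
  simp only [Bool.not_true, Bool.or_false, List.any_eq_true] at h
  obtain ⟨n, hn, he⟩ := h
  have hA : x = av ⟨n % 64, Nat.mod_lt _ (by norm_num)⟩ := enc_inj (by
    rw [← (pos_lt hx).2, Nat.beq_eq.mp he, ← slAt_av]
    congr 1
    simp only [List.mem_cons, List.not_mem_nil, or_false] at hn
    rcases hn with rfl | rfl | rfl | rfl <;> norm_num)
  simp only [List.mem_cons, List.not_mem_nil, or_false] at hn
  rcases hn with rfl | rfl | rfl | rfl
  · exact Or.inl (hA.trans av_zero)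
  · exact Or.inr (Or.inr (Or.inl hA))
  · exact Or.inr (Or.inr (Or.inr hA))
  · refine Or.inr (Or.inl (hA.trans (enc_inj ?_)))
    rw [enc_av, probe_enc.2.1]
    exact avN_tp

end Cfsg.Agent.Spor.Yamaki
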