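import Cfsg.Agent.Lib.Spor.Yamaki.Thirteen

/-!
An alternating subgroup of degree twelve or thirteen containing both involution centralisers.
-/

set_option autoImplicit false
set_option maxRecDepth 100000
set_option Elab.async false
set_option linter.style.haveILetI false

universe u

namespace Cfsg.Agent.Spor.Yamaki

open Equiv Subgroup Cfsg.Agent.Small.BoundedPres Cfsg.Agent.Small.AltDeg

/-- the points of the nine-point subgroup -/
def iotaNine : Fin 9 ↪ Fin (11 + 2) :=
  ⟨fun i => if i.val < 8 then ⟨i.val, by omega⟩ else ⟨12, by omega⟩, by decide⟩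

theorem gcyc_map {a b : ℕ} (ι : Fin (a + 2) ↪ Fin (b + 2)) (h0 : ι ⟨0, by omega⟩ = ⟨0, by omega⟩)
    (h1 : ι ⟨1, by omega⟩ = ⟨1, by omega⟩) (i : Fin a) (j : Fin b)
    (hj : ι ⟨i.val + 2, by omega⟩ = ⟨j.val + 2, by omega⟩) : emb ι (gcyc a i) = gcyc b j := by
  simp only [gcyc, cyc]
  rw [emb_trans]
  congr 2
  ext u
  fin_cases u
  exacts [congrArg Fin.val h0, congrArg Fin.val h1, congrArg Fin.val hj]

attribute [local irreducible] mN enc tab avN slAt gN idxN fixTop moved

namespace Lift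

variable {G : Type u} [Group G] [Finite G] {E : Data27 G} (L : Lift E)

include L in
theorem xg_low {i : Fin 12} (hi : 2 ≤ i.val) (hi' : i.val < 8) : L.xg i ∈ E.XB := by
  have hc : E.D.φ ⟨cIp i, cIp_mem i⟩ ∈ E.XB := by
    refine L.fixTop_XB (fixTop_of_fix.2 ?_)
    have h : ∀ i : Fin 12, 2 ≤ i.val → i.val < 8 → ∀ j : Fin 12, 8 ≤ j.val → cIp i j = j := by decide +kernel
    exact h i hi hi'
  exact mul_mem (mul_mem hc L.y_mem_XB) (inv_mem hc)

/-- A generated alternating subgroup of the same order fills the odd-generated subgroup. -/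
theorem _root_.Cfsg.Agent.Spor.Yamaki.Data27.XB_le_range {k a : ℕ} (ψ : E.XB →* Perm (Fin k)) (hψ : Function.Injective ψ)
    (hr : ψ.range = alternatingGroup (Fin k)) {n : ℕ} (Θ : A n →* G) (hΘ : Function.Injective Θ)
    (ι : Fin (a + 2) ↪ Fin n) (ha : a + 2 = k) (hgen : ∀ i : Fin a, Θ (emb ι (gcyc a i)) ∈ E.XB) :
    E.XB ≤ Θ.range := by
  set f : A (a + 2) →* G := Θ.comp (emb ι)
  have hle : f.range ≤ E.XB := by
    rw [MonoidHom.range_eq_map, ← gcyc_top a, MonoidHom.map_closure]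
    refine (closure_le _).2 ?_
    rintro _ ⟨_, ⟨i, rfl⟩, rfl⟩
    exact hgen i
  have hcard : Nat.card E.XB ≤ Nat.card f.range := by
    rw [← Nat.card_congr (MonoidHom.ofInjective (hΘ.comp (emb_injective ι) : Function.Injective f)).toEquiv,
      Nat.card_congr (MonoidHom.ofInjective hψ).toEquiv, hr, ← ha]
  rw [← eq_of_le_of_card_ge hle hcard]
  rintro _ ⟨x, rfl⟩
  exact ⟨_, rfl⟩

include L in
/-- The centraliser of the double transposition lies in every subgroup containing both pieces. -/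
theorem HB_le {K : Subgroup G} (hC : ∀ c, E.D.φ c ∈ K) (hX : E.XB ≤ K) : E.HB ≤ K := by
  intro h hh
  obtain ⟨k, ψ, hk, hψ, hr⟩ := L.exists_rep
  have h5 := L.el_low_XB (v := 5) (by decide)
  have hx := E.XB_conj hh h5
  have hsq : ∀ v : Fin 64, E.D.el v * E.D.el v = 1 := fun v => by rw [E.D.el_mul, vx_self, E.el_zero]
  set u : E.XB := ⟨_, hx⟩
  have hu2 : u * u = 1 := Subtype.ext (by
    show h * E.D.el 5 * h⁻¹ * (h * E.D.el 5 * h⁻¹) = 1
    rw [show h * E.D.el 5 * h⁻¹ * (h * E.D.el 5 * h⁻¹) = h * (E.D.el 5 * E.D.el 5) * h⁻¹ by group, hsq, mul_one,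
      mul_inv_cancel])
  have hu1 : u ≠ 1 := fun e => by
    have := congrArg Subtype.val e
    change h * E.D.el 5 * h⁻¹ = 1 at this
    rw [conj_eq_one_iff, ← E.el_zero] at this
    exact absurd (E.D.el_inj this) (by decide)
  obtain ⟨g, hg, hge⟩ : ∃ g ∈ E.XB, g * E.D.el 5 * g⁻¹ = u.1 := by
    by_contra hn
    have h4u := (L.rep_moved ψ hk hψ hr hu2 hu1).2 hn
    set v1 : E.XB := ⟨_, L.el_low_XB (v := 1) (by decide)⟩
    have hv2 : v1 * v1 = 1 := Subtype.ext (hsq 1)
    have hv1 : v1 ≠ 1 := fun e => by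
      have := congrArg Subtype.val e
      change E.D.el 1 = 1 at this
      rw [← E.el_zero] at this
      exact absurd (E.D.el_inj this) (by decide)
    have h4v := (L.rep_moved ψ hk hψ hr hv2 hv1).2 fun ⟨g, _, hg⟩ =>
      absurd (E.τn_conj hg) (by decide)
    have hev : ∀ x : E.XB, Perm.sign (ψ x) = 1 := fun x => Perm.mem_alternatingGroup.1 (hr ▸ ⟨x, rfl⟩)
    obtain ⟨σ, hσ, he⟩ := invol_conj (u := ψ v1) (v := ψ u) (by rw [← map_mul, hv2, map_one])
      (fun e => hv1 (hψ (e.trans (map_one ψ).symm))) (hev _) (by rw [← map_mul, hu2, map_one])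
      (fun e => hu1 (hψ (e.trans (map_one ψ).symm))) (hev _) (by omega) (h4v.trans h4u.symm)
    rw [← hr] at hσ
    obtain ⟨x, rfl⟩ := hσ
    have hxe : x.1 * E.D.el 1 * x.1⁻¹ = h * E.D.el 5 * h⁻¹ :=
      congrArg Subtype.val (hψ (a₁ := x * v1 * x⁻¹) (a₂ := u) (by rw [map_mul, map_mul, map_inv, he]))
    have := E.τn_conj (g := h⁻¹ * x.1) (v := 1) (w := 5) (by
      calc h⁻¹ * x.1 * E.D.el 1 * (h⁻¹ * x.1)⁻¹ = h⁻¹ * (x.1 * E.D.el 1 * x.1⁻¹) * h := by group
        _ = E.D.el 5 := by rw [hxe]; group)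
    exact absurd this (by decide)
  change g * E.D.el 5 * g⁻¹ = h * E.D.el 5 * h⁻¹ at hge
  set w := g⁻¹ * h with hw
  have hw5 : w * E.D.el 5 = E.D.el 5 * w := by
    calc w * E.D.el 5 = g⁻¹ * (h * E.D.el 5 * h⁻¹) * h := by rw [hw]; group
      _ = E.D.el 5 * w := by rw [← hge, hw]; group
  have hw16 : w * E.D.el 16 = E.D.el 16 * w := E.mem_HB.1 (mul_mem (inv_mem (E.XB_le hg)) hh)
  obtain ⟨c, hc⟩ := E.D.exists_pre (g := w) (by
    rw [← E.D.el_alpha, show (21 : Fin 64) = vx 5 16 by decide, ← E.D.el_mul, ← mul_assoc, hw5, mul_assoc, hw16,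
      mul_assoc])
  have := mul_mem (hX hg) (hc ▸ hC c)
  rwa [mul_inv_cancel_left] at this

include L in
/-- An alternating subgroup of degree twelve or thirteen containing the centralisers. -/
theorem exists_big : ∃ (n : ℕ) (h : 12 ≤ n) (Θ : A n →* G), (n = 12 ∨ n = 13) ∧ Function.Injective Θ ∧
    (∀ c : C0, Θ (emb (Fin.castLEEmb h) (inclA c)) = E.D.φ c) ∧ E.HB ≤ Θ.range := by
  obtain ⟨θ, hθi, hθc, hθg⟩ := L.exists_alt
  obtain ⟨k, ψ, hk, hψ, hr⟩ := L.exists_rep
  rcases hk with rfl | rfl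
  · have hid : ∀ x : A 12, emb (Fin.castLEEmb (le_refl 12)) x = x := fun x =>
      Subtype.ext (Equiv.ext fun i => emb_apply (Fin.castLEEmb (le_refl 12)) x i)
    have hφ : ∀ c : C0, θ (emb (Fin.castLEEmb (le_refl 12)) (inclA c)) = E.D.φ c := fun c =>
      (congrArg θ (hid (inclA c))).trans (hθc c)
    have hX : E.XB ≤ θ.range := by
      refine E.XB_le_range ψ hψ hr θ hθi (Fin.castLEEmb (show 6 + 2 ≤ 10 + 2 by norm_num)) rfl fun i => ?_
      rw [gcyc_map _ rfl rfl i ⟨i.val, by omega⟩ rfl, hθg]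
      exact L.xg_low (by simp) (by simp only; omega)
    exact ⟨12, le_rfl, θ, Or.inl rfl, hθi, hφ, L.HB_le (fun c => ⟨_, hθc c⟩) hX⟩
  · obtain ⟨z, hzX, hz3, hzy, hzc⟩ := L.exists_extra ψ hψ hr
    let v : Fin 11 → G := fun i => if h : i.val < 10 then L.xg ⟨i.val + 2, by omega⟩ else z
    have hrel : ∀ i : Fin 12, 2 ≤ i.val → (L.xg i * z) ^ 2 = 1 ∧ (z * L.xg i) ^ 2 = 1 := by
      intro i hi
      obtain ⟨i0, i1, -⟩ := cIp_spec i hi
      have hc := hzc ⟨cIp i, cIp_mem i⟩ i0 i1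
      have h1 : (L.xg i * z) ^ 2 = 1 := by
        set C := E.D.φ ⟨cIp i, cIp_mem i⟩
        have : L.xg i * z = C * (L.y * z) * C⁻¹ := by
          show C * L.y * C⁻¹ * z = _
          calc C * L.y * C⁻¹ * z = C * L.y * (C⁻¹ * (z * C)) * C⁻¹ := by group
            _ = C * L.y * (C⁻¹ * (C * z)) * C⁻¹ := by rw [hc]
            _ = _ := by group
        rw [this, conj_pow, hzy, mul_one, mul_inv_cancel]
      refine ⟨h1, ?_⟩
      rw [show z * L.xg i = z * (L.xg i * z) * z⁻¹ by group, conj_pow, h1, mul_one, mul_inv_cancel]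
    obtain ⟨Θ, hΘ⟩ := carmichael_hom 11 (by norm_num) v (fun i => by
        simp only [v]
        split
        · exact L.xg_cube _
        · exact hz3)
      (fun i j hij => by
        simp only [v]
        split <;> split
        · exact L.xg_rel (by simp) (by simp) (fun h => hij (Fin.ext (by
            have := congrArg Fin.val h; simp at this; exact this)))
        · exact (hrel _ (by simp)).1
        · exact (hrel _ (by simp)).2
        · exact absurd (Fin.ext (by omega)) hij)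
    have hΘ0 : Θ (gcyc 11 0) = L.y := by
      rw [hΘ]
      exact L.xg_two
    have hinj : Function.Injective Θ := by
      haveI := alternatingGroup.isSimpleGroup (α := Fin (11 + 2)) (by simp)
      rcases Θ.normal_ker.eq_bot_or_eq_top with h | h
      · exact (MonoidHom.ker_eq_bot_iff Θ).1 h
      · exfalso
        have : Θ (gcyc 11 0) = 1 := MonoidHom.mem_ker.1 (h ▸ Subgroup.mem_top _)
        rw [hΘ0] at this
        exact L.y_ne this
    have hcomp : Θ.comp (emb (Fin.castLEEmb (show 10 + 2 ≤ 11 + 2 by norm_num))) = θ := by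
      refine MonoidHom.eq_of_eqOn_dense (gcyc_top 10) ?_
      rintro _ ⟨i, rfl⟩
      rw [MonoidHom.comp_apply, gcyc_map _ rfl rfl i ⟨i.val, by omega⟩ rfl, hΘ, hθg]
      simp only [v, i.isLt, dite_true]
    have hφ : ∀ c : C0, Θ (emb (Fin.castLEEmb (show 10 + 2 ≤ 11 + 2 by norm_num)) (inclA c)) = E.D.φ c := fun c =>
      (DFunLike.congr_fun hcomp (inclA c)).trans (hθc c)
    have hX : E.XB ≤ Θ.range := by
      refine E.XB_le_range (a := 7) ψ hψ hr Θ hinj iotaNine rfl fun i => ?_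
      by_cases h6 : i.val < 6
      · rw [gcyc_map iotaNine rfl rfl i ⟨i.val, by omega⟩ (by
          show (if i.val + 2 < 8 then (⟨i.val + 2, _⟩ : Fin 13) else _) = _
          rw [if_pos (by omega)]), hΘ]
        simp only [v, show i.val < 10 by omega, dite_true]
        exact L.xg_low (by simp) (by simp only; omega)
      · rw [gcyc_map iotaNine rfl rfl i ⟨10, by norm_num⟩ (by
          show (if i.val + 2 < 8 then (⟨i.val + 2, _⟩ : Fin 13) else _) = _
          rw [if_neg (by omega)]), hΘ]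
        simp only [v, show ¬ (10 : ℕ) < 10 by omega, dite_false]
        exact hzX
    exact ⟨13, by norm_num, Θ, Or.inr rfl, hinj, hφ, L.HB_le (fun c => ⟨_, hφ c⟩) hX⟩

end Lift

end Cfsg.Agent.Spor.Yamaki
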