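import Cfsg.Agent.Lib.Spor.Yamaki.Lift

/-!
Facts about the Sylow subgroup seen on the third block.
-/

set_option autoImplicit false
set_option maxRecDepth 100000
set_option Elab.async false

namespace Cfsg.Agent.Spor.Yamaki

open Equiv Subgroup

/-- the last block is fixed pointwise -/
def fixTop (a : ℕ) : Bool := Nat.beq (a >>> 32) 0xba98

/-- the two characters of the Sylow subgroup that may cut out a normal subgroup -/
def cutN (c : Bool) (k : ℕ) : Bool := k.testBit 5 ^^ (c && k.testBit 7)

theorem cut_table : ([false, true].all fun c => (List.range 512).all fun k => (List.finRange 9).all fun i =>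
    cutN c (idxN (mN (slAt k) (gN i))) == (cutN c k ^^ cutN c (2 ^ i.val))) = true := by decide +kernel

theorem gen_pos : ((List.finRange 9).all fun i => Nat.beq (idxN (gN i)) (2 ^ i.val)) = true := by decide +kernel

theorem step_one : ((List.range 512).all fun k => k.testBit 5 || !(Nat.beq (mN (slAt k) (slAt k)) idN) ||
    !(Nat.beq (moved (slAt k)) 12 && Nat.beq (moved (mN (slAt k) (avN 16))) 12)) = true := by decide +kernel

theorem step_two : ((List.range 512).all fun k => !(Nat.beq (dg (slAt k) 10) 10) ||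
    !(Nat.beq (mN (slAt k) (slAt k)) idN) ||
      !(Nat.beq (moved (slAt k)) 12 && Nat.beq (moved (mN (slAt k) (avN 16))) 8)) = true := by decide +kernel

/-- the generator of the cyclic quotient -/
def cycN (c : Bool) : ℕ := if c then mN (gN 7) (gN 5) else avN 16

theorem cyclic_table : ([false, true].all fun c => (List.range 512).all fun k => cutN c k ||
    (Nat.beq (dg (slAt k) 10) 10 || Nat.beq (dg (mN (cycN c) (slAt k)) 10) 10 ||
      Nat.beq (dg (mN (mN (cycN c) (cycN c)) (slAt k)) 10) 10 ||
        Nat.beq (dg (mN (mN (cycN c) (mN (cycN c) (cycN c))) (slAt k)) 10) 10)) = true := by decide +kernel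

theorem normal_table : ([false, true].all fun c => (List.range 512).all fun k => cutN c k ||
    ((Nat.beq (dg (slAt k) 10) 10 || Nat.beq (dg (slAt k) 10) 11 || c) && Nat.ble 8 (dg (slAt k) 10) &&
      (!(Nat.beq (dg (slAt k) 10) 10) || Nat.beq (dg (slAt k) 11) 11 &&
        (!c || Nat.beq (dg (slAt k) 8) 8 && Nat.beq (dg (slAt k) 9) 9)))) = true := by decide +kernel

theorem top_low : ((List.range 512).all fun k => !(fixTop (slAt k)) || Nat.beq (k &&& 0xb0) 0) = true := by
  decide +kernel

theorem top_escape : ((List.range 512).all fun k => fixTop (slAt k) || fixTop (mN (slAt k) (avN 16)) ||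
    (List.finRange 9).any fun i =>
      fixTop (mN (mN (mN (slAt k) (gN i)) (mN (slAt k) (gN i))) (avN 16))) = true := by decide +kernel

attribute [local irreducible] mN enc tab avN slAt gN idxN

theorem cut_mul {c : Bool} {x : P12} (hx : x ∈ S0) :
    ∀ i, cutN c (pos (x * gP i)) = (cutN c (pos x) ^^ cutN c (pos (gP i))) := by
  intro i
  have h := List.all_eq_true.1 (List.all_eq_true.1 (List.all_eq_true.1 cut_table c (by cases c <;> simp))
    (pos x) (List.mem_range.2 (pos_lt hx).1)) i (List.mem_finRange i)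
  rw [(pos_lt hx).2] at h
  have hg := Nat.beq_eq.mp (List.all_eq_true.1 gen_pos i (List.mem_finRange i))
  rw [pos, enc_mul, enc_gP, eq_of_beq h, pos, pos, enc_gP, hg]

theorem cut_one (c : Bool) : cutN c (pos 1) = false := by
  have h : ∀ c, cutN c (idxN idN) = false := by decide +kernel
  rw [pos, enc_one]
  exact h c

theorem cut_hom {c : Bool} {x y : P12} (hx : x ∈ S0) (hy : y ∈ S0) :
    cutN c (pos (x * y)) = (cutN c (pos x) ^^ cutN c (pos y)) := by
  suffices h : ∀ y ∈ S0, ∀ x ∈ S0, cutN c (pos (x * y)) = (cutN c (pos x) ^^ cutN c (pos y)) from h y hy x hx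
  intro y hy
  induction hy using closure_induction_right with
  | one => intro x _; rw [mul_one, cut_one, Bool.xor_false]
  | mul_right y hy' g hg ih =>
    obtain ⟨i, rfl⟩ := hg
    intro x hx
    rw [← mul_assoc, cut_mul (mul_mem hx hy'), ih x hx, cut_mul hy', Bool.xor_assoc]
  | mul_inv_cancel y hy' g hg ih =>
    obtain ⟨i, rfl⟩ := hg
    intro x hx
    rw [inv_eq_of_mul_eq_one_right (gP_sq i), ← mul_assoc, cut_mul (mul_mem hx hy'), ih x hx, cut_mul hy',
      Bool.xor_assoc]

/-- the kernel of a character -/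
def cutS (c : Bool) : Subgroup P12 where
  carrier := {p | p ∈ S0 ∧ cutN c (pos p) = false}
  one_mem' := ⟨one_mem _, cut_one c⟩
  mul_mem' := fun {p q} hp hq => ⟨mul_mem hp.1 hq.1, by rw [cut_hom hp.1 hq.1, hp.2, hq.2]; rfl⟩
  inv_mem' := fun {p} hp => ⟨inv_mem hp.1, by
    have h := cut_hom (c := c) hp.1 (inv_mem hp.1)
    rw [mul_inv_cancel, cut_one, hp.2, Bool.false_xor] at h
    exact h.symm⟩

theorem fixTop_of_fix {p : P12} : fixTop (enc p) = true ↔ ∀ i : Fin 12, 8 ≤ i.val → p i = i := by
  have h : enc p >>> 32 = dg (enc p) 8 + 16 * (dg (enc p) 9 + 16 * (dg (enc p) 10 + 16 * dg (enc p) 11)) := by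
    rw [dg_enc p (show 8 < 12 by norm_num), dg_enc p (show 9 < 12 by norm_num), dg_enc p (show 10 < 12 by norm_num),
      dg_enc p (show 11 < 12 by norm_num), enc]
    unfold tab
    rw [Nat.shiftRight_eq_div_pow]
    simp only [fi_eq (show 0 < 12 by norm_num), fi_eq (show 1 < 12 by norm_num), fi_eq (show 2 < 12 by norm_num),
      fi_eq (show 3 < 12 by norm_num), fi_eq (show 4 < 12 by norm_num), fi_eq (show 5 < 12 by norm_num),
      fi_eq (show 6 < 12 by norm_num), fi_eq (show 7 < 12 by norm_num), fi_eq (show 8 < 12 by norm_num),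
      fi_eq (show 9 < 12 by norm_num), fi_eq (show 10 < 12 by norm_num), fi_eq (show 11 < 12 by norm_num)]
    have hb := fun i : Fin 12 => (p i).isLt
    have := hb ⟨0, by norm_num⟩; have := hb ⟨1, by norm_num⟩; have := hb ⟨2, by norm_num⟩
    have := hb ⟨3, by norm_num⟩; have := hb ⟨4, by norm_num⟩; have := hb ⟨5, by norm_num⟩
    have := hb ⟨6, by norm_num⟩; have := hb ⟨7, by norm_num⟩
    norm_num at *
    omega
  rw [fixTop, Nat.beq_eq, h, dg_enc p (show 8 < 12 by norm_num), dg_enc p (show 9 < 12 by norm_num),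
    dg_enc p (show 10 < 12 by norm_num), dg_enc p (show 11 < 12 by norm_num)]
  have hb := fun i : Fin 12 => (p i).isLt
  have := hb ⟨8, by norm_num⟩; have := hb ⟨9, by norm_num⟩; have := hb ⟨10, by norm_num⟩
  have := hb ⟨11, by norm_num⟩
  constructor
  · intro hp i hi
    apply Fin.ext
    obtain ⟨i, hi'⟩ := i
    norm_num at *
    interval_cases i <;> norm_num <;> omega
  · intro hp
    rw [hp ⟨8, _⟩ (by norm_num), hp ⟨9, _⟩ (by norm_num), hp ⟨10, _⟩ (by norm_num), hp ⟨11, _⟩ (by norm_num)]
    norm_num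

end Cfsg.Agent.Spor.Yamaki
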