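import Mathlib

/-!
Permutations of twelve points as numbers, for kernel checks.
-/

set_option autoImplicit false
set_option maxRecDepth 100000
set_option Elab.async false

namespace Cfsg.Agent.Spor.Yamaki

open Equiv

abbrev P12 := Perm (Fin 12)

/-- the digit of a code -/
def dg (a i : ℕ) : ℕ := (a >>> (4 * i)) % 16

/-- code of a table -/
def tab (f : ℕ → ℕ) : ℕ :=
  f 0 + 16 * (f 1 + 16 * (f 2 + 16 * (f 3 + 16 * (f 4 + 16 * (f 5 + 16 * (f 6 + 16 * (f 7 +
    16 * (f 8 + 16 * (f 9 + 16 * (f 10 + 16 * f 11))))))))))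

/-- product of codes -/
def mN (a b : ℕ) : ℕ := tab fun i => dg a (dg b i)

/-- a point -/
def fi (i : ℕ) : Fin 12 := ⟨i % 12, Nat.mod_lt _ (by norm_num)⟩

theorem fi_eq {i : ℕ} (h : i < 12) : fi i = ⟨i, h⟩ := Fin.ext (Nat.mod_eq_of_lt h)

/-- code of a permutation -/
def enc (p : P12) : ℕ := tab fun i => (p (fi i)).val

theorem dg_tab (f : ℕ → ℕ) (hf : ∀ i, f i < 16) : ∀ i < 12, dg (tab f) i = f i := by
  intro i hi
  have := hf 0; have := hf 1; have := hf 2; have := hf 3; have := hf 4; have := hf 5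
  have := hf 6; have := hf 7; have := hf 8; have := hf 9; have := hf 10; have := hf 11
  unfold dg tab
  rw [Nat.shiftRight_eq_div_pow]
  interval_cases i <;> norm_num <;> omega

theorem dg_enc (p : P12) {i : ℕ} (hi : i < 12) : dg (enc p) i = (p ⟨i, hi⟩).val := by
  rw [enc, dg_tab _ (fun j => by have := (p (fi j)).isLt; omega) i hi, fi_eq hi]

theorem tab_congr {f g : ℕ → ℕ} (h : ∀ i < 12, f i = g i) : tab f = tab g := by
  unfold tab
  rw [h 0 (by omega), h 1 (by omega), h 2 (by omega), h 3 (by omega), h 4 (by omega), h 5 (by omega),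
    h 6 (by omega), h 7 (by omega), h 8 (by omega), h 9 (by omega), h 10 (by omega), h 11 (by omega)]

theorem enc_mul (p q : P12) : enc (p * q) = mN (enc p) (enc q) := by
  unfold mN
  conv_lhs => rw [enc]
  refine tab_congr fun i hi => ?_
  rw [dg_enc q hi, dg_enc p (q ⟨i, hi⟩).isLt, Perm.mul_apply, fi_eq hi]

theorem enc_inj {p q : P12} (h : enc p = enc q) : p = q := by
  refine Equiv.ext fun i => Fin.ext ?_
  rw [← dg_enc p i.isLt, h, dg_enc q i.isLt]

/-- commuting codes -/
def cm (a b : ℕ) : Bool := Nat.beq (mN a b) (mN b a)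

theorem cm_iff {p q : P12} : cm (enc p) (enc q) = true ↔ p * q = q * p := by
  rw [cm, Nat.beq_eq, ← enc_mul, ← enc_mul]
  exact ⟨enc_inj, fun h => h ▸ rfl⟩

theorem beq_enc {p q : P12} : Nat.beq (enc p) (enc q) = true ↔ p = q := by
  rw [Nat.beq_eq]
  exact ⟨enc_inj, fun h => h ▸ rfl⟩

/-- code of the identity -/
def idN : ℕ := tab fun i => i

theorem enc_one : enc 1 = idN := tab_congr fun i hi => by simp [fi_eq hi]

/-- number of moved points -/
def moved (a : ℕ) : ℕ := ((List.range 12).filter fun i => !(Nat.beq (dg a i) i)).length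

theorem moved_enc (p : P12) : moved (enc p) = p.support.card := by
  have h : ∀ i : Fin 12, (!(Nat.beq (dg (enc p) i) i)) = decide (i ∈ p.support) := by
    intro i
    rw [Bool.eq_iff_iff, decide_eq_true_iff, Perm.mem_support, dg_enc p i.isLt]
    rw [Bool.not_eq_true', ← Bool.not_eq_true, Nat.beq_eq, Fin.val_inj]
  rw [moved, ← List.map_coe_finRange_eq_range, List.filter_map, List.length_map]
  simp only [Function.comp_def, h]
  rw [← List.toFinset_card_of_nodup ((List.nodup_finRange 12).filter _)]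
  congr 1
  ext i
  simp

/-- the fixed-point-free involution -/
def tp : P12 := swap 0 1 * swap 2 3 * swap 4 5 * swap 6 7 * swap 8 9 * swap 10 11

/-- the three blocks acted on by translations -/
def avAt (v i : ℕ) : ℕ := 4 * (i / 4) + ((i % 4) ^^^ ((v >>> (2 * (i / 4))) % 4))

theorem avAt_lt : ∀ v : Fin 64, ∀ i : Fin 12, avAt v.val i.val < 12 ∧ avAt v.val (avAt v.val i.val) = i.val := by
  decide +kernel

/-- a translation of the blocks -/
def av (v : Fin 64) : P12 :=
  ⟨fun i => ⟨avAt v.val i.val, (avAt_lt v i).1⟩, fun i => ⟨avAt v.val i.val, (avAt_lt v i).1⟩,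
    fun i => Fin.ext (avAt_lt v i).2, fun i => Fin.ext (avAt_lt v i).2⟩

/-- code of a translation -/
def avN (v : ℕ) : ℕ := tab fun i => avAt v i

theorem enc_av (v : Fin 64) : enc (av v) = avN v.val := tab_congr fun i hi => by
  show avAt v.val (fi i).val = avAt v.val i
  rw [fi_eq hi]

end Cfsg.Agent.Spor.Yamaki
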