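import Cfsg.Agent.Lib.Spor.Yamaki.Model

/-!
A finite group with an involution centraliser of the given shape, and two automorphisms of the model.
-/

set_option autoImplicit false
set_option maxRecDepth 100000
set_option Elab.async false

universe u

namespace Cfsg.Agent.Spor.Yamaki

open Equiv Subgroup

/-- the central element of the model -/
def tp0 : C0 := ⟨tp, tp_mem⟩

/-- the Sylow subgroup inside the model -/
def S0' : Subgroup C0 := S0.subgroupOf C0

theorem card_S0' : Nat.card S0' = 512 := by
  rw [S0', Nat.card_congr (subgroupOfEquivOfLe S0_le).toEquiv, card_S0]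

theorem isPGroup_S0' : IsPGroup 2 S0' := IsPGroup.of_card (n := 9) (by rw [card_S0']; norm_num)

/-- the configuration -/
structure Ctx (G : Type u) [Group G] where
  φ : C0 →* G
  inj : Function.Injective φ
  range_eq : φ.range = centralizer ({φ tp0} : Set G)
  sylow : ∀ P : Sylow 2 G, Nat.card P = 512

namespace Ctx

variable {G : Type u} [Group G] (D : Ctx G)

/-- the involution -/
def α : G := D.φ tp0

theorem mem_range {g : G} : g ∈ D.φ.range ↔ g * D.α = D.α * g := by
  rw [D.range_eq, mem_centralizer_singleton_iff]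
  rfl

theorem comm (x : C0) : D.φ x * D.α = D.α * D.φ x := D.mem_range.1 ⟨x, rfl⟩

theorem exists_pre {g : G} (h : g * D.α = D.α * g) : ∃ x : C0, D.φ x = g := D.mem_range.2 h

/-- composing with an automorphism fixing the central element -/
def twist (τ : C0 ≃* C0) (hτ : τ tp0 = tp0) : Ctx G where
  φ := D.φ.comp τ.toMonoidHom
  inj := D.inj.comp τ.injective
  range_eq := by
    rw [MonoidHom.range_eq_map, ← map_map, map_top_of_surjective _ τ.surjective, ← MonoidHom.range_eq_map,
      D.range_eq]
    show centralizer ({D.φ tp0} : Set G) = centralizer ({D.φ (τ tp0)} : Set G)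
    rw [hτ]
  sylow := D.sylow

theorem twist_α (τ : C0 ≃* C0) (hτ : τ tp0 = tp0) : (D.twist τ hτ).α = D.α := congrArg D.φ hτ

/-- the Sylow subgroup -/
noncomputable def P [Finite G] : Sylow 2 G :=
  Sylow.ofCard (S0'.map D.φ) (by
    haveI : Fact (Nat.Prime 2) := ⟨Nat.prime_two⟩
    obtain ⟨Q⟩ : Nonempty (Sylow 2 G) := inferInstance
    rw [card_map_of_injective D.inj, card_S0', ← D.sylow Q, Q.card_eq_multiplicity])

theorem mem_P [Finite G] {g : G} : g ∈ (D.P : Subgroup G) ↔ ∃ x : C0, x.1 ∈ S0 ∧ D.φ x = g := by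
  show g ∈ ((Sylow.ofCard (S0'.map D.φ) _ : Sylow 2 G) : Subgroup G) ↔ _
  rw [Sylow.coe_ofCard, mem_map]
  rfl

end Ctx

variable {G : Type u} [Group G] [Finite G]

theorem exists_ctx (α : G) (hα : orderOf α = 2) (S : Sylow 2 G)
    (hαS : α ∈ (S : Subgroup G) ⊓ centralizer ((S : Subgroup G) : Set G))
    (hC : Nonempty (centralizer ({α} : Set G) ≃* C0)) : ∃ D : Ctx G, D.α = α := by
  haveI : Fact (Nat.Prime 2) := ⟨Nat.prime_two⟩
  obtain ⟨e⟩ := hC
  set φ : C0 →* G := (centralizer ({α} : Set G)).subtype.comp e.symm.toMonoidHom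
  have hinj : Function.Injective φ := Subtype.val_injective.comp e.symm.injective
  have hrange : φ.range = centralizer ({α} : Set G) := by
    rw [MonoidHom.range_eq_map, ← map_map, map_top_of_surjective _ e.symm.surjective, ← MonoidHom.range_eq_map,
      Subgroup.range_subtype]
  obtain ⟨hαS, hαZ⟩ := mem_inf.1 hαS
  have hαC : α ∈ centralizer ({α} : Set G) := mem_centralizer_singleton_iff.2 rfl
  set z : C0 := e ⟨α, hαC⟩
  have hz2 : z * z = 1 := by
    rw [← map_mul, ← map_one e]
    refine congrArg e (Subtype.ext ?_)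
    show α * α = 1
    rw [← pow_two, ← hα, pow_orderOf_eq_one]
  have hzne : z ≠ 1 := by
    intro h
    have h1 := congrArg Subtype.val (e.injective (h.trans (map_one e).symm))
    rw [show α = 1 from h1] at hα
    simp at hα
  have hzc : ∀ q : C0, z * q = q * z := fun q => by
    rw [show q = e (e.symm q) from (e.apply_symm_apply q).symm, ← map_mul, ← map_mul]
    exact congrArg e (Subtype.ext (mem_centralizer_singleton_iff.1 (e.symm q).2).symm)
  have hzS : z.1 ∈ S0 := by
    haveI : (zpowers z).Normal := ⟨fun a ha q => by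
      obtain ⟨k, rfl⟩ := mem_zpowers_iff.1 ha
      have hcq : Commute q z := (hzc q).symm
      rw [(hcq.zpow_right k).eq, mul_inv_cancel_right]
      exact zpow_mem (mem_zpowers z) k⟩
    have hp : IsPGroup 2 (zpowers z) := IsPGroup.of_card (n := 1) (by
      rw [Nat.card_zpowers, pow_one, orderOf_eq_prime (by rw [pow_two, hz2]) hzne])
    obtain ⟨m, hm⟩ := IsPGroup.iff_card.1 (isPGroup_S0'.to_sup_of_normal_right hp)
    have hle : 512 ∣ Nat.card (S0' ⊔ zpowers z : Subgroup C0) := card_S0' ▸ card_dvd_of_le le_sup_left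
    have hdvd := card_subgroup_dvd_card (S0' ⊔ zpowers z : Subgroup C0)
    rw [card_C0, hm] at hdvd
    rw [hm] at hle
    have hm9 : m ≤ 9 := by
      by_contra h
      have := (pow_dvd_pow 2 (show 10 ≤ m by omega)).trans hdvd
      norm_num at this
    have : S0' = S0' ⊔ zpowers z := eq_of_le_of_card_ge le_sup_left (by
      rw [card_S0', hm]
      exact (Nat.pow_le_pow_right two_pos hm9).trans (by norm_num))
    have h1 : z ∈ S0' := this ▸ mem_sup_right (mem_zpowers z)
    exact h1
  have hztp : z = tp0 := by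
    rcases central_S0 hzS (fun q hq => congrArg Subtype.val (hzc ⟨q, hq⟩)) with h | h
    · exact absurd (Subtype.ext h) hzne
    · exact Subtype.ext h
  have hφ : φ tp0 = α := by
    rw [← hztp]
    exact congrArg Subtype.val (e.symm_apply_apply _)
  have hSC : (S : Subgroup G) ≤ centralizer ({α} : Set G) := fun s hs =>
    mem_centralizer_singleton_iff.2 (mem_centralizer_iff.1 hαZ s hs)
  refine ⟨⟨φ, hinj, by rw [hφ, hrange], fun P => ?_⟩, hφ⟩
  rw [P.card_eq_multiplicity, ← S.card_eq_multiplicity]
  obtain ⟨k, hk⟩ := IsPGroup.iff_card.1 S.2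
  obtain ⟨Q, hQ⟩ := (isPGroup_S0'.map φ).exists_le_sylow
  have h1 := card_le_of_le hQ
  rw [card_map_of_injective hinj, card_S0', Q.card_eq_multiplicity, ← S.card_eq_multiplicity] at h1
  have h2 := card_dvd_of_le hSC
  rw [Nat.card_congr e.toEquiv, card_C0] at h2
  change Nat.card ((S : Subgroup G)) = 512
  rw [hk] at h2
  have hk9 : k ≤ 9 := by
    by_contra h
    have := (pow_dvd_pow 2 (show 10 ≤ k by omega)).trans h2
    norm_num at this
  have h3 : Nat.card ((S : Subgroup G)) ≤ 512 := by
    rw [hk]; exact (Nat.pow_le_pow_right two_pos hk9).trans (by norm_num)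
  omega

/-- the pair of a point -/
def pr (j : Fin 12) : Fin 6 := ⟨j.val / 2, by omega⟩

/-- the first point of a pair -/
def fst6 (i : Fin 6) : Fin 12 := ⟨2 * i.val, by omega⟩

theorem pr_facts : (∀ j, pr (tp j) = pr j) ∧ (∀ j, j = fst6 (pr j) ∨ j = tp (fst6 (pr j))) ∧
    ∀ i, pr (fst6 i) = i := by decide +kernel

theorem pr_apply (x : C0) (j : Fin 12) : pr (x.1 j) = pr (x.1 (fst6 (pr j))) := by
  rcases pr_facts.2.1 j with h | h
  · rw [← h]
  · have hc := (mem_C0.1 x.2).2
    conv_lhs => rw [h]
    rw [← Perm.mul_apply, hc, Perm.mul_apply, pr_facts.1]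

/-- the action on the six pairs -/
def pairPerm : C0 →* Perm (Fin 6) :=
  MonoidHom.toHomPerm
    { toFun := fun x i => pr (x.1 (fst6 i))
      map_one' := funext fun i => pr_facts.2.2 i
      map_mul' := fun x y => funext fun i => pr_apply x (y.1 (fst6 i)) }

theorem pairPerm_apply (x : C0) (i : Fin 6) : pairPerm x i = pr (x.1 (fst6 i)) := rfl

/-- sign on the pairs -/
def eps : C0 →* ℤˣ := Perm.sign.comp pairPerm

theorem eps_tp : eps tp0 = 1 := by
  have : pairPerm tp0 = 1 := Equiv.ext fun i => by
    rw [pairPerm_apply, show tp0.1 = tp from rfl, pr_facts.1, pr_facts.2.2]; rfl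
  rw [eps, MonoidHom.comp_apply, this, map_one]

theorem tp0_sq : tp0 * tp0 = 1 := Subtype.ext tp_facts.1

theorem tp0_comm (x : C0) : x * tp0 = tp0 * x := Subtype.ext (mem_C0.1 x.2).2

/-- multiplication of the odd elements by the centre -/
def twistFun (x : C0) : C0 := if eps x = 1 then x else x * tp0

theorem twistFun_mul (x y : C0) : twistFun (x * y) = twistFun x * twistFun y := by
  have hu : ∀ a : ℤˣ, a = 1 ∨ a = -1 := Int.units_eq_one_or
  simp only [twistFun, map_mul]
  rcases hu (eps x) with hx | hx <;> rcases hu (eps y) with hy | hy <;> rw [hx, hy] <;>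
    simp only [show ((-1 : ℤˣ) ≠ 1) by decide, mul_one, one_mul, if_true, if_false, neg_mul_neg]
  · rw [mul_assoc]
  · rw [mul_assoc, mul_assoc, tp0_comm]
  · rw [mul_assoc x tp0, ← mul_assoc tp0, ← tp0_comm y, mul_assoc y, tp0_sq, mul_one]

theorem twistFun_twistFun (x : C0) : twistFun (twistFun x) = x := by
  by_cases h : eps x = 1
  · have h1 : twistFun x = x := if_pos h
    rw [h1, h1]
  · have h1 : twistFun x = x * tp0 := if_neg h
    have h2 : twistFun (x * tp0) = x * tp0 * tp0 := if_neg (by rwa [map_mul, eps_tp, mul_one])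
    rw [h1, h2, mul_assoc, tp0_sq, mul_one]

/-- the automorphism exchanging the two kinds of transposition lifts -/
def signTwist : C0 ≃* C0 where
  toFun := twistFun
  invFun := twistFun
  left_inv := twistFun_twistFun
  right_inv := twistFun_twistFun
  map_mul' := twistFun_mul

theorem signTwist_apply (x : C0) : signTwist x = if eps x = 1 then x else x * tp0 := rfl

theorem signTwist_tp : signTwist tp0 = tp0 := by rw [signTwist_apply, if_pos eps_tp]

end Cfsg.Agent.Spor.Yamaki
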