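/-!
Codes of the centraliser of a fixed-point-free involution on eight points, in normal-form order.
-/

set_option autoImplicit false

namespace Cfsg.Agent.Spor.Yamaki

/-- codes of the normal forms -/
def m8L : List Nat :=
  [0xba9876543210, 0xba9854763210, 0xba9832765410, 0xba9876325410, 0xba9854327610, 0xba9832547610, 0xba9845761023, 0xba9876451023,
   0xba9810457623, 0xba9845107623, 0xba9876104523, 0xba9810764523, 0xba9832106745, 0xba9810326745, 0xba9867321045, 0xba9832671045,
   0xba9810673245, 0xba9867103245, 0xba9810235467, 0xba9823105467, 0xba9854102367, 0xba9810542367, 0xba9823541067, 0xba9854231067,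
   0xba9845760132, 0xba9876450132, 0xba9801457632, 0xba9845017632, 0xba9876014532, 0xba9801764532, 0xba9867453210, 0xba9845673210,
   0xba9832674510, 0xba9867324510, 0xba9845326710, 0xba9832456710, 0xba9801325467, 0xba9832015467, 0xba9854013267, 0xba9801543267,
   0xba9832540167, 0xba9854320167, 0xba9832107654, 0xba9810327654, 0xba9876321054, 0xba9832761054, 0xba9810763254, 0xba9876103254,
   0xba9832016754, 0xba9801326754, 0xba9867320154, 0xba9832670154, 0xba9801673254, 0xba9867013254, 0xba9810325476, 0xba9832105476,
   0xba9854103276, 0xba9810543276, 0xba9832541076, 0xba9854321076, 0xba9867542310, 0xba9854672310, 0xba9823675410, 0xba9867235410,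
   0xba9854236710, 0xba9823546710, 0xba9854760123, 0xba9876540123, 0xba9801547623, 0xba9854017623, 0xba9876015423, 0xba9801765423,
   0xba9801235476, 0xba9823015476, 0xba9854012376, 0xba9801542376, 0xba9823540176, 0xba9854230176, 0xba9832017645, 0xba9801327645,
   0xba9876320145, 0xba9832760145, 0xba9801763245, 0xba9876013245, 0xba9854761032, 0xba9876541032, 0xba9810547632, 0xba9854107632,
   0xba9876105432, 0xba9810765432, 0xba9876452310, 0xba9845762310, 0xba9823764510, 0xba9876234510, 0xba9845237610, 0xba9823457610,
   0xba9867452301, 0xba9845672301, 0xba9823674501, 0xba9867234501, 0xba9845236701, 0xba9823456701, 0xba9854670132, 0xba9867540132,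
   0xba9801546732, 0xba9854016732, 0xba9867015432, 0xba9801675432, 0xba9823017654, 0xba9801237654, 0xba9876230154, 0xba9823760154,
   0xba9801762354, 0xba9876012354, 0xba9801324576, 0xba9832014576, 0xba9845013276, 0xba9801453276, 0xba9832450176, 0xba9845320176,
   0xba9854671023, 0xba9867541023, 0xba9810546723, 0xba9854106723, 0xba9867105423, 0xba9810675423, 0xba9876542301, 0xba9854762301,
   0xba9823765401, 0xba9876235401, 0xba9854237601, 0xba9823547601, 0xba9810234576, 0xba9823104576, 0xba9845102376, 0xba9810452376,
   0xba9823451076, 0xba9845231076, 0xba9823016745, 0xba9801236745, 0xba9867230145, 0xba9823670145, 0xba9801672345, 0xba9867012345,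
   0xba9823107645, 0xba9810237645, 0xba9876231045, 0xba9823761045, 0xba9810762345, 0xba9876102345, 0xba9801234567, 0xba9823014567,
   0xba9845012367, 0xba9801452367, 0xba9823450167, 0xba9845230167, 0xba9876453201, 0xba9845763201, 0xba9832764501, 0xba9876324501,
   0xba9845327601, 0xba9832457601, 0xba9845671032, 0xba9867451032, 0xba9810456732, 0xba9845106732, 0xba9867104532, 0xba9810674532,
   0xba9810324567, 0xba9832104567, 0xba9845103267, 0xba9810453267, 0xba9832451067, 0xba9845321067, 0xba9823106754, 0xba9810236754,
   0xba9867231054, 0xba9823671054, 0xba9810672354, 0xba9867102354, 0xba9845670123, 0xba9867450123, 0xba9801456723, 0xba9845016723,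
   0xba9867014523, 0xba9801674523, 0xba9867543201, 0xba9854673201, 0xba9832675401, 0xba9867325401, 0xba9854326701, 0xba9832546701]

end Cfsg.Agent.Spor.Yamaki
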