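import Cfsg.Agent.Lib.Spor.Yamaki.TransferTwo
import Cfsg.Agent.Lib.Spor.Yamaki.EightData
import Cfsg.Agent.Lib.Spor.MTwelve.SwapCase.Cases

/-!
The subgroup generated by the elements of odd order is alternating of degree eight or nine.
-/

set_option autoImplicit false
set_option maxRecDepth 100000
set_option Elab.async false

universe u

namespace Cfsg.Agent.Spor.Yamaki

open Equiv Subgroup Cfsg.Agent.MTwelve.CentShape Cfsg.Agent.MTwelve.SwapCase

/-- position of a normal form -/
def elIdx (X : El) : ℕ :=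
  (((if X.1.1 then 4 else 0) + X.1.2.1.val) * 4 + X.1.2.2.val) * 6 + X.2.1.val * 2 + (if X.2.2 then 1 else 0)

/-- the rotation of the pairs -/
def mv3 : P12 := swap 2 4 * swap 4 6 * (swap 3 5 * swap 5 7)

/-- the first quaternion unit -/
def mqi : P12 := swap 0 2 * swap 2 1 * swap 1 3 * (swap 4 6 * swap 6 5 * swap 5 7)

/-- the second quaternion unit -/
def mqi' : P12 := swap 0 3 * swap 3 1 * swap 1 2 * (swap 4 6 * swap 6 5 * swap 5 7)

/-- the reflection -/
def mqt : P12 := swap 4 6 * swap 5 7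

/-- code of the first point exchange -/
def swN : ℕ := 0xba9876543201

theorem enc_units : enc mv3 = 0xba9832765410 ∧ enc mqi = 0xba9845760132 ∧ enc mqi' = 0xba9845761023 ∧
    enc mqt = 0xba9854763210 ∧ enc (swap 0 1) = swN := by decide +kernel

theorem units_facts : (cm 0xba9832765410 tpN && cm 0xba9832765410 (avN 16) &&
    [0xba9845760132, 0xba9845761023, 0xba9854763210].all fun a =>
      fixTop a && (List.range 512).any fun k => Nat.beq (slAt k) a) = true := by decide +kernel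

attribute [local irreducible] mN enc tab avN slAt gN idxN fixTop

theorem unit_mem {p : P12} (hp : enc p ∈ [0xba9845760132, 0xba9845761023, 0xba9854763210]) :
    p ∈ S0 ∧ fixTop (enc p) = true := by
  have h := units_facts
  rw [Bool.and_eq_true] at h
  have h1 := List.all_eq_true.1 h.2 _ hp
  rw [Bool.and_eq_true, List.any_eq_true] at h1
  obtain ⟨h2, k, hk, hk'⟩ := h1
  obtain ⟨q, hq, hqe⟩ := SL_surj k (List.mem_range.1 hk)
  rw [Nat.beq_eq.mp hk'] at hqe
  exact ⟨enc_inj hqe ▸ hq, h2⟩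

theorem mv3_mem : mv3 ∈ C0 ∧ cm (enc mv3) (avN 16) = true := by
  have h := units_facts
  simp only [Bool.and_eq_true] at h
  obtain ⟨⟨h1, h2⟩, -⟩ := h
  refine ⟨mem_C0.2 ⟨by simp [mv3, Perm.sign_swap'], cm_iff.1 ?_⟩, ?_⟩
  · rw [enc_units.1, probe_enc.2.1]; exact h1
  · rw [enc_units.1]; exact h2

theorem mqi_mem : mqi ∈ C0 ∧ mqi' ∈ C0 ∧ mqt ∈ C0 := by
  obtain ⟨-, e1, e2, e3, -⟩ := enc_units
  exact ⟨S0_le (unit_mem (by rw [e1]; simp)).1, S0_le (unit_mem (by rw [e2]; simp)).1,
    S0_le (unit_mem (by rw [e3]; simp)).1⟩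

/-- the second shape inside the model -/
def mGens : Gens true false C0 where
  z := a0 5
  i := ⟨mqi, mqi_mem.1⟩
  i' := ⟨mqi', mqi_mem.2.1⟩
  v := ⟨mv3, mv3_mem.1⟩
  t := ⟨mqt, mqi_mem.2.2⟩
  z_ne := by decide +kernel
  zz := by decide +kernel
  zi := Subtype.ext (by decide +kernel)
  zi' := Subtype.ext (by decide +kernel)
  zv := Subtype.ext (by decide +kernel)
  zt := Subtype.ext (by decide +kernel)
  ii := by decide +kernel
  ii' := by decide +kernel
  ijk := by decide +kernel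
  ijk' := by decide +kernel
  c0 := Subtype.ext (by decide +kernel)
  c1 := Subtype.ext (by decide +kernel)
  c2 := Subtype.ext (by decide +kernel)
  v3 := by decide +kernel
  tvt := by decide +kernel
  tt := by decide +kernel
  ti := by decide +kernel
  ti' := by decide +kernel

theorem ev_code : ∀ X : El, enc (mGens.ev X).1 = m8L.getD (elIdx X) 0 := by decide +kernel

theorem ev_fix : (m8L.all fun a => fixTop a) = true := by decide +kernel

theorem m8_nodup : ((List.range 192).all fun i => (List.range 192).all fun j =>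
    Nat.beq i j || !(Nat.beq (m8L.getD i 0) (m8L.getD j 0))) = true := by decide +kernel

theorem idx_facts : (∀ X : El, elIdx X < 192) ∧ (∀ X Y : El, elIdx X = elIdx Y → X = Y) ∧
    ∀ k < 192, ∃ X : El, elIdx X = k := by decide +kernel

theorem m8_length : m8L.length = 192 := by decide +kernel

/-- code of an element given by the images of four points -/
def topCode (a b c d : ℕ) : ℕ :=
  tab fun i => if i < 2 then a ^^^ i else if i < 4 then b ^^^ (i - 2) else if i < 6 then c ^^^ (i - 4) else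
    if i < 8 then d ^^^ (i - 6) else i

theorem top_table : ((List.range 8).all fun a => (List.range 8).all fun b => (List.range 8).all fun c =>
    (List.range 8).all fun d => Nat.beq (a / 2) (b / 2) || Nat.beq (a / 2) (c / 2) || Nat.beq (a / 2) (d / 2) ||
      Nat.beq (b / 2) (c / 2) || Nat.beq (b / 2) (d / 2) || Nat.beq (c / 2) (d / 2) ||
        (m8L.any fun m => Nat.beq m (topCode a b c d) || Nat.beq m (mN (topCode a b c d) swN))) = true := by
  decide +kernel

theorem restr_table : ((List.range 4).all fun a => (List.range 4).all fun b => Nat.beq (a / 2) (b / 2) ||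
    (List.range 512).any fun k => Nat.beq (dg (slAt k) 8) (8 + a) && Nat.beq (dg (slAt k) 10) (8 + b)) = true := by
  decide +kernel

theorem tp_xor : ∀ j : Fin 12, (tp j).val = j.val ^^^ 1 ∧ (av 16 j = j ↔ j.val < 8) := by decide +kernel

theorem ev_inj : Function.Injective mGens.ev := by
  intro X Y h
  have h1 := congrArg (fun c : C0 => enc c.1) h
  simp only [ev_code] at h1
  refine idx_facts.2.1 X Y ?_
  have h2 := List.all_eq_true.1 (List.all_eq_true.1 m8_nodup _ (List.mem_range.2 (idx_facts.1 X)))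
    _ (List.mem_range.2 (idx_facts.1 Y))
  rw [h1] at h2
  simpa using h2

theorem ev_of_fixTop {c : C0} (hc : fixTop (enc c.1) = true) : ∃ X, mGens.ev X = c := by
  have hfix := fixTop_of_fix.1 hc
  have hlow : ∀ i : Fin 12, i.val < 8 → (c.1 i).val < 8 := by
    intro i hi
    by_contra h
    have h1 := hfix (c.1 i) (by omega)
    rw [c.1.injective h1] at h
    omega
  have hsw : ∀ i : Fin 12, c.1 (tp i) = tp (c.1 i) := fun i => by
    rw [← Perm.mul_apply, (mem_C0.1 c.2).2, Perm.mul_apply]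
  set a := (c.1 0).val with ha
  set b := (c.1 2).val with hb
  set cc := (c.1 4).val with hcc
  set d := (c.1 6).val with hd
  have hcode : enc c.1 = topCode a b cc d := by
    rw [enc, topCode]
    refine tab_congr fun i hi => ?_
    rw [fi_eq hi]
    have t : ∀ j : Fin 12, (c.1 (tp j)).val = (c.1 j).val ^^^ 1 := fun j => by rw [hsw, (tp_xor _).1]
    have e : tp 0 = 1 ∧ tp 2 = 3 ∧ tp 4 = 5 ∧ tp 6 = 7 := by decide +kernel
    interval_cases i <;> simp only [ha, hb, hcc, hd] <;> norm_num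
    all_goals first
      | rfl
      | exact congrArg Fin.val (hfix _ (by norm_num))
      | (have := t 0; rw [e.1] at this; exact this)
      | (have := t 2; rw [e.2.1] at this; exact this)
      | (have := t 4; rw [e.2.2.1] at this; exact this)
      | (have := t 6; rw [e.2.2.2] at this; exact this)
  have hne : ∀ i j : Fin 12, (c.1 i).val / 2 = (c.1 j).val / 2 → i.val / 2 = j.val / 2 := by
    intro i j h
    rcases pair_eq (c.1 i) (c.1 j) (Fin.ext h) with e | e
    · rw [c.1.injective e]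
    · rw [← hsw] at e
      rw [c.1.injective e, (tp_xor i).1]
      have : ∀ i : Fin 12, (i.val ^^^ 1) / 2 = i.val / 2 := by decide
      exact (this i).symm
  have ht := List.all_eq_true.1 (List.all_eq_true.1 (List.all_eq_true.1 (List.all_eq_true.1 top_table
    a (List.mem_range.2 (hlow 0 (by norm_num)))) b (List.mem_range.2 (hlow 2 (by norm_num))))
    cc (List.mem_range.2 (hlow 4 (by norm_num)))) d (List.mem_range.2 (hlow 6 (by norm_num)))
  simp only [Bool.or_eq_true, Nat.beq_eq, List.any_eq_true] at ht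
  obtain ⟨m, hm, hme⟩ : ∃ m ∈ m8L, m = topCode a b cc d ∨ m = mN (topCode a b cc d) swN := by
    rcases ht with (((((h | h) | h) | h) | h) | h) | h
    all_goals first
      | exact h
      | exact absurd (hne _ _ h) (by decide)
  obtain ⟨n, hn, rfl⟩ := List.getElem_of_mem hm
  obtain ⟨X, hX⟩ := idx_facts.2.2 n (m8_length ▸ hn)
  have hev : enc (mGens.ev X).1 = m8L[n] := by rw [ev_code, hX, List.getD_eq_getElem]
  rcases hme with e | e
  · exact ⟨X, Subtype.ext (enc_inj (by rw [hev, e, hcode]))⟩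
  · exfalso
    rw [← hcode, ← enc_units.2.2.2.2, ← enc_mul, ← hev] at e
    have h1 := (mem_C0.1 (mGens.ev X).2).1
    rw [enc_inj e, map_mul, (mem_C0.1 c.2).1, Perm.sign_swap (by decide)] at h1
    exact absurd h1 (by decide)

theorem fixTop_ev (X : El) : fixTop (enc (mGens.ev X).1) = true := by
  rw [ev_code]
  have hlt : elIdx X < m8L.length := m8_length.symm ▸ idx_facts.1 X
  rw [List.getD_eq_getElem _ _ hlt]
  exact List.all_eq_true.1 ev_fix _ (List.getElem_mem hlt)

namespace Data27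

variable {G : Type u} [Group G] [Finite G] (E : Data27 G)

theorem v_XB : E.D.φ ⟨mv3, mv3_mem.1⟩ ∈ E.XB := by
  refine subset_closure ⟨E.phi_mem_HB (c := ⟨mv3, mv3_mem.1⟩) mv3_mem.2, ?_⟩
  have h3 : (⟨mv3, mv3_mem.1⟩ : C0) ^ 3 = 1 := by rw [pow_three']; exact mGens.v3
  rcases (Nat.dvd_prime Nat.prime_three).1 (orderOf_dvd_of_pow_eq_one h3) with e | e <;>
    rw [orderOf_injective E.D.φ E.D.inj, e] <;> decide

end Data27

/-- Two fused classes of the core give the pattern with two classes. -/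
theorem two_of_pair {G : Type u} [Group G] [Finite G] {z : G} (P : Par z) (hXn : IsX z (P.ev (repC 1)))
    (hXa : IsX z (P.ev (repC 2))) : ∃ P' : Par z, Two P' := by
  have F : P.Fused 1 := P.fused_of_isX hXn
  have hall : ∀ m : Fin 3, m = 1 ∨ m = 2 ∨ m = 0 := by decide
  obtain ⟨s, ⟨h, -, hh⟩, k, -, hk⟩ :=
    P.pairing F (a := 2) (b := 0) (by decide) (by decide) (by decide)
  have hTs : IsX z (P.ev (repT s)) := (P.isX_lb_T hh).1 (hXa.conj h)
  have hTb : IsX z (P.ev (repT !s)) ↔ IsX z (P.ev (repC 0)) :=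
    ⟨fun e => ((P.isX_lb_T hk).2 e).of_conj, fun e => (P.isX_lb_T hk).1 (e.conj k)⟩
  have hXb : ¬ IsX z (P.ev (repC 0)) := by
    intro hXb
    refine P.not_all_fused fun {x} hxz hx2 hx1 => ?_
    have hTall : ∀ t : Bool, IsX z (P.ev (repT t)) := fun t => by
      by_cases e : t = s
      · exact e ▸ hTs
      · rw [show t = !s by cases t <;> cases s <;> simp_all]
        exact hTb.2 hXb
    rcases P.lb_of_invol hxz hx2 with e | e | ⟨m, e⟩ | e | e
    · exact absurd e hx1
    · exact ⟨1, by simp [e]⟩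
    · refine (P.isX_lb_C e).2 ?_
      rcases hall m with rfl | rfl | rfl <;> assumption
    · exact (P.isX_lb_T (s := false) (lab_repT.1.symm ▸ e)).2 (hTall _)
    · exact (P.isX_lb_T (s := true) (lab_repT.2.symm ▸ e)).2 (hTall _)
  exact P.exists_two (b := 0) (s := s) ⟨fun m hm => by
    rcases hall m with rfl | rfl | rfl
    exacts [hXn, hXa, absurd rfl hm], hXb, hTs, fun e => hXb (hTb.1 e)⟩

namespace Lift

variable {G : Type u} [Group G] [Finite G] {E : Data27 G} (L : Lift E)

include L in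
theorem unit_XB {c : C0} (hc : enc c.1 ∈ [0xba9845760132, 0xba9845761023, 0xba9854763210]) : E.D.φ c ∈ E.XB :=
  L.top_mem (unit_mem hc).1 (unit_mem hc).2

include L in
theorem ev_XB (X : El) : E.D.φ (mGens.ev X) ∈ E.XB := by
  obtain ⟨-, e1, e2, e3, -⟩ := enc_units
  have hH : ∀ c : C0, c ∈ E.XB.comap E.D.φ ↔ E.D.φ c ∈ E.XB := fun _ => Iff.rfl
  show mGens.ev X ∈ E.XB.comap E.D.φ
  have hv : mGens.v ∈ E.XB.comap E.D.φ := E.v_XB
  refine mul_mem (mGens.eq_mem (H := E.XB.comap E.D.φ) (L.unit_XB (by rw [show mGens.i.1 = mqi from rfl, e1]; simp))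
    (L.unit_XB (by rw [show mGens.i'.1 = mqi' from rfl, e2]; simp))
    (L.top_mem (x := a0 5) (av_mem 5) (fixTop_of_fix.2 (by decide +kernel)))
    (fun x hx => mul_mem (mul_mem hv hx) (inv_mem hv)) _) (mul_mem (pow_mem hv _) ?_)
  cases X.2.2
  · exact one_mem _
  · exact L.unit_XB (c := mGens.t) (by rw [show mGens.t.1 = mqt from rfl, e3]; simp)

/-- the involution inside -/
def sX : E.XB :=
  ⟨E.D.φ (a0 5), L.top_mem (x := a0 5) (av_mem 5) (fixTop_of_fix.2 (by decide +kernel))⟩

/-- the parametrisation of its centraliser -/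
noncomputable def parX : Par L.sX where
  ev X := ⟨E.D.φ (mGens.ev X), L.ev_XB X⟩
  mul X Y := Subtype.ext (by
    rw [Subgroup.coe_mul, ← map_mul, mGens.ev_mul])
  inj X Y h := ev_inj (E.D.inj (congrArg Subtype.val h))
  mem g := by
    constructor
    · intro h
      have h5 : g.1 * E.D.el 5 = E.D.el 5 * g.1 := congrArg Subtype.val h
      have h16 : g.1 * E.D.el 16 = E.D.el 16 * g.1 := E.mem_HB.1 (E.XB_le g.2)
      obtain ⟨c, hc⟩ := E.D.exists_pre (g := g.1) (by
        rw [← E.D.el_alpha, show (21 : Fin 64) = vx 5 16 by decide, ← E.D.el_mul, ← mul_assoc, h5, mul_assoc, h16,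
          mul_assoc])
      have h16' : c.1 * av 16 = av 16 * c.1 := congrArg Subtype.val
        (E.D.inj (a₁ := c * a0 16) (a₂ := a0 16 * c) (by rw [map_mul, map_mul, hc]; exact h16))
      have hhigh : ∀ j : Fin 12, 8 ≤ j.val → 8 ≤ (c.1 j).val := by
        intro j hj
        by_contra hlt
        have h1 := (tp_xor (c.1 j)).2.2 (by omega)
        rw [← Perm.mul_apply, ← h16', Perm.mul_apply] at h1
        have h2 := (tp_xor j).2.1 (c.1.injective h1)
        omega
      have h8 := hhigh 8 (by norm_num)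
      have h10 := hhigh 10 (by norm_num)
      have hne : (c.1 8).val / 2 ≠ (c.1 10).val / 2 := by
        intro h
        rcases pair_eq (c.1 8) (c.1 10) (Fin.ext h) with e | e
        · exact absurd (c.1.injective e) (by decide)
        · rw [← Perm.mul_apply, ← (mem_C0.1 c.2).2, Perm.mul_apply] at e
          exact absurd (c.1.injective e) (by decide +kernel)
      have := (c.1 8).isLt; have := (c.1 10).isLt
      have ht := List.all_eq_true.1 (List.all_eq_true.1 restr_table ((c.1 8).val - 8) (List.mem_range.2 (by omega)))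
        ((c.1 10).val - 8) (List.mem_range.2 (by omega))
      simp only [Bool.or_eq_true, Nat.beq_eq, List.any_eq_true, Bool.and_eq_true] at ht
      obtain ⟨k, hk, hk8, hk10⟩ := ht.resolve_left (by omega)
      obtain ⟨p, hp, hpe⟩ := SL_surj k (List.mem_range.1 hk)
      rw [← hpe, dg_enc p (show 8 < 12 by norm_num)] at hk8
      rw [← hpe, dg_enc p (show 10 < 12 by norm_num)] at hk10
      have e8 : p 8 = c.1 8 := Fin.ext (by
        show (p ⟨8, _⟩).val = _
        omega)
      have e10 : p 10 = c.1 10 := Fin.ext (by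
        show (p ⟨10, _⟩).val = _
        omega)
      set pc : C0 := ⟨p, S0_le hp⟩
      have hagree : ∀ j : Fin 12, 8 ≤ j.val → p j = c.1 j := by
        have ht9 : tp 8 = 9 ∧ tp 10 = 11 := by decide +kernel
        have e9 : p 9 = c.1 9 := by
          rw [← ht9.1, ← Perm.mul_apply, (mem_C0.1 pc.2).2, Perm.mul_apply, e8, ← Perm.mul_apply tp,
            ← (mem_C0.1 c.2).2, Perm.mul_apply]
        have e11 : p 11 = c.1 11 := by
          rw [← ht9.2, ← Perm.mul_apply, (mem_C0.1 pc.2).2, Perm.mul_apply, e10, ← Perm.mul_apply tp,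
            ← (mem_C0.1 c.2).2, Perm.mul_apply]
        intro j hj
        have : j = 8 ∨ j = 9 ∨ j = 10 ∨ j = 11 := by revert j; decide
        rcases this with rfl | rfl | rfl | rfl <;> assumption
      obtain ⟨X, hX⟩ := ev_of_fixTop (c := pc⁻¹ * c) (fixTop_of_fix.2 fun j hj => by
        show p⁻¹ (c.1 j) = j
        rw [← hagree j hj, Perm.inv_def, Equiv.symm_apply_apply])
      have hpX : E.D.φ pc ∈ E.XB := by
        have h1 := mul_mem g.2 (inv_mem (L.ev_XB X))
        rwa [← hc, hX, ← map_inv, ← map_mul, mul_inv_rev, inv_inv, mul_inv_cancel_left] at h1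
      have hpf := fixTop_of_fix.1 (L.top_only (x := pc) hp hpX)
      obtain ⟨Y, hY⟩ := ev_of_fixTop (c := c) (fixTop_of_fix.2 fun j hj => by rw [← hagree j hj]; exact hpf j hj)
      exact ⟨Y, Subtype.ext ((congrArg E.D.φ hY).trans hc)⟩
    · rintro ⟨X, rfl⟩
      refine Subtype.ext ?_
      show E.D.φ (mGens.ev X) * E.D.φ (a0 5) = E.D.φ (a0 5) * E.D.φ (mGens.ev X)
      rw [← map_mul, ← map_mul, show a0 5 = mGens.ev ez from (mGens.ev_ez).symm, mGens.ev_mul, mGens.ev_mul]
      have : ∀ X : El, emul true false X ez = emul true false ez X := by decide +kernel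
      rw [this]
  ev_z := Subtype.ext (congrArg E.D.φ mGens.ev_ez)

/-- Two classes of the core are fused to the involution. -/
theorem fused_labels : (∃ x : E.XB, L.parX.Lb (clC 1) x ∧ IsX L.sX x) ∧
    ∃ x : E.XB, L.parX.Lb (clC 2) x ∧ IsX L.sX x := by
  have h8 : E.D.φ ⟨gP 8, gP_mem 8⟩ ∈ E.XB := L.low_gen 8 (by simp)
  set y' := E.D.φ ⟨gP 8, gP_mem 8⟩ * L.y * (E.D.φ ⟨gP 8, gP_mem 8⟩)⁻¹
  have hsw : ∀ v w : Fin 64, Nat.beq (mN (gN 8) (avN v.val)) (mN (avN w.val) (gN 8)) = true →
      E.D.φ ⟨gP 8, gP_mem 8⟩ * E.D.el v * (E.D.φ ⟨gP 8, gP_mem 8⟩)⁻¹ = E.D.el w := by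
    intro v w h
    refine E.D.el_conj _ (Subtype.ext (enc_inj ?_))
    show enc (gP 8 * av v) = enc (av w * gP 8)
    rw [enc_mul, enc_mul, enc_gP, enc_av, enc_av]
    exact Nat.beq_eq.mp h
  have hg : (y' * L.y) * E.D.el 5 * (y' * L.y)⁻¹ = E.D.el 15 := by
    rw [mul_inv_rev, show y' * L.y * E.D.el 5 * (L.y⁻¹ * y'⁻¹) = y' * (L.y * E.D.el 5 * L.y⁻¹) * y'⁻¹ by group,
      L.conj, show sig3 5 = 7 by decide]
    show E.D.φ ⟨gP 8, gP_mem 8⟩ * L.y * (E.D.φ ⟨gP 8, gP_mem 8⟩)⁻¹ * E.D.el 7 *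
      (E.D.φ ⟨gP 8, gP_mem 8⟩ * L.y * (E.D.φ ⟨gP 8, gP_mem 8⟩)⁻¹)⁻¹ = _
    generalize hb : E.D.φ ⟨gP 8, gP_mem 8⟩ = B at hsw
    have hi : B⁻¹ = B := inv_eq_of_mul_eq_one_right (by
      rw [← hb, ← map_mul, show (⟨gP 8, gP_mem 8⟩ : C0) * ⟨gP 8, gP_mem 8⟩ = 1 from Subtype.ext (gP_sq 8), map_one])
    calc B * L.y * B⁻¹ * E.D.el 7 * (B * L.y * B⁻¹)⁻¹ = B * (L.y * (B⁻¹ * E.D.el 7 * B⁻¹⁻¹) * L.y⁻¹) * B⁻¹ := by
          group
      _ = B * E.D.el (sig3 13) * B⁻¹ := by rw [hi, hsw 7 13 (by decide +kernel), L.conj]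
      _ = E.D.el 15 := hsw _ _ (by decide +kernel)
  have hyX : y' ∈ E.XB := mul_mem (mul_mem h8 L.y_mem_XB) (inv_mem h8)
  have h14 : (L.y * (y' * L.y)) * E.D.el 5 * (L.y * (y' * L.y))⁻¹ = E.D.el 14 := by
    rw [show (14 : Fin 64) = sig3 15 by decide, ← L.conj, ← hg]
    group
  have hlab : lab ((true, 2, 3), 0, false) = clC 1 ∧ lab ((true, 3, 2), 0, false) = clC 2 ∧
      enc (av 14) = m8L.getD (elIdx ((true, 2, 3), 0, false)) 0 ∧
      enc (av 15) = m8L.getD (elIdx ((true, 3, 2), 0, false)) 0 := by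
    rw [enc_av, enc_av]
    decide +kernel
  obtain ⟨l1, l2, e14, e15⟩ := hlab
  refine ⟨⟨_, ⟨_, rfl, l1⟩, ⟨⟨_, mul_mem L.y_mem_XB (mul_mem hyX L.y_mem_XB)⟩, Subtype.ext ?_⟩⟩,
    ⟨_, ⟨_, rfl, l2⟩, ⟨⟨_, mul_mem hyX L.y_mem_XB⟩, Subtype.ext ?_⟩⟩⟩
  · refine h14.trans (congrArg E.D.φ (Subtype.ext (enc_inj ?_)))
    rw [ev_code]
    exact e14
  · refine hg.trans (congrArg E.D.φ (Subtype.ext (enc_inj ?_)))
    rw [ev_code]
    exact e15

include L in
/-- The subgroup is alternating of degree eight or nine. -/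
theorem XB_alt : Nonempty (E.XB ≃* alternatingGroup (Fin 8)) ∨ Nonempty (E.XB ≃* alternatingGroup (Fin 9)) := by
  obtain ⟨⟨x1, hl1, hx1⟩, x2, hl2, hx2⟩ := L.fused_labels
  obtain ⟨P', T⟩ := two_of_pair L.parX ((L.parX.isX_lb_C hl1).1 hx1) ((L.parX.isX_lb_C hl2).1 hx2)
  exact T.iso_alt

end Lift

end Cfsg.Agent.Spor.Yamaki
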