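import Cfsg.Agent.Lib.Spor.Yamaki.AFacts
import Cfsg.Agent.S1243

/-!
The fusion of the central involution in the translation group: three possibilities.
-/

set_option autoImplicit false
set_option maxRecDepth 100000
set_option Elab.async false

universe u

namespace Cfsg.Agent.Spor.Yamaki

open Equiv Subgroup

/-- translations as elements of the model -/
def a0 (v : Fin 64) : C0 := ⟨av v, S0_le (av_mem v)⟩

theorem a0_twentyone : a0 21 = tp0 :=
  Subtype.ext (enc_inj (by rw [show (a0 21).1 = av 21 from rfl, enc_av, show tp0.1 = tp from rfl, probe_enc.2.1]; exact avN_tp))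

namespace Ctx

variable {G : Type u} [Group G] (D : Ctx G)

/-- the translation group in `G` -/
def A : Subgroup G := (A0.subgroupOf C0).map D.φ

/-- a translation in `G` -/
def el (v : Fin 64) : G := D.φ (a0 v)

theorem mem_A {g : G} : g ∈ D.A ↔ ∃ v, D.el v = g := by
  constructor
  · rintro ⟨x, ⟨v, hv⟩, rfl⟩
    exact ⟨v, congrArg D.φ (Subtype.ext hv)⟩
  · rintro ⟨v, rfl⟩
    exact ⟨a0 v, ⟨v, rfl⟩, rfl⟩

theorem el_mul (v w : Fin 64) : D.el v * D.el w = D.el (vx v w) := by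
  rw [el, el, el, ← map_mul]
  exact congrArg D.φ (Subtype.ext (av_mul v w))

theorem el_inj {v w : Fin 64} (h : D.el v = D.el w) : v = w :=
  av_inj (congrArg Subtype.val (D.inj h))

theorem el_alpha : D.el 21 = D.α := congrArg D.φ a0_twentyone

theorem A_comm {x y : G} (hx : x ∈ D.A) (hy : y ∈ D.A) : x * y = y * x := by
  obtain ⟨v, rfl⟩ := D.mem_A.1 hx; obtain ⟨w, rfl⟩ := D.mem_A.1 hy
  rw [D.el_mul, D.el_mul, show vx v w = vx w v from Fin.ext (by simp [vx, Nat.xor_comm])]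

theorem alpha_sq : D.α * D.α = 1 := by rw [α, ← map_mul, tp0_sq, map_one]

theorem alpha_ne : D.α ≠ 1 := fun h => by
  have := congrArg Subtype.val (D.inj (h.trans D.φ.map_one.symm))
  exact tp_facts.2.2.1 this

variable [Finite G]

theorem A_le : D.A ≤ (D.P : Subgroup G) := fun g hg => by
  obtain ⟨v, rfl⟩ := D.mem_A.1 hg
  exact D.mem_P.2 ⟨a0 v, av_mem v, rfl⟩

theorem weaklyClosed_A : Cfsg.IsWeaklyClosed D.A (D.P : Subgroup G) := by
  refine ⟨D.A_le, fun g hle => ?_⟩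
  set W := D.A.map (MulAut.conj g).toMonoidHom
  set E : Subgroup P12 := (W.comap D.φ).map C0.subtype
  have hmemE : ∀ x ∈ E, ∃ y : C0, y.1 = x ∧ D.φ y ∈ W := fun x ⟨y, hy, hyx⟩ => ⟨y, hyx, hy⟩
  have hWsq : ∀ w ∈ W, w * w = 1 := by
    rintro _ ⟨a, ha, rfl⟩
    obtain ⟨v, rfl⟩ := D.mem_A.1 ha
    rw [← map_mul, D.el_mul, vx_self]
    show (MulAut.conj g) (D.φ (a0 0)) = 1
    rw [show a0 0 = 1 from Subtype.ext av_zero, map_one, map_one]
  have hWc : ∀ w ∈ W, ∀ w' ∈ W, w * w' = w' * w := by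
    rintro _ ⟨a, ha, rfl⟩ _ ⟨b, hb, rfl⟩
    rw [← map_mul, ← map_mul, D.A_comm ha hb]
  have hrange : W ≤ D.φ.range := fun w hw => by
    obtain ⟨x, -, hx⟩ := D.mem_P.1 (hle hw)
    exact ⟨x, hx⟩
  have hE : E = A0 := by
    refine elementary_unique E (fun x hx => ?_) (fun x hx => ?_) (fun x hx y hy => ?_) ?_
    · obtain ⟨y, rfl, hy⟩ := hmemE x hx
      obtain ⟨z, hz, hzy⟩ := D.mem_P.1 (hle hy)
      rw [← D.inj hzy]; exact hz
    · obtain ⟨y, rfl, hy⟩ := hmemE x hx
      exact congrArg Subtype.val (D.inj (show D.φ (y * y) = D.φ 1 by rw [map_mul, map_one]; exact hWsq _ hy))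
    · obtain ⟨x', rfl, hx'⟩ := hmemE x hx
      obtain ⟨y', rfl, hy'⟩ := hmemE y hy
      exact congrArg Subtype.val (D.inj (show D.φ (x' * y') = D.φ (y' * x') by
        rw [map_mul, map_mul]; exact hWc _ hx' _ hy'))
    · have h1 : Nat.card ↥((W.comap D.φ).map D.φ) = Nat.card ↥(W.comap D.φ) := card_map_of_injective D.inj
      rw [map_comap_eq_self hrange] at h1
      have h2 : Nat.card W = Nat.card D.A := card_map_of_injective (MulAut.conj g).injective
      have h3 : Nat.card D.A = Nat.card (A0.subgroupOf C0) := card_map_of_injective D.inj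
      have h4 : Nat.card E = Nat.card ↥(W.comap D.φ) := card_map_of_injective C0.subtype_injective
      rw [h4, ← h1, h2, h3, Nat.card_congr (subgroupOfEquivOfLe (A0_le.trans S0_le)).toEquiv, card_A0]
  show W = D.A
  rw [A, ← hE, ← map_comap_eq_self hrange]
  congr 1
  ext x
  rw [mem_subgroupOf]
  exact ⟨fun hx => ⟨x, hx, rfl⟩, fun ⟨y, hy, hyx⟩ => Subtype.ext hyx ▸ hy⟩

theorem fusion_A {d g : G} (hd : d ∈ D.A) (hgd : g * d * g⁻¹ ∈ D.A) :
    ∃ h ∈ normalizer (D.A : Set G), h * d * h⁻¹ = g * d * g⁻¹ := by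
  haveI : Fact (Nat.Prime 2) := ⟨Nat.prime_two⟩
  exact Cfsg.Agent.S1243.result D.P D.A D.weaklyClosed_A d g
    (mem_centralizer_iff.2 fun x hx => D.A_comm hx hd) (mem_centralizer_iff.2 fun x hx => D.A_comm hx hgd)

/-- the translations conjugate to the central involution -/
noncomputable def O : Fin 64 → Prop := fun v => ∃ g : G, g * D.α * g⁻¹ = D.el v

theorem O_self : D.O 21 := ⟨1, by rw [one_mul, inv_one, mul_one, D.el_alpha]⟩

theorem O_conj {v w : Fin 64} (hv : D.O v) (c : C0) (hc : c * a0 v = a0 w * c) : D.O w := by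
  obtain ⟨g, hg⟩ := hv
  refine ⟨D.φ c * g, ?_⟩
  rw [show D.φ c * g * D.α * (D.φ c * g)⁻¹ = D.φ c * (g * D.α * g⁻¹) * (D.φ c)⁻¹ by group, hg, el, el,
    ← map_inv, ← map_mul, ← map_mul, hc, mul_inv_cancel_right]

theorem not_O_central {v : Fin 64} (hv : v = 5 ∨ v = 16) : ¬ D.O v := by
  rintro ⟨g, hg⟩
  have hc : ∀ w : Fin 64, (w = 21 ∨ w = v) → ∀ y ∈ S0, av w * y = y * av w := by
    intro w hw y hy
    obtain ⟨k, hk, hky⟩ := mem_SL.1 (enc_mem_SL hy)
    have ht : ([5, 16, 21].all fun w => SL.all fun a => cm (avN w) a) = true := by decide +kernel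
    refine cm_iff.1 ?_
    rw [enc_av]
    refine List.all_eq_true.1 (List.all_eq_true.1 ht w.val ?_) _ (enc_mem_SL hy)
    rcases hw with rfl | rfl
    · simp
    · rcases hv with rfl | rfl <;> simp
  have hcent : ∀ w : Fin 64, (w = 21 ∨ w = v) → D.el w ∈ centralizer ((D.P : Subgroup G) : Set G) := by
    intro w hw
    refine mem_centralizer_iff.2 fun p hp => ?_
    obtain ⟨x, hx, rfl⟩ := D.mem_P.1 hp
    rw [el, ← map_mul, ← map_mul]
    exact congrArg D.φ (Subtype.ext (hc w hw _ hx).symm)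
  obtain ⟨n, hn, he⟩ := Sylow.conj_eq_normalizer_conj_of_mem_centralizer D.P (D.el 21) g⁻¹
    (hcent 21 (Or.inl rfl)) (by rw [inv_inv, D.el_alpha, hg]; exact hcent v (Or.inr rfl))
  rw [inv_inv, D.el_alpha, hg] at he
  obtain ⟨x, hx, hxv⟩ := central_squares v hv
  have hxP : D.φ ⟨x, S0_le hx⟩ ∈ (D.P : Subgroup G) := D.mem_P.2 ⟨_, hx, rfl⟩
  have hnx := (Subgroup.mem_normalizer_iff.1 hn (D.φ ⟨x, S0_le hx⟩)).1 hxP
  obtain ⟨y, hy, hy'⟩ := D.mem_P.1 hnx
  refine tp_not_square hy (congrArg Subtype.val (D.inj (a₁ := y * y) (a₂ := tp0) ?_))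
  rw [map_mul, hy', show n * D.φ ⟨x, S0_le hx⟩ * n⁻¹ * (n * D.φ ⟨x, S0_le hx⟩ * n⁻¹) =
    n * (D.φ ⟨x, S0_le hx⟩ * D.φ ⟨x, S0_le hx⟩) * n⁻¹ by group, ← map_mul,
    show (⟨x, S0_le hx⟩ : C0) * ⟨x, S0_le hx⟩ = a0 v from Subtype.ext hxv, ← el, he]
  show n * (n⁻¹ * D.α * n) * n⁻¹ = D.α
  group

end Ctx

/-- generators of the normaliser of the translations inside the model -/
def fP : Fin 4 → P12 :=
  ![swap 0 1 * swap 4 5, swap 4 5 * swap 8 9, swap 0 4 * swap 1 5 * swap 2 6 * swap 3 7,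
    swap 0 4 * swap 4 8 * (swap 1 5 * swap 5 9) * (swap 2 6 * swap 6 10) * (swap 3 7 * swap 7 11)]

/-- their codes -/
def fN : List ℕ := [0xba9876453201, 0xba8976453210, 0xba9832107654, 0x3210ba987654]

theorem enc_fP : ∀ i : Fin 4, enc (fP i) = fN.getD i.val 0 := by decide +kernel

theorem fP_mem (i : Fin 4) : fP i ∈ C0 := by
  have hc : cm (enc (fP i)) (enc tp) = true := by
    have h : ((List.range 4).all fun i => cm (fN.getD i 0) tpN) = true := by decide +kernel
    rw [enc_fP, probe_enc.2.1]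
    exact List.all_eq_true.1 h i.val (List.mem_range.2 i.isLt)
  refine mem_C0.2 ⟨?_, cm_iff.1 hc⟩
  fin_cases i <;> simp only [fP] <;> simp [Perm.sign_swap']

/-- the orbits that may be fused to the centre -/
def orbs : List (List ℕ) :=
  [[2, 3, 8, 12, 32, 48], [6, 7, 9, 24, 13, 28, 36, 18, 33, 52, 19, 49],
   [10, 15, 14, 40, 11, 60, 56, 44, 34, 51, 50, 35], [22, 23, 25, 29, 37, 53],
   [26, 31, 30, 41, 27, 61, 57, 45, 38, 55, 54, 39], [42, 47, 62, 59], [43, 46, 63, 58]]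

/-- the orbits that cannot be fused to the centre -/
def orbsC : List (List ℕ) := [[1, 4, 16], [5, 20, 17]]

/-- conjugate by a generator -/
def step (v w : ℕ) : Bool := fN.any fun g => Nat.beq (mN g (avN v)) (mN (avN w) g)

theorem conn_table : ((orbs ++ orbsC).all fun o => (List.range o.length).all fun j =>
    Nat.beq j 0 || (List.range j).any fun i => step (o.getD i 0) (o.getD j 0)) = true := by decide +kernel

end Cfsg.Agent.Spor.Yamaki
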