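import Cfsg.Agent.Lib.Spor.Yamaki.Rel
import Cfsg.Agent.Lib.Small.BoundedPres.AltPres

/-!
The conjugates of the lift satisfy Carmichael's relations and give an alternating subgroup of degree twelve.
-/

set_option autoImplicit false
set_option maxRecDepth 100000
set_option Elab.async false
set_option linter.style.haveILetI false

universe u

namespace Cfsg.Agent.Spor.Yamaki

open Equiv Subgroup Cfsg.Agent.Small.BoundedPres Cfsg.Agent.Small.AltDeg

/-- flip of the second pair with the third -/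
def flip23 : P12 := swap 2 3 * swap 4 5

/-- fixing the first pair and sending the third point to a given one -/
def cIp (i : Fin 12) : P12 :=
  cjP ([0, 0, 0, 0, 1, 1, 2, 2, 5, 5, 6, 6].getD i.val 0) *
    (if i.val % 2 = 1 then flip23 else 1)

theorem flip23_mem : flip23 ∈ C0 := mem_C0.2 (by decide +kernel)

theorem cIp_mem (i : Fin 12) : cIp i ∈ C0 := by
  refine mul_mem (cjP_mem _) ?_
  split
  · exact flip23_mem
  · exact one_mem _

theorem cIp_spec : ∀ i : Fin 12, 2 ≤ i.val → cIp i 0 = 0 ∧ cIp i 1 = 1 ∧ cIp i 2 = i := by decide +kernel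

theorem cIp_three : cIp 2 = 1 ∧ cIp 3 = flip23 ∧ cIp 4 = cjP 1 ∧ cIp 3 2 = 3 ∧
    (∀ i : Fin 12, 2 ≤ i.val → cIp i 3 = tp i) ∧ flip23 = av 1 * fP 0 := by decide +kernel

/-- code of an element fixing the first block -/
def botCode (a b c d : ℕ) : ℕ :=
  tab fun i => if i < 4 then i else if i < 6 then a ^^^ (i - 4) else if i < 8 then b ^^^ (i - 6) else
    if i < 10 then c ^^^ (i - 8) else d ^^^ (i - 10)

theorem bot_table : ((List.range 8).all fun a => (List.range 8).all fun b => (List.range 8).all fun c =>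
    (List.range 8).all fun d => Nat.beq (a / 2) (b / 2) || Nat.beq (a / 2) (c / 2) || Nat.beq (a / 2) (d / 2) ||
      Nat.beq (b / 2) (c / 2) || Nat.beq (b / 2) (d / 2) || Nat.beq (c / 2) (d / 2) ||
        (f0L.any fun m => Nat.beq m (botCode (a + 4) (b + 4) (c + 4) (d + 4)) ||
          Nat.beq m (mN (botCode (a + 4) (b + 4) (c + 4) (d + 4)) 0xba9876453210))) = true := by
  decide +kernel

theorem f0_moves : ((List.range 8).all fun m => (List.range 192).any fun k =>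
    Nat.beq (dg (f0L.getD k 0) 4) (m + 4) && ((List.range 4).all fun j => Nat.beq (dg (f0L.getD k 0) j) j)) = true := by
  decide +kernel

theorem swap45_code : enc (swap 4 5) = 0xba9876453210 ∧ f0L.length = 192 := by decide +kernel

attribute [local irreducible] mN enc tab avN slAt gN idxN fixTop moved

/-- elements fixing the first two pairs pointwise are listed -/
theorem mem_f0L {c : C0} (hc : ∀ i : Fin 12, i.val < 4 → c.1 i = i) : ∃ k < 192, enc c.1 = f0L.getD k 0 := by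
  have hhigh : ∀ i : Fin 12, 4 ≤ i.val → 4 ≤ (c.1 i).val := by
    intro i hi
    by_contra h
    have h1 := hc (c.1 i) (by omega)
    rw [c.1.injective h1] at h
    omega
  have hsw : ∀ i : Fin 12, c.1 (tp i) = tp (c.1 i) := fun i => by
    rw [← Perm.mul_apply, (mem_C0.1 c.2).2, Perm.mul_apply]
  have := (c.1 4).isLt; have := (c.1 6).isLt; have := (c.1 8).isLt; have := (c.1 10).isLt
  have := hhigh 4 (by norm_num); have := hhigh 6 (by norm_num); have := hhigh 8 (by norm_num)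
  have := hhigh 10 (by norm_num)
  obtain ⟨a, ha, a8⟩ : ∃ a, (c.1 4).val = a + 4 ∧ a < 8 := ⟨(c.1 4).val - 4, by omega, by omega⟩
  obtain ⟨b, hb, b8⟩ : ∃ b, (c.1 6).val = b + 4 ∧ b < 8 := ⟨(c.1 6).val - 4, by omega, by omega⟩
  obtain ⟨cc, hcc, c8⟩ : ∃ cc, (c.1 8).val = cc + 4 ∧ cc < 8 := ⟨(c.1 8).val - 4, by omega, by omega⟩
  obtain ⟨d, hd, d8⟩ : ∃ d, (c.1 10).val = d + 4 ∧ d < 8 := ⟨(c.1 10).val - 4, by omega, by omega⟩
  have hcode : enc c.1 = botCode (a + 4) (b + 4) (cc + 4) (d + 4) := by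
    rw [enc, botCode]
    refine tab_congr fun i hi => ?_
    rw [fi_eq hi]
    have t : ∀ j : Fin 12, (c.1 (tp j)).val = (c.1 j).val ^^^ 1 := fun j => by rw [hsw, (tp_xor _).1]
    have e : tp 4 = 5 ∧ tp 6 = 7 ∧ tp 8 = 9 ∧ tp 10 = 11 := by decide +kernel
    interval_cases i <;> simp only [← ha, ← hb, ← hcc, ← hd] <;> norm_num
    all_goals first
      | rfl
      | exact hc 0 (by decide)
      | exact congrArg Fin.val (hc 0 (by decide))
      | exact congrArg Fin.val (hc 1 (by decide))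
      | exact congrArg Fin.val (hc 2 (by decide))
      | exact congrArg Fin.val (hc 3 (by decide))
      | (have := t 4; rw [e.1] at this; exact this)
      | (have := t 6; rw [e.2.1] at this; exact this)
      | (have := t 8; rw [e.2.2.1] at this; exact this)
      | (have := t 10; rw [e.2.2.2] at this; exact this)
  have hne : ∀ i j : Fin 12, (c.1 i).val / 2 = (c.1 j).val / 2 → i.val / 2 = j.val / 2 := by
    intro i j h
    rcases pair_eq (c.1 i) (c.1 j) (Fin.ext h) with e | e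
    · rw [c.1.injective e]
    · rw [← hsw] at e
      rw [c.1.injective e, (tp_xor i).1]
      have : ∀ i : Fin 12, (i.val ^^^ 1) / 2 = i.val / 2 := by decide
      exact (this i).symm
  have ht := List.all_eq_true.1 (List.all_eq_true.1 (List.all_eq_true.1 (List.all_eq_true.1 bot_table
    a (List.mem_range.2 a8)) b (List.mem_range.2 b8)) cc (List.mem_range.2 c8)) d (List.mem_range.2 d8)
  simp only [Bool.or_eq_true, Nat.beq_eq, List.any_eq_true] at ht
  obtain ⟨m, hm, hme⟩ : ∃ m ∈ f0L, m = botCode (a + 4) (b + 4) (cc + 4) (d + 4) ∨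
      m = mN (botCode (a + 4) (b + 4) (cc + 4) (d + 4)) 0xba9876453210 := by
    rcases ht with (((((h | h) | h) | h) | h) | h) | h
    · exact absurd (hne 4 6 (by omega)) (by decide)
    · exact absurd (hne 4 8 (by omega)) (by decide)
    · exact absurd (hne 4 10 (by omega)) (by decide)
    · exact absurd (hne 6 8 (by omega)) (by decide)
    · exact absurd (hne 6 10 (by omega)) (by decide)
    · exact absurd (hne 8 10 (by omega)) (by decide)
    · exact h
  obtain ⟨n, hn, rfl⟩ := List.getElem_of_mem hm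
  rcases hme with e | e
  · exact ⟨n, swap45_code.2 ▸ hn, by rw [hcode, ← e, List.getD_eq_getElem]⟩
  · exfalso
    have hmem : ∃ x : C0, enc x.1 = f0L[n] := by
      have hc0 : (f0L.all fun m => cm m tpN && (List.range 12).all fun j => Nat.blt (dg m j) 12) = true := by
        decide +kernel
      have hgen : ∀ k < 192, ∃ x : C0, enc x.1 = f0L.getD k 0 := by
        intro k
        induction k using Nat.strong_induction_on with
        | _ k ih =>
          intro hk
          have h := List.all_eq_true.1 f0_chain k (List.mem_range.2 hk)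
          split_ifs at h with h0
          · exact ⟨1, by rw [Nat.beq_eq.mp h]; exact enc_one⟩
          · simp only [Bool.and_eq_true] at h
            obtain ⟨⟨h1, h2⟩, h3⟩ := h
            obtain ⟨x, hx⟩ := ih _ (Nat.ble_eq.mp h1) (lt_trans (Nat.ble_eq.mp h1) hk)
            obtain ⟨g, hg⟩ : ∃ g : C0, enc g.1 = [avN 4, avN 8, avN 16, avN 32, cjN.getD 3 0].getD (f0P.getD k (0, 0)).1 0 := by
              have hi := Nat.ble_eq.mp h2
              obtain ⟨i, hi', e⟩ : ∃ i < 5, (f0P.getD k (0, 0)).1 = i := ⟨_, hi, rfl⟩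
              rw [e]
              interval_cases i
              exacts [⟨a0 4, enc_av 4⟩, ⟨a0 8, enc_av 8⟩, ⟨a0 16, enc_av 16⟩, ⟨a0 32, enc_av 32⟩,
                ⟨⟨cjP 3, cjP_mem 3⟩, enc_cjP 3⟩]
            exact ⟨g * x, by rw [Nat.beq_eq.mp h3, Subgroup.coe_mul, enc_mul, hg, hx]⟩
      obtain ⟨x, hx⟩ := hgen n (swap45_code.2 ▸ hn)
      exact ⟨x, by rw [hx, List.getD_eq_getElem]⟩
    obtain ⟨x, hx⟩ := hmem
    rw [← hcode, ← swap45_code.1, ← enc_mul, ← hx] at e
    have h1 := (mem_C0.1 x.2).1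
    rw [enc_inj e, map_mul, (mem_C0.1 c.2).1, Perm.sign_swap (by decide)] at h1
    exact absurd h1 (by decide)

namespace Lift

variable {G : Type u} [Group G] [Finite G] {E : Data27 G} (L : Lift E)

/-- the three-cycles -/
def xg (i : Fin 12) : G := E.D.φ ⟨cIp i, cIp_mem i⟩ * L.y * (E.D.φ ⟨cIp i, cIp_mem i⟩)⁻¹

theorem comm_fix {c : C0} (hc : ∀ i : Fin 12, i.val < 4 → c.1 i = i) : L.y * E.D.φ c = E.D.φ c * L.y := by
  obtain ⟨k, hk, he⟩ := mem_f0L hc
  obtain ⟨d, hd, hy⟩ := L.comm_f0 k hk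
  rwa [show c = d from Subtype.ext (enc_inj (he.trans hd.symm))]

theorem conj_xg {c : C0} (h0 : c.1 0 = 0) (h1 : c.1 1 = 1) {i : Fin 12} (hi : 2 ≤ i.val) :
    E.D.φ c * L.xg i * (E.D.φ c)⁻¹ = L.xg (c.1 i) := by
  obtain ⟨a0', a1', a2'⟩ := cIp_spec i hi
  have hci : 2 ≤ (c.1 i).val := by
    by_contra h
    have : c.1 i = 0 ∨ c.1 i = 1 := by
      rcases Nat.lt_or_ge (c.1 i).val 1 with h' | h'
      · exact Or.inl (Fin.ext (show (c.1 i).val = 0 by omega))
      · exact Or.inr (Fin.ext (show (c.1 i).val = 1 by omega))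
    rcases this with e | e
    · rw [← h0] at e; rw [c.1.injective e] at hi; simp at hi
    · rw [← h1] at e; rw [c.1.injective e] at hi; simp at hi
  obtain ⟨b0, b1, b2⟩ := cIp_spec (c.1 i) hci
  set ci : C0 := ⟨cIp i, cIp_mem i⟩
  set cj : C0 := ⟨cIp (c.1 i), cIp_mem (c.1 i)⟩
  set d : C0 := cj⁻¹ * (c * ci)
  have hd0 : ∀ j : Fin 12, j.val < 4 → d.1 j = j := by
    have hj : ∀ j, cj.1 j = c.1 (ci.1 j) → d.1 j = j := fun j hj => by
      show cj.1⁻¹ (c.1 (ci.1 j)) = j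
      rw [← hj, Perm.inv_def, Equiv.symm_apply_apply]
    have t3 : tp 2 = 3 := by decide +kernel
    have hcases : ∀ j : Fin 12, j.val < 4 → j = 0 ∨ j = 1 ∨ j = 2 ∨ j = 3 := by decide +kernel
    intro j hj4
    refine hj j ?_
    rcases hcases j hj4 with rfl | rfl | rfl | rfl
    · show cIp _ 0 = c.1 (cIp i 0); rw [b0, a0', h0]
    · show cIp _ 1 = c.1 (cIp i 1); rw [b1, a1', h1]
    · show cIp _ 2 = c.1 (cIp i 2); rw [b2, a2']
    · show cIp _ 3 = c.1 (cIp i 3)
      rw [cIp_three.2.2.2.2.1 _ hci, cIp_three.2.2.2.2.1 i hi, ← Perm.mul_apply tp, ← (mem_C0.1 c.2).2, Perm.mul_apply]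
  have hy := L.comm_fix hd0
  have hcd : c * ci = cj * d := (mul_inv_cancel_left _ _).symm
  show E.D.φ c * (E.D.φ ci * L.y * (E.D.φ ci)⁻¹) * (E.D.φ c)⁻¹ = E.D.φ cj * L.y * (E.D.φ cj)⁻¹
  calc _ = E.D.φ (c * ci) * L.y * (E.D.φ (c * ci))⁻¹ := by rw [map_mul]; group
    _ = E.D.φ cj * (E.D.φ d * L.y) * (E.D.φ d)⁻¹ * (E.D.φ cj)⁻¹ := by rw [hcd, map_mul]; group
    _ = _ := by rw [← hy]; group

theorem xg_two : L.xg 2 = L.y := by
  rw [xg, show (⟨cIp 2, cIp_mem 2⟩ : C0) = 1 from Subtype.ext cIp_three.1, map_one]; group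

theorem xg_three : L.xg 3 = E.D.el 1 * L.y⁻¹ * E.D.el 1 := by
  have he : (⟨cIp 3, cIp_mem 3⟩ : C0) = a0 1 * ⟨fP 0, fP_mem 0⟩ :=
    Subtype.ext (cIp_three.2.1.trans cIp_three.2.2.2.2.2)
  rw [xg, he, map_mul, ← Ctx.el, ← L.inv01]
  rw [mul_inv_rev, E.el_inv]
  group

theorem pair_rel : (L.y * L.xg 3) * (L.y * L.xg 3) = 1 := by
  have h : L.y * L.xg 3 = E.D.el 2 := by
    rw [L.xg_three]
    calc L.y * (E.D.el 1 * L.y⁻¹ * E.D.el 1) = (L.y * E.D.el 1 * L.y⁻¹) * E.D.el 1 := by group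
      _ = E.D.el 2 := by rw [L.conj, E.D.el_mul, show vx (sig3 1) 1 = 2 by decide]
  rw [h, E.D.el_mul, vx_self, E.el_zero]

theorem xg_rel {i j : Fin 12} (hi : 2 ≤ i.val) (hj : 2 ≤ j.val) (hne : i ≠ j) :
    (L.xg i * L.xg j) ^ 2 = 1 := by
  obtain ⟨i0, i1, i2⟩ := cIp_spec i hi
  have h3 := cIp_three.2.2.2.2.1 i hi
  obtain ⟨c, w, hw, h0, h1, h2, hcw, hr⟩ : ∃ (c : C0) (w : Fin 12), 2 ≤ w.val ∧ c.1 0 = 0 ∧ c.1 1 = 1 ∧ c.1 2 = i ∧
      c.1 w = j ∧ (L.y * L.xg w) * (L.y * L.xg w) = 1 := by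
    by_cases hp : j = tp i
    · exact ⟨⟨cIp i, cIp_mem i⟩, 3, by decide, i0, i1, i2, by rw [hp]; exact h3, L.pair_rel⟩
    set ci : C0 := ⟨cIp i, cIp_mem i⟩
    set m := (ci.1⁻¹ j) with hm
    have hcm : ci.1 m = j := by rw [hm, Perm.inv_def, Equiv.apply_symm_apply]
    have hm4 : 4 ≤ m.val := by
      by_contra h
      have hcases : ∀ m : Fin 12, m.val < 4 → m = 0 ∨ m = 1 ∨ m = 2 ∨ m = 3 := by decide +kernel
      rcases hcases m (by omega) with e | e | e | e <;> rw [e] at hcm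
      · rw [show ci.1 0 = 0 from i0] at hcm; rw [← hcm] at hj; simp at hj
      · rw [show ci.1 1 = 1 from i1] at hcm; rw [← hcm] at hj; simp at hj
      · exact hne (i2.symm.trans hcm)
      · exact hp (hcm.symm.trans h3)
    have := m.isLt
    have ht := List.all_eq_true.1 f0_moves (m.val - 4) (List.mem_range.2 (by omega))
    simp only [List.any_eq_true, Bool.and_eq_true, List.all_eq_true, Nat.beq_eq] at ht
    obtain ⟨k, hk, hk4, hkfix⟩ := ht
    obtain ⟨d, hd, -⟩ := L.comm_f0 k (List.mem_range.1 hk)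
    rw [← hd] at hk4
    rw [dg_enc _ (show 4 < 12 by norm_num)] at hk4
    have hdfix : ∀ t : Fin 12, t.val < 4 → d.1 t = t := fun t ht => Fin.ext (by
      have h := hkfix t.val (List.mem_range.2 ht)
      rw [← hd, dg_enc _ t.isLt] at h
      exact h)
    refine ⟨ci * d, 4, by decide, ?_, ?_, ?_, ?_, ?_⟩
    · show ci.1 (d.1 0) = 0; rw [hdfix 0 (by decide)]; exact i0
    · show ci.1 (d.1 1) = 1; rw [hdfix 1 (by decide)]; exact i1
    · show ci.1 (d.1 2) = i; rw [hdfix 2 (by decide)]; exact i2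
    · show ci.1 (d.1 4) = j
      rw [show d.1 4 = m from Fin.ext (by
        show (d.1 ⟨4, _⟩).val = m.val
        omega)]
      exact hcm
    · have hc4 : (⟨cIp 4, cIp_mem 4⟩ : C0) = ⟨cjP 1, cjP_mem 1⟩ := Subtype.ext cIp_three.2.2.1
      rw [xg, hc4, inv_eq_of_mul_eq_one_right (show E.D.φ ⟨cjP 1, cjP_mem 1⟩ * E.D.φ ⟨cjP 1, cjP_mem 1⟩ = 1 by
        rw [← map_mul, show (⟨cjP 1, cjP_mem 1⟩ : C0) * ⟨cjP 1, cjP_mem 1⟩ = 1 from Subtype.ext (cjP_sq 1), map_one])]
      exact L.rel_two_four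
  rw [← h2, ← hcw, ← L.conj_xg h0 h1 (show 2 ≤ (2 : Fin 12).val by decide), ← L.conj_xg h0 h1 hw, L.xg_two, pow_two]
  calc _ = E.D.φ c * ((L.y * L.xg w) * (L.y * L.xg w)) * (E.D.φ c)⁻¹ := by group
    _ = 1 := by rw [hr, mul_one, mul_inv_cancel]

theorem xg_cube (i : Fin 12) : L.xg i ^ 3 = 1 := by
  rw [xg, conj_pow, pow_three', L.cube, mul_one, mul_inv_cancel]

theorem y_ne : L.y ≠ 1 := fun h => by
  have := L.conj 1
  rw [h, one_mul, inv_one, mul_one] at this
  exact absurd (E.D.el_inj this) (by decide)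

end Lift

/-- the inclusion of the model -/
def inclA : C0 →* A (10 + 2) := Subgroup.inclusion (show C0 ≤ alternatingGroup (Fin 12) from inf_le_left)

/-- the standard three-cycle as a product of transpositions -/
def q3 (i : Fin 12) : P12 := swap 0 1 * swap 1 i

theorem gcyc_eq (i : Fin 10) : (gcyc 10 i).1 = q3 ⟨i.val + 2, by omega⟩ := by
  have h01 : (⟨0, by norm_num⟩ : Fin (10 + 2)) ≠ ⟨1, by norm_num⟩ := Fin.ne_of_val_ne (show 0 ≠ 1 by omega)
  have h1i : (⟨1, by norm_num⟩ : Fin (10 + 2)) ≠ ⟨i.val + 2, by omega⟩ := Fin.ne_of_val_ne (show 1 ≠ i.val + 2 by omega)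
  have h0i : (⟨0, by norm_num⟩ : Fin (10 + 2)) ≠ ⟨i.val + 2, by omega⟩ := Fin.ne_of_val_ne (show 0 ≠ i.val + 2 by omega)
  obtain ⟨e0, e1, e2⟩ := cyc_apply h01 h1i h0i
  refine Equiv.ext fun x => ?_
  have hq : ∀ j : Fin 12, 2 ≤ j.val → q3 j 0 = 1 ∧ q3 j 1 = j ∧ q3 j j = 0 ∧
      ∀ x, x ≠ 0 → x ≠ 1 → x ≠ j → q3 j x = x := by decide +kernel
  obtain ⟨q0, q1, q2, q4⟩ := hq ⟨i.val + 2, by omega⟩ (by simp)
  by_cases x0 : x = ⟨0, by norm_num⟩
  · rw [x0]; exact e0.trans q0.symm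
  by_cases x1 : x = ⟨1, by norm_num⟩
  · rw [x1]; exact e1.trans q1.symm
  by_cases x2 : x = ⟨i.val + 2, by omega⟩
  · rw [x2]; exact e2.trans q2.symm
  rw [q4 x x0 x1 x2]
  refine cyc_supp h01 h1i h0i x ?_
  simp only [Finset.mem_insert, Finset.mem_singleton, not_or]
  exact ⟨x0, x1, x2⟩

theorem model_words : inclA (a0 2) = gcyc 10 0 * gcyc 10 1 ∧
    inclA (a0 1) = gcyc 10 0 * inclA (a0 2) * (gcyc 10 0)⁻¹ := by
  constructor <;> refine Subtype.ext ?_ <;>
    simp only [Subgroup.coe_mul, Subgroup.coe_inv, gcyc_eq, inclA, Subgroup.coe_inclusion] <;>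
    decide +kernel

theorem reach_zero : av 1 0 = 1 ∧ ∀ j : Fin 12, 2 ≤ j.val → cIp j (av 2 ((cIp j)⁻¹ 0)) = j := by decide +kernel

theorem centre_test : ∀ d : P12, d * (av 2) = av 2 * d → (∃ w, d = av w) →
    d * (cjP 1 * av 2 * (cjP 1)⁻¹) = cjP 1 * av 2 * (cjP 1)⁻¹ * d →
    d * (cjP 5 * av 2 * (cjP 5)⁻¹) = cjP 5 * av 2 * (cjP 5)⁻¹ * d → d = 1 ∨ d = tp := by
  rintro d - ⟨w, rfl⟩
  revert w
  decide +kernel

theorem flips_from_first : ∀ i j : Fin 6, i ≠ j →
    (i = 0 → flip2 i j = cIp (fst6 j) * av 1 * (cIp (fst6 j))⁻¹) ∧ flip2 i j = flip2 j i ∧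
      (i ≠ 0 → j ≠ 0 → flip2 i j = flip2 0 i * flip2 0 j) := by decide +kernel

namespace Lift

variable {G : Type u} [Group G] [Finite G] {E : Data27 G} (L : Lift E)

include L in
/-- An alternating subgroup of degree twelve extending the model. -/
theorem exists_alt : ∃ θ : A (10 + 2) →* G, Function.Injective θ ∧ (∀ c : C0, θ (inclA c) = E.D.φ c) ∧
    ∀ i : Fin 10, θ (gcyc 10 i) = L.xg ⟨i.val + 2, by omega⟩ := by
  obtain ⟨θ, hθ⟩ := carmichael_hom 10 (by norm_num) (fun i : Fin 10 => L.xg ⟨i.val + 2, by omega⟩)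
    (fun i => L.xg_cube _) (fun i j hij => L.xg_rel (by simp) (by simp) (fun h => hij (Fin.ext (by
      have := congrArg Fin.val h; simp at this; exact this))))
  have hθ0 : θ (gcyc 10 0) = L.y := by rw [hθ]; exact L.xg_two
  let good : Subgroup C0 := (θ.comp inclA).eqLocus E.D.φ
  have hgood : ∀ c, c ∈ good ↔ θ (inclA c) = E.D.φ c := fun c => Iff.rfl
  have g2 : a0 2 ∈ good := by
    rw [hgood, model_words.1, map_mul, hθ0, hθ]
    show L.y * L.xg 3 = E.D.el 2
    rw [L.xg_three]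
    calc L.y * (E.D.el 1 * L.y⁻¹ * E.D.el 1) = (L.y * E.D.el 1 * L.y⁻¹) * E.D.el 1 := by group
      _ = E.D.el 2 := by rw [L.conj, E.D.el_mul, show vx (sig3 1) 1 = 2 by decide]
  have g1 : a0 1 ∈ good := by
    rw [hgood, model_words.2, map_mul, map_mul, map_inv, hθ0, (hgood _).1 g2]
    show L.y * E.D.el 2 * L.y⁻¹ = E.D.el 1
    rw [L.conj, show sig3 2 = 1 by decide]
  have hequi : ∀ c : C0, c.1 0 = 0 → c.1 1 = 1 → ∀ x, θ (inclA c * x * (inclA c)⁻¹) =
      E.D.φ c * θ x * (E.D.φ c)⁻¹ := by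
    intro c h0 h1 x
    refine DFunLike.congr_fun (MonoidHom.eq_of_eqOn_dense (gcyc_top 10)
      (f := θ.comp (MulAut.conj (inclA c)).toMonoidHom) (g := (MulAut.conj (E.D.φ c)).toMonoidHom.comp θ) ?_) x
    rintro _ ⟨i, rfl⟩
    show θ (inclA c * gcyc 10 i * (inclA c)⁻¹) = E.D.φ c * θ (gcyc 10 i) * (E.D.φ c)⁻¹
    have hci : 2 ≤ (c.1 ⟨i.val + 2, by omega⟩).val := by
      by_contra h
      have : c.1 ⟨i.val + 2, by omega⟩ = c.1 0 ∨ c.1 ⟨i.val + 2, by omega⟩ = c.1 1 := by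
        rw [h0, h1]
        rcases Nat.lt_or_ge (c.1 ⟨i.val + 2, by omega⟩).val 1 with h' | h'
        · exact Or.inl (Fin.ext (show _ = 0 by omega))
        · exact Or.inr (Fin.ext (show _ = 1 by omega))
      rcases this with e | e
      · exact absurd (congrArg Fin.val (c.1.injective e)) (show i.val + 2 ≠ 0 by omega)
      · exact absurd (congrArg Fin.val (c.1.injective e)) (show i.val + 2 ≠ 1 by omega)
    have hlt := (c.1 ⟨i.val + 2, by omega⟩).isLt
    obtain ⟨i', hi'⟩ : ∃ i' : Fin 10, (⟨i'.val + 2, by omega⟩ : Fin 12) = c.1 ⟨i.val + 2, by omega⟩ :=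
      ⟨⟨(c.1 ⟨i.val + 2, by omega⟩).val - 2, by omega⟩, Fin.ext (by simp only; omega)⟩
    rw [conj_gcyc (inclA c) i i' h0 h1 hi'.symm, hθ, hθ, L.conj_xg h0 h1 (show 2 ≤ i.val + 2 by omega)]
    exact congrArg L.xg hi'
  have gconj : ∀ {c : C0}, c.1 0 = 0 → c.1 1 = 1 → ∀ {x : C0}, x ∈ good → c * x * c⁻¹ ∈ good := by
    intro c h0 h1 x hx
    rw [hgood, map_mul inclA, map_mul inclA, map_inv inclA, hequi c h0 h1, (hgood x).1 hx, map_mul E.D.φ,
      map_mul E.D.φ, map_inv E.D.φ]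
  let cI : Fin 12 → C0 := fun i => ⟨cIp i, cIp_mem i⟩
  have gI : ∀ i : Fin 12, 2 ≤ i.val → ∀ {x : C0}, x ∈ good → cI i * x * (cI i)⁻¹ ∈ good := fun i hi =>
    gconj (cIp_spec i hi).1 (cIp_spec i hi).2.1
  have gflip : ∀ i j : Fin 6, ∀ h : i ≠ j, (⟨flip2 i j, flip2_mem h⟩ : C0) ∈ good := by
    have first : ∀ j : Fin 6, ∀ h : (0 : Fin 6) ≠ j, (⟨flip2 0 j, flip2_mem h⟩ : C0) ∈ good := by
      intro j h
      have hj : 2 ≤ (fst6 j).val := by
        show 2 ≤ 2 * j.val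
        rcases Nat.eq_zero_or_pos j.val with e | e
        · exact absurd (Fin.ext e.symm) h
        · omega
      rw [show (⟨flip2 0 j, flip2_mem h⟩ : C0) = cI (fst6 j) * a0 1 * (cI (fst6 j))⁻¹ from
        Subtype.ext ((flips_from_first 0 j h).1 rfl)]
      exact gI _ hj g1
    intro i j h
    by_cases hi : i = 0
    · subst hi; exact first j h
    by_cases hj : j = 0
    · subst hj
      rw [show (⟨flip2 i 0, flip2_mem h⟩ : C0) = ⟨flip2 0 i, flip2_mem (Ne.symm h)⟩ from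
        Subtype.ext (flips_from_first i 0 h).2.1]
      exact first i (Ne.symm h)
    rw [show (⟨flip2 i j, flip2_mem h⟩ : C0) = ⟨flip2 0 i, flip2_mem (Ne.symm hi)⟩ * ⟨flip2 0 j, flip2_mem (Ne.symm hj)⟩
      from Subtype.ext ((flips_from_first i j h).2.2 hi hj)]
    exact mul_mem (first i (Ne.symm hi)) (first j (Ne.symm hj))
  have f4 : a0 4 ∈ good := by
    rw [show a0 4 = cI 4 * a0 1 * (cI 4)⁻¹ * (cI 6 * a0 1 * (cI 6)⁻¹) from Subtype.ext (by decide +kernel)]
    exact mul_mem (gI 4 (by decide) g1) (gI 6 (by decide) g1)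
  have f16 : a0 16 ∈ good := by
    rw [show a0 16 = cI 8 * a0 1 * (cI 8)⁻¹ * (cI 10 * a0 1 * (cI 10)⁻¹) from Subtype.ext (by decide +kernel)]
    exact mul_mem (gI 8 (by decide) g1) (gI 10 (by decide) g1)
  have f21 : tp0 ∈ good := by
    rw [show tp0 = a0 1 * a0 4 * a0 16 from Subtype.ext (by decide +kernel)]
    exact mul_mem (mul_mem g1 f4) f16
  have f8 : a0 8 ∈ good := by
    rw [show a0 8 = cI 4 * a0 2 * (cI 4)⁻¹ * (cI 6 * a0 2 * (cI 6)⁻¹) * (cI 4 * a0 2 * (cI 4)⁻¹) from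
      Subtype.ext (by decide +kernel)]
    exact mul_mem (mul_mem (gI 4 (by decide) g2) (gI 6 (by decide) g2)) (gI 4 (by decide) g2)
  have f32 : a0 32 ∈ good := by
    rw [show a0 32 = cI 8 * a0 2 * (cI 8)⁻¹ * (cI 10 * a0 2 * (cI 10)⁻¹) * (cI 8 * a0 2 * (cI 8)⁻¹) from
      Subtype.ext (by decide +kernel)]
    exact mul_mem (mul_mem (gI 8 (by decide) g2) (gI 10 (by decide) g2)) (gI 8 (by decide) g2)
  have gA : ∀ v : Fin 64, a0 v ∈ good := by
    intro v
    have hspan : ∀ v : Fin 64, av v = (if v.val.testBit 0 then av 1 else 1) * (if v.val.testBit 1 then av 2 else 1) *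
        (if v.val.testBit 2 then av 4 else 1) * (if v.val.testBit 3 then av 8 else 1) *
        (if v.val.testBit 4 then av 16 else 1) * (if v.val.testBit 5 then av 32 else 1) := by decide +kernel
    rw [show a0 v = (if v.val.testBit 0 then a0 1 else 1) * (if v.val.testBit 1 then a0 2 else 1) *
        (if v.val.testBit 2 then a0 4 else 1) * (if v.val.testBit 3 then a0 8 else 1) *
        (if v.val.testBit 4 then a0 16 else 1) * (if v.val.testBit 5 then a0 32 else 1) from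
      Subtype.ext (by
        simp only [Subgroup.coe_mul, apply_ite (fun z : C0 => (z : P12)), Subgroup.coe_one]
        exact hspan v)]
    have hif : ∀ (b : Bool) (z : C0), z ∈ good → (if b then z else 1) ∈ good := fun b z hz => by
      cases b
      · exact one_mem _
      · exact hz
    exact mul_mem (mul_mem (mul_mem (mul_mem (mul_mem (hif _ _ g1) (hif _ _ g2)) (hif _ _ f4)) (hif _ _ f8))
      (hif _ _ f16)) (hif _ _ f32)
  have gstab : ∀ c : C0, c.1 0 = 0 → c.1 1 = 1 → c ∈ good := by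
    intro c h0 h1
    set w := θ (inclA c)
    have hcw : ∀ z, θ z * ((E.D.φ c)⁻¹ * w) = (E.D.φ c)⁻¹ * w * θ z := by
      intro z
      have h2 := hequi c h0 h1 z
      rw [map_mul, map_mul, map_inv] at h2
      calc θ z * ((E.D.φ c)⁻¹ * w) = (E.D.φ c)⁻¹ * (E.D.φ c * θ z * (E.D.φ c)⁻¹) * w := by group
        _ = (E.D.φ c)⁻¹ * (w * θ z * w⁻¹) * w := by rw [h2]
        _ = _ := by group
    obtain ⟨d, hd⟩ := E.D.exists_pre (g := (E.D.φ c)⁻¹ * w) (by
      have := hcw (inclA tp0)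
      rw [(hgood _).1 f21] at this
      exact this.symm)
    have hdx : ∀ x ∈ good, x * d = d * x := fun x hx => E.D.inj (by
      rw [map_mul, map_mul, hd, ← (hgood x).1 hx]
      exact hcw _)
    obtain ⟨u, rfl⟩ := av_of_cent (x := d) fun v => (hdx _ (gA v)).symm
    have hd1 : a0 u = 1 := by
      have hcj : ∀ i : Fin 7, ∀ j : Fin 12, cI j = ⟨cjP i, cjP_mem i⟩ → 2 ≤ j.val →
          av u * (cjP i * av 2 * (cjP i)⁻¹) = cjP i * av 2 * (cjP i)⁻¹ * av u := fun i j hij hj => by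
        have := hdx _ (gI j hj g2)
        rw [hij] at this
        exact (congrArg Subtype.val this).symm
      rcases centre_test (av u) (congrArg Subtype.val (hdx _ g2)).symm ⟨u, rfl⟩
        (hcj 1 4 (Subtype.ext (by decide +kernel)) (by decide)) (hcj 5 8 (Subtype.ext (by decide +kernel)) (by decide))
        with h | h
      · exact Subtype.ext h
      · exfalso
        have h21 : a0 u = tp0 := Subtype.ext h
        have hy := hcw (gcyc 10 0)
        rw [hθ0, ← hd, h21, ← a0_twentyone] at hy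
        have h' := L.conj 21
        rw [show L.y * E.D.el 21 = E.D.el 21 * L.y from hy, mul_inv_cancel_right] at h'
        exact absurd (E.D.el_inj h') (by decide)
    rw [hd1, map_one] at hd
    exact (inv_mul_eq_one.1 hd.symm).symm
  refine ⟨θ, ?_, ?_, hθ⟩
  · haveI := alternatingGroup.isSimpleGroup (α := Fin (10 + 2)) (by simp)
    rcases θ.normal_ker.eq_bot_or_eq_top with h | h
    · exact (MonoidHom.ker_eq_bot_iff θ).1 h
    · exfalso
      have : θ (gcyc 10 0) = 1 := MonoidHom.mem_ker.1 (h ▸ Subgroup.mem_top _)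
      rw [hθ0] at this
      exact L.y_ne this
  · intro c
    obtain ⟨g, hg, hg0⟩ : ∃ g ∈ good, g.1 0 = c.1 0 := by
      by_cases h0 : c.1 0 = 0
      · exact ⟨1, one_mem _, by rw [h0]; rfl⟩
      by_cases h1 : c.1 0 = 1
      · exact ⟨a0 1, g1, by rw [h1]; exact reach_zero.1⟩
      have hj : 2 ≤ (c.1 0).val := by
        by_contra h
        rcases Nat.lt_or_ge (c.1 0).val 1 with h' | h'
        · exact h0 (Fin.ext (show _ = 0 by omega))
        · exact h1 (Fin.ext (show _ = 1 by omega))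
      exact ⟨_, gI (c.1 0) hj g2, reach_zero.2 _ hj⟩
    have hfix : (g⁻¹ * c).1 0 = 0 := by
      show g.1⁻¹ (c.1 0) = 0
      rw [← hg0, Perm.inv_def, Equiv.symm_apply_apply]
    have hfix1 : (g⁻¹ * c).1 1 = 1 := by
      have h1 : tp 0 = 1 := by decide +kernel
      rw [← h1, ← Perm.mul_apply, (mem_C0.1 (g⁻¹ * c).2).2, Perm.mul_apply, hfix]
    have := mul_mem hg (gstab _ hfix hfix1)
    rwa [mul_inv_cancel_left, hgood] at this

end Lift

end Cfsg.Agent.Spor.Yamaki
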