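import Mathlib

/-!
Involutions of the alternating groups of degree eight and nine.
-/

set_option autoImplicit false

namespace Cfsg.Agent.Spor.Yamaki

open Equiv Subgroup

variable {k : ℕ}

theorem invol_type {u : Perm (Fin k)} (h2 : u * u = 1) (h1 : u ≠ 1) (hs : Perm.sign u = 1) (hk : k ≤ 9) :
    (u.cycleType = Multiset.replicate 2 2 ∧ u.support.card = 4) ∨
      (u.cycleType = Multiset.replicate 4 2 ∧ u.support.card = 8) := by
  have ho : orderOf u = 2 := orderOf_eq_prime (by rw [pow_two, h2]) h1
  obtain ⟨m, hm⟩ := Equiv.Perm.cycleType_prime_order (σ := u) (by rw [ho]; exact Nat.prime_two)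
  rw [ho] at hm
  have hsum := Equiv.Perm.sum_cycleType u
  rw [hm, Multiset.sum_replicate, smul_eq_mul] at hsum
  have hle : u.support.card ≤ k := (Finset.card_le_univ _).trans (by rw [Fintype.card_fin])
  have hsign := Equiv.Perm.sign_of_cycleType u
  rw [hs, hm, Multiset.sum_replicate, Multiset.card_replicate, smul_eq_mul] at hsign
  have hm4 : m ≤ 3 := by omega
  interval_cases m
  · exact absurd hsign (by decide)
  · exact Or.inl ⟨hm, by omega⟩
  · exact absurd hsign (by decide)
  · exact Or.inr ⟨hm, by omega⟩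

/-- Involutions moving equally many points are conjugate by an even permutation. -/
theorem invol_conj {u v : Perm (Fin k)} (hu : u * u = 1) (hu1 : u ≠ 1) (hus : Perm.sign u = 1) (hv : v * v = 1)
    (hv1 : v ≠ 1) (hvs : Perm.sign v = 1) (hk : k ≤ 9) (h : u.support.card = v.support.card) :
    ∃ g ∈ alternatingGroup (Fin k), g * u * g⁻¹ = v := by
  obtain ⟨g, hg⟩ : ∃ g, g * u * g⁻¹ = v := by
    refine isConj_iff.1 (Equiv.Perm.isConj_iff_cycleType_eq.2 ?_)
    rcases invol_type hu hu1 hus hk with ⟨a, a'⟩ | ⟨a, a'⟩ <;>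
      rcases invol_type hv hv1 hvs hk with ⟨b, b'⟩ | ⟨b, b'⟩ <;> first
      | omega
      | rw [a, b]
  rcases Int.units_eq_one_or (Perm.sign g) with hg' | hg'
  · exact ⟨g, hg', hg⟩
  · obtain ⟨i, hi⟩ : ∃ i, u i ≠ i := by
      by_contra hn
      simp only [not_exists, not_not] at hn
      exact hu1 (Equiv.ext hn)
    have hsw : swap i (u i) * u * (swap i (u i))⁻¹ = u := by
      rw [mul_inv_eq_iff_eq_mul, mul_swap_eq_swap_mul, ← Perm.mul_apply, hu, Perm.one_apply, swap_comm]
    refine ⟨g * swap i (u i), ?_, ?_⟩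
    · rw [Perm.mem_alternatingGroup, map_mul, hg', Perm.sign_swap (Ne.symm hi)]
      decide
    · rw [mul_inv_rev, show g * swap i (u i) * u * ((swap i (u i))⁻¹ * g⁻¹) =
        g * (swap i (u i) * u * (swap i (u i))⁻¹) * g⁻¹ by group, hsw, hg]

/-- The centraliser of an involution with two transpositions has order other than one hundred and ninety-two. -/
theorem cent_card_ne {u : Perm (Fin k)} (h2 : u * u = 1) (hu : u.cycleType = Multiset.replicate 2 2)
    (hk : k = 8 ∨ k = 9) : Nat.card ↥(alternatingGroup (Fin k) ⊓ centralizer ({u} : Set (Perm (Fin k)))) ≠ 192 := by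
  intro h
  have hfull := Equiv.Perm.nat_card_centralizer (g := u)
  rw [hu, Fintype.card_fin] at hfull
  have h1 : u ≠ 1 := fun e => by simp [e] at hu
  obtain ⟨i, hi⟩ : ∃ i, u i ≠ i := by
    by_contra hn
    simp only [not_exists, not_not] at hn
    exact h1 (Equiv.ext hn)
  set C := centralizer ({u} : Set (Perm (Fin k)))
  have hidx : (alternatingGroup (Fin k) ⊓ C).relIndex C = 2 := by
    rw [inf_relIndex_right, Subgroup.relIndex]
    have : Nontrivial (Fin k) := ⟨⟨_, _, hi⟩⟩
    refine le_antisymm ?_ ?_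
    · refine Nat.le_of_dvd two_pos ?_
      rw [← alternatingGroup.index_eq_two (α := Fin k)]
      exact relIndex_dvd_index_of_normal _ _
    · have hne : ((alternatingGroup (Fin k)).subgroupOf C).index ≠ 1 := by
        rw [Ne, index_eq_one]
        intro hh
        have hs : swap i (u i) ∈ C :=
          mem_centralizer_singleton_iff.2 (by
            rw [mul_swap_eq_swap_mul, ← Perm.mul_apply, h2, Perm.one_apply, swap_comm])
        have := (hh ▸ mem_top (⟨_, hs⟩ : C) : (⟨_, hs⟩ : C) ∈ (alternatingGroup (Fin k)).subgroupOf C)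
        rw [mem_subgroupOf, Perm.mem_alternatingGroup, Perm.sign_swap (Ne.symm hi)] at this
        exact absurd this (by decide)
      have := Subgroup.index_ne_zero_of_finite (H := (alternatingGroup (Fin k)).subgroupOf C)
      omega
  have h3 := relIndex_mul_relIndex (⊥ : Subgroup (Perm (Fin k))) (alternatingGroup (Fin k) ⊓ C) C bot_le inf_le_right
  rw [relIndex_bot_left, relIndex_bot_left, hidx, h, hfull] at h3
  rcases hk with rfl | rfl
  · revert h3; decide +kernel
  · revert h3; decide +kernel

end Cfsg.Agent.Spor.Yamaki
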