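import Cfsg.Agent.Lib.Spor.Yamaki.Twenty
import Cfsg.Agent.Lib.Spor.Yamaki.LiftData

/-!
A lift of the three-cycle on the first block, centralised by the pointwise stabiliser of that block.
-/

set_option autoImplicit false
set_option maxRecDepth 100000
set_option Elab.async false

universe u

namespace Cfsg.Agent.Spor.Yamaki

open Equiv Subgroup

/-- double transpositions as codes -/
def dbl (a b c d : ℕ) : ℕ :=
  tab fun i => if Nat.beq i a then b else if Nat.beq i b then a else if Nat.beq i c then d else if Nat.beq i d then c else i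

theorem dbl_of_moved {w : P12} (h2 : w * w = 1) (hs : w.support.card = 4) :
    ∃ a b c d : Fin 12, a.val < b.val ∧ c.val < d.val ∧ a.val < c.val ∧ enc w = dbl a b c d := by
  classical
  have hinv : ∀ i, w (w i) = i := fun i => by rw [← Perm.mul_apply, h2, Perm.one_apply]
  have hne : w.support.Nonempty := Finset.card_pos.1 (by omega)
  set a := w.support.min' hne
  have ha : a ∈ w.support := Finset.min'_mem _ _
  have hmin : ∀ x ∈ w.support, a.val ≤ x.val := fun x hx => Finset.min'_le _ _ hx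
  have hwa : w a ≠ a := Perm.mem_support.1 ha
  have hb : w a ∈ w.support := Perm.apply_mem_support.2 ha
  have hne2 : ((w.support.erase a).erase (w a)).Nonempty := Finset.card_pos.1 (by
    rw [Finset.card_erase_of_mem (Finset.mem_erase.2 ⟨hwa, hb⟩), Finset.card_erase_of_mem ha]; omega)
  set c := ((w.support.erase a).erase (w a)).min' hne2
  have hc : c ∈ (w.support.erase a).erase (w a) := Finset.min'_mem _ _
  simp only [Finset.mem_erase] at hc
  obtain ⟨hcb, hca, hcs⟩ := hc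
  have hwc : w c ≠ c := Perm.mem_support.1 hcs
  have hd1 : w c ≠ a := fun h => hcb (by rw [← h, hinv])
  have hd2 : w c ≠ w a := fun h => hca (w.injective h)
  have hlt : ∀ {x y : Fin 12}, x ≠ y → x.val ≤ y.val → x.val < y.val := fun h h' =>
    lt_of_le_of_ne h' (fun e => h (Fin.ext e))
  refine ⟨a, w a, c, w c, hlt hwa.symm (hmin _ hb), hlt hwc.symm (Finset.min'_le _ _ (by
      exact Finset.mem_erase.2 ⟨hd2, Finset.mem_erase.2 ⟨hd1, Perm.apply_mem_support.2 hcs⟩⟩)),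
    hlt (Ne.symm hca) (hmin _ hcs), tab_congr fun i hi => ?_⟩
  rw [fi_eq hi]
  have hfour : ∀ x : Fin 12, w x ≠ x → x = a ∨ x = w a ∨ x = c ∨ x = w c := by
    intro x hx
    by_contra hn
    simp only [not_or] at hn
    have hsub : ({a, w a, c, w c, x} : Finset (Fin 12)) ⊆ w.support := by
      intro z hz
      simp only [Finset.mem_insert, Finset.mem_singleton] at hz
      rcases hz with rfl | rfl | rfl | rfl | rfl
      exacts [ha, hb, hcs, Perm.apply_mem_support.2 hcs, Perm.mem_support.2 hx]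
    have h5 := Finset.card_le_card hsub
    rw [hs, Finset.card_insert_of_notMem (by simp [hwa.symm, Ne.symm hca, Ne.symm hd1, Ne.symm hn.1]),
      Finset.card_insert_of_notMem (by simp [Ne.symm hcb, Ne.symm hd2, Ne.symm hn.2.1]),
      Finset.card_insert_of_notMem (by simp [hwc.symm, Ne.symm hn.2.2.1]),
      Finset.card_insert_of_notMem (by simp [Ne.symm hn.2.2.2]), Finset.card_singleton] at h5
    omega
  have hne' : ∀ {x y : Fin 12}, x ≠ y → Nat.beq x.val y.val = false := fun h => by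
    rw [← Bool.not_eq_true, Nat.beq_eq]; exact fun e => h (Fin.ext e)
  show (w ⟨i, hi⟩).val = _
  generalize hx : (⟨i, hi⟩ : Fin 12) = x
  have hxi : i = x.val := by rw [← hx]
  rw [hxi]
  by_cases hfix : w x = x
  · have h1 : ∀ z, w z ≠ z → x ≠ z := fun z hz e => hz (e ▸ hfix)
    rw [hne' (h1 a hwa), hne' (h1 (w a) (fun e => hwa (w.injective e))), hne' (h1 c hwc),
      hne' (h1 (w c) (fun e => hwc (w.injective e))), hfix]
    simp
  rcases hfour x hfix with rfl | rfl | rfl | rfl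
  · simp
  · rw [hne' hwa, hinv]; simp
  · rw [hne' hca, hne' hcb]; simp
  · rw [hne' hd1, hne' hd2, hne' hwc, hinv]; simp

theorem av_of_cent {x : C0} (h : ∀ v : Fin 64, x * a0 v = a0 v * x) : ∃ w, x = a0 w := by
  have hp : ∀ (v : Fin 64) (i : Fin 12), x.1 (av v i) = av v (x.1 i) := fun v i =>
    congrArg (fun p : C0 => p.1 i) (h v)
  have hblock : ∀ b : Fin 3, ∃ v : Fin 64, ∀ i : Fin 12, (av v i = i ↔ i.val / 4 ≠ b.val) := by decide +kernel
  have hblk : ∀ i : Fin 12, (x.1 i).val / 4 = i.val / 4 := by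
    intro i
    obtain ⟨v, hv⟩ := hblock ⟨i.val / 4, by omega⟩
    by_contra hne
    have h1 : av v (x.1 i) = x.1 i := (hv _).2 hne
    rw [← hp] at h1
    exact (hv i).1 (x.1.injective h1) rfl
  have hw : ∀ p q r : Fin 12, p.val / 4 = 0 → q.val / 4 = 1 → r.val / 4 = 2 →
      ∃ w : Fin 64, av w 0 = p ∧ av w 4 = q ∧ av w 8 = r := by decide +kernel
  obtain ⟨w, w0, w4, w8⟩ := hw (x.1 0) (x.1 4) (x.1 8) (hblk 0) (hblk 4) (hblk 8)
  have htr : ∀ i : Fin 12, ∃ v : Fin 64, i = av v 0 ∨ i = av v 4 ∨ i = av v 8 := by decide +kernel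
  refine ⟨w, Subtype.ext (Equiv.ext fun i => ?_)⟩
  show x.1 i = av w i
  obtain ⟨v, e | e | e⟩ := htr i <;> rw [e, hp, ← Perm.mul_apply (av w),
    A0_comm ⟨w, rfl⟩ ⟨v, rfl⟩, Perm.mul_apply]
  exacts [by rw [w0], by rw [w4], by rw [w8]]

theorem f0_chain : ((List.range 192).all fun k => if Nat.beq k 0 then Nat.beq (f0L.getD k 0) idN else
    Nat.blt (f0P.getD k (0, 0)).2 k && Nat.blt (f0P.getD k (0, 0)).1 5 &&
      Nat.beq (f0L.getD k 0) (mN ([avN 4, avN 8, avN 16, avN 32, cjN.getD 3 0].getD (f0P.getD k (0, 0)).1 0)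
        (f0L.getD (f0P.getD k (0, 0)).2 0))) = true := by decide +kernel

/-- candidates for the image of the exchange of two pairs -/
theorem cand_table : ((List.range 12).all fun a => (List.range 12).all fun b => (List.range 12).all fun c =>
    (List.range 12).all fun d =>
    !(Nat.blt a b && Nat.blt c d && Nat.blt a c && Nat.beq (mN (dbl a b c d) (dbl a b c d)) idN &&
      cm (dbl a b c d) tpN && cm (dbl a b c d) (avN 1) && cm (dbl a b c d) (avN 2) &&
      [4, 8, 16, 32].all fun m =>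
        let w := mN (dbl a b c d) (avN m)
        let t := mN (cjN.getD 3 0) (avN m)
        (Nat.beq (mN w w) idN == Nat.beq (mN t t) idN) &&
          (Nat.beq (mN w (mN w w)) idN == Nat.beq (mN t (mN t t)) idN) &&
            (Nat.beq (mN (mN w w) (mN w w)) idN == Nat.beq (mN (mN t t) (mN t t)) idN)) ||
    (List.range 16).any fun v =>
      Nat.beq (dbl a b c d) (mN (avN (4 * v)) (mN (cjN.getD 3 0) (avN (4 * v))))) = true := by decide +kernel

theorem sig3_low : ∀ v : Fin 64, v.val % 4 = 0 → sig3 v = v := by decide +kernel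

attribute [local irreducible] mN enc tab avN dbl

/-- a lift of the three-cycle -/
structure Lift {G : Type u} [Group G] [Finite G] (E : Data27 G) where
  y : G
  cube : y * y * y = 1
  conj : ∀ v, y * E.D.el v * y⁻¹ = E.D.el (sig3 v)
  inv01 : E.D.φ ⟨fP 0, fP_mem 0⟩ * y * (E.D.φ ⟨fP 0, fP_mem 0⟩)⁻¹ = y⁻¹

namespace Data27

variable {G : Type u} [Group G] [Finite G] (E : Data27 G)

theorem el_zero : E.D.el 0 = 1 := by rw [Ctx.el, show a0 0 = 1 from Subtype.ext av_zero, map_one]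

theorem el_inv (v : Fin 64) : (E.D.el v)⁻¹ = E.D.el v :=
  inv_eq_of_mul_eq_one_right (by rw [E.D.el_mul, vx_self, E.el_zero])

theorem trivial_act {g : normalizer (E.D.A : Set G)} (h : ∀ v, E.D.act g v = v) : ∃ w, g.1 = E.D.el w := by
  have hc : ∀ v, g.1 * E.D.el v = E.D.el v * g.1 := fun v => by
    have h1 := E.D.el_act g v
    rw [h v] at h1
    rw [eq_comm, mul_inv_eq_iff_eq_mul] at h1
    exact h1
  obtain ⟨x, hx⟩ := E.D.exists_pre (g := g.1) (by rw [← E.D.el_alpha]; exact hc 21)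
  obtain ⟨w, rfl⟩ := av_of_cent (x := x) fun v => E.D.inj (by rw [map_mul, map_mul, hx]; exact hc v)
  exact ⟨w, hx.symm⟩

theorem exists_lift : Nonempty (Lift E) := by
  obtain ⟨h, hh⟩ := E.exists_sig3
  set n := h * h * (h * h)
  have hn : ∀ v, E.D.act n v = sig3 v := fun v => by
    simp only [n, Ctx.act_mul, hh]
    exact sig3_facts.2.1 (sig3 v)
  have hn3 : n.1 * n.1 * n.1 = 1 := by
    have ht : ∀ v, E.D.act (h * h * h) v = v := fun v => by
      simp only [Ctx.act_mul, hh]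
      exact sig3_facts.2.1 v
    have h6 := E.D.cube_trivial ht
    simp only [n, Subgroup.coe_mul] at h6 ⊢
    calc h.1 * h.1 * (h.1 * h.1) * (h.1 * h.1 * (h.1 * h.1)) * (h.1 * h.1 * (h.1 * h.1))
        = (h.1 * h.1 * h.1 * (h.1 * h.1 * h.1)) * (h.1 * h.1 * h.1 * (h.1 * h.1 * h.1)) := by group
      _ = 1 := by rw [h6, one_mul]
  set e := E.D.fG 0 with he
  let te : Fin 64 → Fin 64 := E.D.act e
  have hte : ∀ v, te v = ⟨Ctx.fAct 0 v.val % 64, Nat.mod_lt _ (by norm_num)⟩ := fun v => Fin.ext (by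
    show (E.D.act e v).val = Ctx.fAct 0 v.val % 64
    rw [← show (E.D.act e v).val = Ctx.fAct 0 v.val from E.D.fAct_eq 0 v,
      Nat.mod_eq_of_lt (E.D.act e v).isLt])
  let t0 : Fin 64 → Fin 64 := fun v => ⟨Ctx.fAct 0 v.val % 64, Nat.mod_lt _ (by norm_num)⟩
  have he2 : e.1 * e.1 = 1 := by
    show E.D.φ ⟨fP 0, fP_mem 0⟩ * E.D.φ ⟨fP 0, fP_mem 0⟩ = 1
    rw [← map_mul, ← map_one E.D.φ]
    refine congrArg E.D.φ (Subtype.ext (enc_inj ?_))
    show enc (fP 0 * fP 0) = enc 1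
    rw [enc_mul, enc_fP, enc_one]
    decide +kernel
  have hr : ∀ v, E.D.act (e * n * (e * n)) v = v := by
    intro v
    simp only [Ctx.act_mul, hn]
    show te (sig3 (te (sig3 v))) = v
    rw [hte, hte]
    revert v
    decide +kernel
  obtain ⟨u, hu⟩ := E.trivial_act hr
  simp only [Subgroup.coe_mul] at hu
  have hei : e.1⁻¹ = e.1 := inv_eq_of_mul_eq_one_right he2
  have hene : e.1 * n.1 * e.1 = E.D.el u * n.1⁻¹ := by rw [← hu]; group
  have hsu : sig3 u = te u := by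
    have h1 : E.D.el (te u) * n.1 = n.1 * E.D.el u := by
      calc E.D.el (te u) * n.1 = e.1 * E.D.el u * e.1 * n.1 := by rw [Ctx.el_act, hei]
        _ = e.1 * E.D.el u * n.1⁻¹ * (n.1 * e.1 * n.1) := by group
        _ = e.1 * (e.1 * n.1 * e.1) * (n.1 * e.1 * n.1) := by rw [hene]; group
        _ = (e.1 * e.1) * n.1 * (e.1 * n.1 * (e.1 * n.1)) := by group
        _ = n.1 * E.D.el u := by rw [he2, hu, one_mul]
    refine E.D.el_inj ?_
    rw [← hn u, Ctx.el_act, ← h1, mul_inv_cancel_right]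
  have hn2 : n.1⁻¹ = n.1 * n.1 := inv_eq_of_mul_eq_one_right (by rw [← mul_assoc]; exact hn3)
  have hcv : ∀ v, n.1 * E.D.el v = E.D.el (sig3 v) * n.1 := fun v => by
    rw [← hn v, Ctx.el_act, inv_mul_cancel_right]
  have hsum : vx (vx u (sig3 (sig3 u))) (sig3 u) = 0 := by
    refine E.D.el_inj ?_
    rw [E.el_zero, ← E.D.el_mul, ← E.D.el_mul]
    have h3 : (e.1 * n.1 * e.1) * (e.1 * n.1 * e.1) * (e.1 * n.1 * e.1) = 1 := by
      calc (e.1 * n.1 * e.1) * (e.1 * n.1 * e.1) * (e.1 * n.1 * e.1)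
          = e.1 * n.1 * (e.1 * e.1) * n.1 * (e.1 * e.1) * n.1 * e.1 := by group
        _ = e.1 * (n.1 * n.1 * n.1) * e.1 := by rw [he2]; group
        _ = 1 := by rw [hn3, mul_one, he2]
    rw [hene] at h3
    have hi : ∀ v, n.1⁻¹ * E.D.el v = E.D.el (sig3 (sig3 v)) * n.1⁻¹ := fun v => by
      rw [eq_mul_inv_iff_mul_eq, mul_assoc, inv_mul_eq_iff_eq_mul, hcv, sig3_facts.2.1]
    calc E.D.el u * E.D.el (sig3 (sig3 u)) * E.D.el (sig3 u)
        = E.D.el u * E.D.el (sig3 (sig3 u)) * E.D.el (sig3 u) * (n.1 * n.1 * n.1)⁻¹ := by rw [hn3, inv_one, mul_one]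
      _ = E.D.el u * E.D.el (sig3 (sig3 u)) * (n.1⁻¹ * n.1 * E.D.el (sig3 u)) * (n.1 * n.1 * n.1)⁻¹ := by group
      _ = E.D.el u * E.D.el (sig3 (sig3 u)) * (n.1⁻¹ * (E.D.el (sig3 (sig3 u)) * n.1)) * (n.1 * n.1 * n.1)⁻¹ := by
          rw [mul_assoc n.1⁻¹, hcv]
      _ = E.D.el u * (E.D.el (sig3 (sig3 u)) * n.1⁻¹) * (E.D.el (sig3 (sig3 u)) * n.1⁻¹) * n.1⁻¹ := by group
      _ = E.D.el u * (n.1⁻¹ * E.D.el u) * (n.1⁻¹ * E.D.el u) * n.1⁻¹ := by rw [hi]
      _ = 1 := by rw [← h3]; group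
  obtain ⟨v, hv4, hv⟩ : ∃ v : Fin 64, v.val < 4 ∧
      vx (te (vx v (sig3 v))) u = vx v (sig3 (sig3 v)) := by
    rw [hte] at hsu
    have hall : ∀ u : Fin 64, sig3 u = t0 u → vx (vx u (sig3 (sig3 u))) (sig3 u) = 0 →
        ∃ v : Fin 64, v.val < 4 ∧ vx (t0 (vx v (sig3 v))) u = vx v (sig3 (sig3 v)) := by decide +kernel
    obtain ⟨v, h1, h2⟩ := hall u hsu hsum
    exact ⟨v, h1, by rw [hte]; exact h2⟩
  set y := E.D.el (vx v (sig3 v)) * n.1 with hy
  have hyv : y = E.D.el v * n.1 * E.D.el v := by rw [hy, mul_assoc (E.D.el v), hcv, ← mul_assoc, E.D.el_mul]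
  refine ⟨⟨y, ?_, fun w => ?_, ?_⟩⟩
  · rw [hyv]
    calc E.D.el v * n.1 * E.D.el v * (E.D.el v * n.1 * E.D.el v) * (E.D.el v * n.1 * E.D.el v)
        = E.D.el v * n.1 * (E.D.el v * E.D.el v) * n.1 * (E.D.el v * E.D.el v) * n.1 * E.D.el v := by group
      _ = E.D.el v * (n.1 * n.1 * n.1) * E.D.el v := by rw [E.D.el_mul, vx_self, E.el_zero]; group
      _ = 1 := by rw [hn3, mul_one, E.D.el_mul, vx_self, E.el_zero]
  · rw [hy, mul_assoc _ n.1, hcv, ← mul_assoc, E.D.el_mul, mul_inv_rev, E.el_inv, ← mul_assoc,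
      mul_inv_cancel_right, E.D.el_mul]
    congr 1
    have hx : ∀ a b : Fin 64, vx (vx a b) a = b := by decide +kernel
    exact hx _ _
  · show e.1 * y * e.1⁻¹ = y⁻¹
    rw [hei, hy, mul_inv_rev, E.el_inv,
      show e.1 * (E.D.el (vx v (sig3 v)) * n.1) * e.1 = e.1 * E.D.el (vx v (sig3 v)) * (e.1 * e.1) * n.1 * e.1 by
        rw [he2]; group,
      show e.1 * E.D.el (vx v (sig3 v)) * (e.1 * e.1) * n.1 * e.1 =
        (e.1 * E.D.el (vx v (sig3 v)) * e.1) * (e.1 * n.1 * e.1) by group,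
      hene, show e.1 * E.D.el (vx v (sig3 v)) * e.1 = E.D.el (te (vx v (sig3 v))) by rw [Ctx.el_act, hei],
      ← mul_assoc, E.D.el_mul, hv]
    have h1 : n.1⁻¹ * E.D.el (vx v (sig3 v)) = E.D.el (vx v (sig3 (sig3 v))) * n.1⁻¹ := by
      rw [eq_mul_inv_iff_mul_eq, mul_assoc, inv_mul_eq_iff_eq_mul, hcv, sig3_facts.1, sig3_facts.2.1,
        show vx (sig3 v) v = vx v (sig3 v) from Fin.ext (by simp [vx, Nat.xor_comm])]
    rw [h1]

end Data27

namespace Lift

variable {G : Type u} [Group G] [Finite G] {E : Data27 G} (L : Lift E)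

theorem comm_el {v : Fin 64} (hv : v.val % 4 = 0) : L.y * E.D.el v = E.D.el v * L.y := by
  have h := L.conj v
  rwa [sig3_low v hv, mul_inv_eq_iff_eq_mul] at h

/-- The lift commutes with the exchange of two pairs outside the first block. -/
theorem comm_tau : L.y * E.D.φ ⟨cjP 3, cjP_mem 3⟩ = E.D.φ ⟨cjP 3, cjP_mem 3⟩ * L.y := by
  set t : C0 := ⟨cjP 3, cjP_mem 3⟩
  have hyi : ∀ v, L.y * E.D.el v * L.y⁻¹ = E.D.el (sig3 v) := L.conj
  have ht : ∀ v : Fin 64, (v = 1 ∨ v = 2 ∨ v = 3 ∨ v = 20) → E.D.φ t * E.D.el v = E.D.el v * E.D.φ t := by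
    intro v hv
    rw [Ctx.el, ← map_mul, ← map_mul]
    refine congrArg E.D.φ (Subtype.ext (cm_iff.1 ?_))
    show cm (enc (cjP 3)) (enc (av v)) = true
    rw [enc_cjP, enc_av]
    rcases hv with rfl | rfl | rfl | rfl <;> decide +kernel
  set g := L.y * E.D.φ t * L.y⁻¹ with hg
  have hgc : ∀ v, (v = 1 ∨ v = 2 ∨ v = 3 ∨ v = 20) → g * E.D.el v = E.D.el v * g := by
    intro v hv
    obtain ⟨v', hv', rfl⟩ : ∃ v', (v' = 1 ∨ v' = 2 ∨ v' = 3 ∨ v' = 20) ∧ sig3 v' = v := by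
      rcases hv with rfl | rfl | rfl | rfl
      exacts [⟨2, by simp, by decide⟩, ⟨3, by simp, by decide⟩, ⟨1, by simp, by decide⟩, ⟨20, by simp, by decide⟩]
    rw [← hyi, hg]
    calc L.y * E.D.φ t * L.y⁻¹ * (L.y * E.D.el v' * L.y⁻¹) = L.y * (E.D.φ t * E.D.el v') * L.y⁻¹ := by group
      _ = L.y * (E.D.el v' * E.D.φ t) * L.y⁻¹ := by rw [ht v' hv']
      _ = _ := by group
  obtain ⟨w, hw⟩ := E.D.exists_pre (g := g) (by
    rw [← E.D.el_alpha, show (21 : Fin 64) = vx 20 1 by decide, ← E.D.el_mul, ← mul_assoc,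
      hgc 20 (by simp), mul_assoc, hgc 1 (by simp), mul_assoc])
  have ht2 : t * t = 1 := Subtype.ext (cjP_sq 3)
  have hw2 : w * w = 1 := E.D.inj (by
    rw [map_mul, hw, map_one, hg, show L.y * E.D.φ t * L.y⁻¹ * (L.y * E.D.φ t * L.y⁻¹) =
      L.y * (E.D.φ t * E.D.φ t) * L.y⁻¹ by group, ← map_mul, ht2, map_one, mul_one, mul_inv_cancel])
  have hw4 : w.1.support.card = 4 := by
    rw [← E.moved_conj (g := L.y) ht2 hw2 hw.symm, ← moved_enc]
    show moved (enc (cjP 3)) = 4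
    rw [enc_cjP]
    decide +kernel
  obtain ⟨a, b, c, d, h1, h2, h3, hd⟩ := dbl_of_moved (congrArg Subtype.val hw2) hw4
  have hcomm : ∀ v : Fin 64, (v = 1 ∨ v = 2) → cm (enc w.1) (avN v.val) = true := by
    intro v hv
    rw [← enc_av]
    refine cm_iff.2 (congrArg Subtype.val (E.D.inj (a₁ := w * a0 v) (a₂ := a0 v * w) ?_))
    rw [map_mul, map_mul, hw]
    exact hgc v (by rcases hv with rfl | rfl <;> simp)
  have hpow : ∀ v : Fin 64, v.val % 4 = 0 → ∀ k : ℕ, (w * a0 v) ^ k = 1 ↔ (t * a0 v) ^ k = 1 := by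
    intro v hv k
    have h4 : E.D.φ (w * a0 v) = MulAut.conj L.y (E.D.φ (t * a0 v)) := by
      rw [map_mul, map_mul, hw, hg, MulAut.conj_apply, ← Ctx.el]
      calc L.y * E.D.φ t * L.y⁻¹ * E.D.el v = L.y * E.D.φ t * L.y⁻¹ * (E.D.el v * L.y) * L.y⁻¹ := by group
        _ = L.y * E.D.φ t * L.y⁻¹ * (L.y * E.D.el v) * L.y⁻¹ := by rw [L.comm_el hv]
        _ = _ := by group
    rw [← E.D.inj.eq_iff, map_pow, h4, ← map_pow, map_one]
    conv_rhs => rw [← E.D.inj.eq_iff, map_pow, map_one]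
    exact (MulAut.conj L.y).map_eq_one_iff
  have hcode : ∀ (x : C0) (n : ℕ), enc x.1 = n →
      (Nat.beq (mN n n) idN = true ↔ x ^ 2 = 1) ∧ (Nat.beq (mN n (mN n n)) idN = true ↔ x ^ 3 = 1) ∧
        (Nat.beq (mN (mN n n) (mN n n)) idN = true ↔ x ^ 4 = 1) := by
    rintro x _ rfl
    have e : ∀ p : C0, (Nat.beq (enc p.1) idN = true ↔ p = 1) := fun p => by
      rw [← enc_one, beq_enc]
      exact ⟨fun h => Subtype.ext h, fun h => congrArg Subtype.val h⟩
    simp only [← enc_mul, ← Subgroup.coe_mul, e, pow_succ, pow_zero, one_mul, mul_assoc, and_self]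
  have htab := List.all_eq_true.1 (List.all_eq_true.1 (List.all_eq_true.1 (List.all_eq_true.1 cand_table
    a.val (List.mem_range.2 a.isLt)) b.val (List.mem_range.2 b.isLt)) c.val (List.mem_range.2 c.isLt))
    d.val (List.mem_range.2 d.isLt)
  rw [← hd] at htab
  simp only [Bool.or_eq_true, Bool.not_eq_true'] at htab
  rcases htab with hfalse | hconj
  · exfalso
    rw [← Bool.not_eq_true] at hfalse
    refine hfalse ?_
    simp only [Bool.and_eq_true, List.all_eq_true, beq_iff_eq]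
    refine ⟨⟨⟨⟨⟨⟨⟨Nat.ble_eq.mpr h1, Nat.ble_eq.mpr h2⟩, Nat.ble_eq.mpr h3⟩, ?_⟩, ?_⟩, ?_⟩, ?_⟩, fun m hm => ?_⟩
    · rw [← enc_mul, ← enc_one]
      exact beq_enc.2 (congrArg Subtype.val hw2)
    · rw [← probe_enc.2.1]
      exact cm_iff.2 (mem_C0.1 w.2).2
    · exact hcomm 1 (Or.inl rfl)
    · exact hcomm 2 (Or.inr rfl)
    · have hm' : m < 64 ∧ m % 4 = 0 := by
        simp only [List.mem_cons, List.not_mem_nil, or_false] at hm
        rcases hm with rfl | rfl | rfl | rfl <;> norm_num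
      obtain ⟨a2, a3, a4⟩ := hcode (w * a0 ⟨m, hm'.1⟩) (mN (enc w.1) (avN m))
        (by rw [Subgroup.coe_mul, enc_mul, show (a0 ⟨m, hm'.1⟩).1 = av ⟨m, hm'.1⟩ from rfl, enc_av])
      obtain ⟨b2, b3, b4⟩ := hcode (t * a0 ⟨m, hm'.1⟩) (mN (cjN.getD 3 0) (avN m))
        (by rw [Subgroup.coe_mul, enc_mul, show (a0 ⟨m, hm'.1⟩).1 = av ⟨m, hm'.1⟩ from rfl, enc_av,
          show t.1 = cjP 3 from rfl, enc_cjP]; rfl)
      have hp := hpow ⟨m, hm'.1⟩ hm'.2
      exact ⟨⟨Bool.eq_iff_iff.2 (a2.trans ((hp 2).trans b2.symm)), Bool.eq_iff_iff.2 (a3.trans ((hp 3).trans b3.symm))⟩,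
        Bool.eq_iff_iff.2 (a4.trans ((hp 4).trans b4.symm))⟩
  · obtain ⟨v, hv, he⟩ := List.any_eq_true.1 hconj
    have hv' := List.mem_range.1 hv
    set u : Fin 64 := ⟨4 * v, by omega⟩
    have hwt : w = a0 u * (t * a0 u) := Subtype.ext (enc_inj (by
      rw [Nat.beq_eq.mp he]
      show _ = enc (av u * (cjP 3 * av u))
      rw [enc_mul, enc_mul, enc_cjP, enc_av]
      rfl))
    have hu := L.comm_el (v := u) (show 4 * v % 4 = 0 by omega)
    have hstep : L.y * E.D.φ t * L.y⁻¹ = E.D.el u * E.D.φ t * E.D.el u := by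
      rw [← hg, ← hw, hwt, map_mul, map_mul, mul_assoc]
      rfl
    have hii : E.D.el u * E.D.el u = 1 := by rw [E.D.el_mul, vx_self, E.el_zero]
    have hcy : ∀ z, L.y * (E.D.el u * z * E.D.el u) * L.y⁻¹ = E.D.el u * (L.y * z * L.y⁻¹) * E.D.el u := fun z => by
      calc L.y * (E.D.el u * z * E.D.el u) * L.y⁻¹
          = (L.y * E.D.el u) * z * L.y⁻¹ * (L.y * E.D.el u) * L.y⁻¹ := by group
        _ = (E.D.el u * L.y) * z * L.y⁻¹ * (E.D.el u * L.y) * L.y⁻¹ := by rw [hu]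
        _ = _ := by group
    have h3 : E.D.el u * E.D.φ t * E.D.el u = E.D.φ t := by
      have h0 : L.y * (L.y * (L.y * E.D.φ t * L.y⁻¹) * L.y⁻¹) * L.y⁻¹ = E.D.φ t := by
        calc L.y * (L.y * (L.y * E.D.φ t * L.y⁻¹) * L.y⁻¹) * L.y⁻¹
            = (L.y * L.y * L.y) * E.D.φ t * (L.y * L.y * L.y)⁻¹ := by group
          _ = E.D.φ t := by rw [L.cube]; group
      rw [hstep, hcy, hstep, hcy, hcy, hstep] at h0
      calc E.D.el u * E.D.φ t * E.D.el u
          = (E.D.el u * E.D.el u) * (E.D.el u * E.D.φ t * E.D.el u) * (E.D.el u * E.D.el u) := by rw [hii]; group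
        _ = E.D.el u * (E.D.el u * (E.D.el u * E.D.φ t * E.D.el u) * E.D.el u) * E.D.el u := by group
        _ = E.D.φ t := h0
    rw [h3, mul_inv_eq_iff_eq_mul] at hstep
    exact hstep

/-- The pointwise stabiliser of the first block centralises the lift. -/
theorem comm_f0 : ∀ k < 192, ∃ c : C0, enc c.1 = f0L.getD k 0 ∧ L.y * E.D.φ c = E.D.φ c * L.y := by
  intro k
  induction k using Nat.strong_induction_on with
  | _ k ih =>
    intro hk
    have h := List.all_eq_true.1 f0_chain k (List.mem_range.2 hk)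
    split_ifs at h with h0
    · exact ⟨1, by rw [Nat.beq_eq.mp h]; exact enc_one, by simp⟩
    · simp only [Bool.and_eq_true] at h
      obtain ⟨⟨h1, h2⟩, h3⟩ := h
      obtain ⟨c, hc, hcy⟩ := ih _ (Nat.ble_eq.mp h1) (lt_trans (Nat.ble_eq.mp h1) hk)
      have hgen : ∀ i < 5, ∃ g : C0, enc g.1 = [avN 4, avN 8, avN 16, avN 32, cjN.getD 3 0].getD i 0 ∧
          L.y * E.D.φ g = E.D.φ g * L.y := by
        intro i hi
        interval_cases i
        · exact ⟨a0 4, enc_av 4, L.comm_el rfl⟩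
        · exact ⟨a0 8, enc_av 8, L.comm_el rfl⟩
        · exact ⟨a0 16, enc_av 16, L.comm_el rfl⟩
        · exact ⟨a0 32, enc_av 32, L.comm_el rfl⟩
        · exact ⟨⟨cjP 3, cjP_mem 3⟩, enc_cjP 3, L.comm_tau⟩
      obtain ⟨g, hg, hgy⟩ := hgen _ (Nat.ble_eq.mp h2)
      refine ⟨g * c, ?_, ?_⟩
      · rw [Nat.beq_eq.mp h3, Subgroup.coe_mul, enc_mul, hg, hc]
      · rw [map_mul, ← mul_assoc, hgy, mul_assoc, hcy, mul_assoc]

end Lift

end Cfsg.Agent.Spor.Yamaki
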