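import Cfsg.Agent.Lib.Spor.Yamaki.Codes
import Cfsg.Agent.Lib.Spor.Yamaki.ModelData

/-!
The centraliser of a fixed-point-free involution in the alternating group of degree twelve and its Sylow subgroup.
-/

set_option autoImplicit false
set_option maxRecDepth 100000
set_option Elab.async false

namespace Cfsg.Agent.Spor.Yamaki

open Equiv Subgroup

/-- the model group -/
def C0 : Subgroup P12 := alternatingGroup (Fin 12) ⊓ centralizer ({tp} : Set P12)

theorem mem_C0 {p : P12} : p ∈ C0 ↔ Perm.sign p = 1 ∧ p * tp = tp * p := by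
  rw [C0, mem_inf, Perm.mem_alternatingGroup, mem_centralizer_singleton_iff]

theorem tp_facts : tp * tp = 1 ∧ tp.support.card = 12 ∧ tp ≠ 1 ∧ Perm.sign tp = 1 ∧
    tp * swap 0 1 = swap 0 1 * tp := by decide +kernel

theorem tp_mem : tp ∈ C0 := mem_C0.2 ⟨tp_facts.2.2.2.1, rfl⟩

theorem cycleType_tp : tp.cycleType = Multiset.replicate 6 2 := by
  obtain ⟨h1, h2, h3, -⟩ := tp_facts
  have ho : orderOf tp = 2 := orderOf_eq_prime (by rw [pow_two, h1]) h3
  obtain ⟨k, hk⟩ := Equiv.Perm.cycleType_prime_order (σ := tp) (by rw [ho]; exact Nat.prime_two)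
  rw [ho] at hk
  have hs := Equiv.Perm.sum_cycleType tp
  rw [hk, h2, Multiset.sum_replicate, smul_eq_mul] at hs
  rw [hk, show k + 1 = 6 by omega]

theorem card_full : Nat.card (centralizer ({tp} : Set P12)) = 46080 := by
  rw [Equiv.Perm.nat_card_centralizer, cycleType_tp, Fintype.card_fin]
  decide +kernel

theorem card_C0 : Nat.card C0 = 23040 := by
  have hidx : C0.relIndex (centralizer ({tp} : Set P12)) = 2 := by
    rw [C0, inf_relIndex_right, Subgroup.relIndex]
    refine le_antisymm ?_ ?_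
    · refine Nat.le_of_dvd two_pos ?_
      rw [← alternatingGroup.index_eq_two (α := Fin 12)]
      exact relIndex_dvd_index_of_normal _ _
    · have hne : ((alternatingGroup (Fin 12)).subgroupOf (centralizer ({tp} : Set P12))).index ≠ 1 := by
        rw [Ne, index_eq_one]
        intro h
        have hs : swap (0 : Fin 12) 1 ∈ centralizer ({tp} : Set P12) :=
          mem_centralizer_singleton_iff.2 tp_facts.2.2.2.2.symm
        have := (h ▸ mem_top (⟨_, hs⟩ : centralizer ({tp} : Set P12)) :
          (⟨_, hs⟩ : centralizer ({tp} : Set P12)) ∈ (alternatingGroup (Fin 12)).subgroupOf _)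
        rw [mem_subgroupOf, Perm.mem_alternatingGroup] at this
        rw [Perm.sign_swap (by decide)] at this
        exact absurd this (by decide)
      have := Subgroup.index_ne_zero_of_finite
        (H := (alternatingGroup (Fin 12)).subgroupOf (centralizer ({tp} : Set P12)))
      omega
  have h := relIndex_mul_relIndex (⊥ : Subgroup P12) C0 (centralizer ({tp} : Set P12)) bot_le inf_le_right
  rw [relIndex_bot_left, relIndex_bot_left, hidx, card_full] at h
  omega

/-- generators of the Sylow subgroup -/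
def gP : Fin 9 → P12 :=
  ![swap 0 1 * swap 2 3, swap 0 2 * swap 1 3, swap 4 5 * swap 6 7, swap 4 6 * swap 5 7,
    swap 8 9 * swap 10 11, swap 8 10 * swap 9 11, swap 0 1 * swap 4 5, swap 4 5 * swap 8 9,
    swap 0 4 * swap 1 5 * swap 2 6 * swap 3 7]

/-- their codes -/
def gN (i : Fin 9) : ℕ := gL.getD i.val 0

theorem enc_gP : ∀ i, enc (gP i) = gN i := by decide +kernel

theorem gP_sq : ∀ i, gP i * gP i = 1 := by decide +kernel

theorem gP_mem : ∀ i, gP i ∈ C0 := by
  have h : ∀ i, Perm.sign (gP i) = 1 ∧ gP i * tp = tp * gP i := by decide +kernel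
  exact fun i => mem_C0.2 (h i)

/-- codes of the Sylow subgroup -/
def SL : List ℕ := SLrows.flatten

/-- an entry of the table -/
def slAt (i : ℕ) : ℕ := (SLrows.getD (i / 16) []).getD (i % 16) 0

/-- position of a code in the table -/
def idxN (a : ℕ) : ℕ :=
  let x : ℕ → ℕ := fun i => if 4 ≤ dg a 0 then (if dg a i < 8 then (dg a i + 4) % 8 else dg a i) else dg a i
  let o : ℕ → ℕ := fun b => if Nat.beq (x (4 * b) ^^^ x (4 * b + 2)) 3 then 1 else 0
  let v : ℕ → ℕ := fun b =>
    if Nat.beq (o b) 1 && (x (4 * b) % 4).blt 2 then (x (4 * b) % 4) ^^^ 1 else x (4 * b) % 4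
  v 0 + 4 * v 1 + 16 * v 2 + 64 * o 0 + 128 * o 2 + 256 * (if 4 ≤ dg a 0 then 1 else 0)

theorem SL_closed : (SL.all fun a => (List.finRange 9).all fun i =>
    Nat.blt (idxN (mN a (gN i))) 512 && Nat.beq (slAt (idxN (mN a (gN i)))) (mN a (gN i))) = true := by
  decide +kernel

theorem SL_index : ((List.range 512).all fun k => Nat.beq (idxN (slAt k)) k) = true := by decide +kernel

theorem SL_zero : slAt 0 = idN := by decide +kernel

theorem SL_chain : ((List.finRange 9).all fun i => (List.range (2 ^ i.val)).all fun k =>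
    Nat.beq (slAt (2 ^ i.val + k)) (mN (gN i) (slAt k))) = true := by decide +kernel

theorem SL_eq : SL = (List.range 512).map slAt := by decide +kernel

theorem mem_SL {a : ℕ} : a ∈ SL ↔ ∃ k < 512, slAt k = a := by
  rw [SL_eq, List.mem_map]
  simp only [List.mem_range]

theorem SL_nodup : SL.Nodup := by
  rw [SL_eq]
  refine List.Nodup.map_on (fun x hx y hy h => ?_) List.nodup_range
  rw [← Nat.beq_eq.mp (List.all_eq_true.1 SL_index x hx), h, Nat.beq_eq.mp (List.all_eq_true.1 SL_index y hy)]

theorem SL_length : SL.length = 512 := by rw [SL_eq, List.length_map, List.length_range]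

attribute [local irreducible] slAt idxN SL mN gN enc tab

/-- the Sylow subgroup -/
def S0 : Subgroup P12 := closure (Set.range gP)

theorem S0_le : S0 ≤ C0 := (closure_le _).2 fun _ ⟨i, hi⟩ => hi ▸ gP_mem i

theorem SL_surj : ∀ n < 512, ∃ p ∈ S0, enc p = slAt n := by
  intro n
  induction n using Nat.strong_induction_on with
  | _ n ih =>
    intro hn
    rcases Nat.eq_zero_or_pos n with rfl | hpos
    · exact ⟨1, one_mem _, by rw [enc_one, SL_zero]⟩
    · have hl : Nat.log2 n < 9 := (Nat.log2_lt (by omega)).2 hn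
      have h1 : 2 ^ Nat.log2 n ≤ n := Nat.log2_self_le (by omega)
      have h2 : n < 2 ^ (Nat.log2 n + 1) := Nat.lt_log2_self
      rw [pow_succ] at h2
      obtain ⟨p, hp, hp'⟩ := ih (n - 2 ^ Nat.log2 n) (by have := Nat.two_pow_pos (Nat.log2 n); omega) (by omega)
      have hc := List.all_eq_true.1 (List.all_eq_true.1 SL_chain ⟨Nat.log2 n, hl⟩ (List.mem_finRange _))
        (n - 2 ^ Nat.log2 n) (List.mem_range.2 (show n - 2 ^ Nat.log2 n < 2 ^ Nat.log2 n by omega))
      refine ⟨gP ⟨Nat.log2 n, hl⟩ * p, mul_mem (subset_closure ⟨_, rfl⟩) hp, ?_⟩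
      rw [enc_mul, enc_gP, hp', ← Nat.beq_eq.mp hc]
      congr 1
      simp only
      omega

theorem enc_mem_SL {p : P12} (h : p ∈ S0) : enc p ∈ SL := by
  have step : ∀ x : P12, enc x ∈ SL → ∀ i, enc (x * gP i) ∈ SL := fun x hx i => by
    rw [enc_mul, enc_gP]
    have := List.all_eq_true.1 (List.all_eq_true.1 SL_closed _ hx) i (List.mem_finRange i)
    rw [Bool.and_eq_true] at this
    exact mem_SL.2 ⟨_, Nat.ble_eq.mp this.1, Nat.beq_eq.mp this.2⟩
  induction h using closure_induction_right with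
  | one => rw [enc_one]; exact mem_SL.2 ⟨0, by norm_num, SL_zero⟩
  | mul_right x hx y hy ih => obtain ⟨i, rfl⟩ := hy; exact step x ih i
  | mul_inv_cancel x hx y hy ih =>
    obtain ⟨i, rfl⟩ := hy
    rw [inv_eq_of_mul_eq_one_right (gP_sq i)]
    exact step x ih i

theorem exists_of_mem_SL {a : ℕ} (h : a ∈ SL) : ∃ p ∈ S0, enc p = a := by
  obtain ⟨k, hk, rfl⟩ := mem_SL.1 h
  exact SL_surj k hk

theorem card_S0 : Nat.card S0 = 512 := by
  have e : Function.Bijective fun p : S0 =>
      (⟨enc p.1, List.mem_toFinset.2 (enc_mem_SL p.2)⟩ : SL.toFinset) := by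
    refine ⟨fun a b h => Subtype.ext (enc_inj (congrArg Subtype.val h)), fun ⟨a, ha⟩ => ?_⟩
    obtain ⟨p, hp, rfl⟩ := exists_of_mem_SL (List.mem_toFinset.1 ha)
    exact ⟨⟨p, hp⟩, rfl⟩
  rw [Nat.card_congr (Equiv.ofBijective _ e), Nat.card_eq_fintype_card, Fintype.card_coe,
    List.toFinset_card_of_nodup SL_nodup, SL_length]

theorem tp_mem_S0 : tp ∈ S0 := by
  have : tp = gP 0 * gP 2 * gP 4 := by decide +kernel
  rw [this]
  exact mul_mem (mul_mem (subset_closure ⟨0, rfl⟩) (subset_closure ⟨2, rfl⟩)) (subset_closure ⟨4, rfl⟩)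

/-- elements centralising only the centre -/
def probe : List P12 :=
  [swap 0 1 * swap 2 3, swap 0 1 * swap 4 5, swap 2 3 * swap 4 5, swap 0 2 * swap 1 3,
    swap 4 8 * swap 5 9, swap 6 10 * swap 7 11, swap 2 4 * swap 3 5, swap 6 7 * swap 8 9,
    swap 6 8 * swap 7 9, swap 4 6 * swap 5 7]

/-- code of the centre -/
def tpN : ℕ := 0xab8967452301

/-- codes of the probes -/
def probeN : List ℕ :=
  [0xba9876542301, 0xba9876453201, 0xba9876452310, 0xba9876541032, 0xba5476983210, 0x7698ba543210, 0xba9876325410, 0xba8967543210, 0xba7698543210, 0xba9854763210]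

theorem probe_enc : probe.map enc = probeN ∧ enc tp = tpN ∧ idN = 0xba9876543210 := by decide +kernel

theorem probe_check : (SL.all fun a => Nat.beq a 0xba9876543210 || Nat.beq a tpN ||
    !(probeN.all fun b => cm a b)) = true := by decide +kernel

theorem probe_mem : ∀ q ∈ probe, q ∈ C0 := by
  intro q hq
  have hc : cm (enc q) (enc tp) = true := by
    have h : (probeN.all fun b => cm b tpN) = true := by decide +kernel
    rw [probe_enc.2.1]
    exact List.all_eq_true.1 h _ (probe_enc.1 ▸ List.mem_map.2 ⟨q, hq, rfl⟩)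
  refine mem_C0.2 ⟨?_, cm_iff.1 hc⟩
  simp only [probe, List.mem_cons, List.not_mem_nil, or_false] at hq
  rcases hq with rfl | rfl | rfl | rfl | rfl | rfl | rfl | rfl | rfl | rfl <;>
    rw [map_mul, Perm.sign_swap (by decide), Perm.sign_swap (by decide)] <;> decide

theorem central_S0 {p : P12} (hp : p ∈ S0) (hc : ∀ q ∈ C0, p * q = q * p) : p = 1 ∨ p = tp := by
  have h := List.all_eq_true.1 probe_check _ (enc_mem_SL hp)
  simp only [Bool.or_eq_true] at h
  rcases h with (h | h) | h
  · exact Or.inl (enc_inj (by rw [Nat.beq_eq.mp h, enc_one, probe_enc.2.2]))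
  · exact Or.inr (enc_inj (by rw [Nat.beq_eq.mp h, probe_enc.2.1]))
  · rw [Bool.not_eq_true', ← Bool.not_eq_true] at h
    refine absurd (List.all_eq_true.2 fun b hb => ?_) h
    obtain ⟨q, hq, rfl⟩ := List.mem_map.1 (probe_enc.1 ▸ hb)
    exact cm_iff.2 (hc q (probe_mem q hq))

end Cfsg.Agent.Spor.Yamaki
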