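import Cfsg.Agent.Lib.Spor.Yamaki.Fusion

/-!
The orbit of the central involution on the translations: trivial, of length seven or of length twenty-seven.
-/

set_option autoImplicit false
set_option maxRecDepth 100000
set_option Elab.async false

universe u

namespace Cfsg.Agent.Spor.Yamaki

open Equiv Subgroup

/-- the number of ways to write a vector as a sum of two members -/
def Fn (o v : ℕ) : ℕ := (List.range 64).countP fun a => o.testBit a && o.testBit (v ^^^ a)

/-- the second moment at a member -/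
def Mn (o v : ℕ) : ℕ :=
  ((List.range 64).map fun w => if o.testBit w then Fn o (v ^^^ w) * Fn o (v ^^^ w) else 0).sum

/-- masks of the orbits -/
def orbMask : List ℕ :=
  [0x100010000110c, 0x120012110c22c0, 0x110c110c0000cc00, 0x20002022c00000, 0x22c022c0cc000000,
    0x4800840000000000, 0x8400480000000000]

/-- the mask of a union of orbits -/
def omask (m : ℕ) : ℕ :=
  (List.range 7).foldl (fun acc i => if m.testBit i then acc ||| orbMask.getD i 0 else acc) 0x200000

/-- witnesses -/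
def wit : List ℕ :=
  [0, 0, 6, 2, 10, 2, 6, 2, 0, 2, 6, 2, 10, 2, 6, 2, 26, 26, 6, 2, 10, 2, 6, 2, 26, 2, 6, 2, 10, 2, 6, 2,
    42, 2, 6, 2, 10, 2, 6, 2, 22, 2, 6, 2, 10, 2, 6, 2, 26, 2, 6, 6, 10, 2, 6, 2, 22, 2, 6, 2, 10, 2, 6, 2,
    43, 2, 6, 2, 10, 2, 6, 2, 22, 2, 6, 2, 10, 2, 6, 2, 26, 2, 6, 6, 10, 2, 6, 2, 22, 2, 6, 2, 10, 2, 6, 2,
    42, 2, 6, 2, 10, 2, 6, 2, 22, 2, 6, 2, 10, 2, 6, 2, 26, 0, 6, 2, 10, 2, 6, 2, 0, 2, 6, 2, 10, 2, 6, 2]

theorem filter_table : ((List.range 128).all fun m =>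
    let o := omask m
    let v := wit.getD m 0
    [0, 1, 8, 113, 120].contains m ||
      (o.testBit v && Nat.blt v 64 && !(Nat.beq (Fn o v) (Fn o 21) && Nat.beq (Mn o v) (Mn o 21)))) = true := by
  decide +kernel

/-- the twist on translations -/
def tw (v : Fin 64) : Fin 64 :=
  if (v.val.testBit 1 ^^ v.val.testBit 3 ^^ v.val.testBit 5) then vx v 21 else v

/-- the action of a translation on the pairs -/
def pperm (v : Fin 64) : Perm (Fin 6) :=
  (if v.val.testBit 1 then swap 0 1 else 1) * (if v.val.testBit 3 then swap 2 3 else 1) *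
    (if v.val.testBit 5 then swap 4 5 else 1)

theorem pperm_apply : ∀ (v : Fin 64) (i : Fin 6), pr (av v (fst6 i)) = pperm v i := by decide +kernel

theorem signTwist_a0 (v : Fin 64) : signTwist (a0 v) = a0 (tw v) := by
  have hp : pairPerm (a0 v) = pperm v := Equiv.ext fun i => by rw [pairPerm_apply]; exact pperm_apply v i
  have he : eps (a0 v) = if (v.val.testBit 1 ^^ v.val.testBit 3 ^^ v.val.testBit 5) then -1 else 1 := by
    rw [eps, MonoidHom.comp_apply, hp, pperm]
    cases v.val.testBit 1 <;> cases v.val.testBit 3 <;> cases v.val.testBit 5 <;> simp [Perm.sign_swap']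
  rw [signTwist_apply, tw, he]
  split_ifs with h1 h2 h3
  · exact absurd h2 (by decide)
  · rw [← a0_twentyone]; exact Subtype.ext (av_mul v 21)
  all_goals first
    | rfl
    | exact absurd rfl ‹¬(1 : ℤˣ) = 1›

/-- membership in a mask -/
def inMask (o : ℕ) (v : Fin 64) : Prop := o.testBit v.val = true

/-- the orbit of length seven -/
def seven : ℕ := 0x100010020110c

/-- the orbit of length twenty-seven -/
def twentySeven : ℕ := 0xeee0eee0eee00000

theorem masks : omask 0 = 0x200000 ∧ omask 1 = seven ∧ omask 120 = twentySeven ∧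
    (∀ v : Fin 64, (omask 8).testBit (tw v).val = seven.testBit v.val) ∧
    ∀ v : Fin 64, (omask 113).testBit (tw v).val = twentySeven.testBit v.val := by decide +kernel

namespace Ctx

variable {G : Type u} [Group G] [Finite G] (D : Ctx G)

theorem O_orbit {o : List ℕ} (ho : o ∈ orbs ++ orbsC) (j : ℕ) (hj : j < o.length) (h64 : ∀ k ∈ o, k < 64) :
    D.O ⟨o[j], h64 _ (List.getElem_mem hj)⟩ ↔
      D.O ⟨o[0]'(by omega), h64 _ (List.getElem_mem _)⟩ := by
  induction j using Nat.strong_induction_on with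
  | _ j ih =>
    rcases Nat.eq_zero_or_pos j with rfl | hpos
    · exact Iff.rfl
    have h := List.all_eq_true.1 (List.all_eq_true.1 conn_table o ho) j (List.mem_range.2 hj)
    simp only [Bool.or_eq_true, List.any_eq_true, List.mem_range, step] at h
    rcases h with h | ⟨i, hi, g, hg, he⟩
    · exact absurd (Nat.beq_eq.mp h) (by omega)
    obtain ⟨n, hn, rfl⟩ := List.getElem_of_mem hg
    have hn4 : n < 4 := by simpa [fN] using hn
    have hil : i < o.length := by omega
    rw [List.getD_eq_getElem _ _ hil, List.getD_eq_getElem _ _ hj] at he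
    have hc : (⟨fP ⟨n, hn4⟩, fP_mem _⟩ : C0) * a0 ⟨o[i], h64 _ (List.getElem_mem hil)⟩ =
        a0 ⟨o[j], h64 _ (List.getElem_mem hj)⟩ * ⟨fP ⟨n, hn4⟩, fP_mem _⟩ := Subtype.ext (enc_inj (by
      show enc (fP ⟨n, hn4⟩ * av _) = enc (av _ * fP ⟨n, hn4⟩)
      rw [enc_mul, enc_mul, enc_fP, enc_av, enc_av, List.getD_eq_getElem _ _ hn]
      exact Nat.beq_eq.mp he))
    refine (Iff.intro (fun h1 => ?_) (fun h1 => D.O_conj h1 _ hc)).trans (ih i hi hil)
    refine D.O_conj h1 (⟨fP ⟨n, hn4⟩, fP_mem _⟩ : C0)⁻¹ ?_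
    rw [inv_mul_eq_iff_eq_mul, ← mul_assoc, hc, mul_inv_cancel_right]

theorem orbs_small : ∀ o ∈ orbs ++ orbsC, ∀ k ∈ o, k < 64 := by
  have h : ((orbs ++ orbsC).all fun o => o.all fun k => Nat.blt k 64) = true := by decide +kernel
  exact fun o ho k hk => Nat.ble_eq.mp (List.all_eq_true.1 (List.all_eq_true.1 h o ho) k hk)

theorem O_heads {o : List ℕ} (ho : o ∈ orbs ++ orbsC) {k : ℕ} (hk : k ∈ o) :
    D.O ⟨k, orbs_small o ho k hk⟩ ↔ ∀ hh : 0 < o.length, D.O ⟨o[0], orbs_small o ho _ (List.getElem_mem hh)⟩ := by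
  obtain ⟨j, hj, rfl⟩ := List.getElem_of_mem hk
  have := D.O_orbit ho j hj (orbs_small o ho)
  exact ⟨fun h _ => this.1 h, fun h => this.2 (h (by omega))⟩

theorem orbs_cover : ∀ v : Fin 64, v.val = 0 ∨ v.val = 21 ∨ ∃ i < 9, v.val ∈ (orbs ++ orbsC).getD i [] := by
  decide +kernel

theorem not_O_zero : ¬ D.O 0 := by
  rintro ⟨g, hg⟩
  rw [show D.el 0 = 1 by rw [el, show a0 0 = 1 from Subtype.ext av_zero, map_one]] at hg
  exact D.alpha_ne (by
    have : g⁻¹ * (g * D.α * g⁻¹) * g = g⁻¹ * 1 * g := by rw [hg]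
    rwa [show g⁻¹ * (g * D.α * g⁻¹) * g = D.α by group, mul_one, inv_mul_cancel] at this)

/-- The orbit is a union of orbits inside the model. -/
theorem exists_mask : ∃ m < 128, ∀ v : Fin 64, D.O v ↔ inMask (omask m) v := by
  classical
  let b : ℕ → Bool := fun i => decide (∀ (hi : i < 7), ∀ hh : 0 < (orbs.getD i []).length,
    D.O ⟨(orbs.getD i [])[0], orbs_small _ (List.mem_append_left _ (by
      rw [List.getD_eq_getElem orbs _ (show i < orbs.length from hi)]; exact List.getElem_mem _)) _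
        (List.getElem_mem hh)⟩)
  obtain ⟨m, hm, hmb⟩ : ∃ m < 128, ∀ i < 7, Nat.testBit m i = b i := by
    have : ∀ x : Fin 7 → Bool, ∃ m < 128, ∀ i : Fin 7, Nat.testBit m i.val = x i := by decide +kernel
    obtain ⟨m, hm, h⟩ := this fun i => b i.val
    exact ⟨m, hm, fun i hi => h ⟨i, hi⟩⟩
  refine ⟨m, hm, fun v => ?_⟩
  rcases orbs_cover v with h | h | ⟨i, hi, hv⟩
  · have hv0 : v = 0 := Fin.ext h
    subst hv0
    refine iff_of_false D.not_O_zero ?_
    have ht : ∀ m < 128, (omask m).testBit 0 = false := by decide +kernel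
    simp [inMask, ht m hm]
  · have hv0 : v = 21 := Fin.ext h
    subst hv0
    refine iff_of_true D.O_self ?_
    have ht : ∀ m < 128, (omask m).testBit 21 = true := by decide +kernel
    exact ht m hm
  · by_cases hi7 : i < 7
    · have hho : (orbs ++ orbsC).getD i [] = orbs.getD i [] := by
        rw [List.getD_eq_getElem (orbs ++ orbsC) _ (show i < _ from hi),
          List.getD_eq_getElem orbs _ (show i < orbs.length from hi7), List.getElem_append_left]
      rw [hho] at hv
      have ht : ∀ m < 128, ∀ i < 7, ∀ k ∈ orbs.getD i [], (omask m).testBit k = m.testBit i := by decide +kernel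
      have hmem : orbs.getD i [] ∈ orbs ++ orbsC := List.mem_append_left _ (by
        rw [List.getD_eq_getElem orbs _ (show i < orbs.length from hi7)]; exact List.getElem_mem _)
      rw [inMask, ht m hm i hi7 v.val hv, hmb i hi7, decide_eq_true_iff, D.O_heads hmem hv]
      exact ⟨fun h _ => h, fun h => h hi7⟩
    · have ht : ∀ m < 128, ∀ i < 9, 7 ≤ i → ∀ k ∈ (orbs ++ orbsC).getD i [],
          (omask m).testBit k = false ∧ (5 ∈ (orbs ++ orbsC).getD i [] ∨ 16 ∈ (orbs ++ orbsC).getD i []) := by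
        decide +kernel
      obtain ⟨h1, h2⟩ := ht m hm i hi (by omega) v.val hv
      refine iff_of_false (fun hO => ?_) (by simp [inMask, h1])
      have hmem : (orbs ++ orbsC).getD i [] ∈ orbs ++ orbsC := by
        rw [List.getD_eq_getElem (orbs ++ orbsC) _ (show i < _ from hi)]; exact List.getElem_mem _
      have hhead := (D.O_heads hmem hv).1 hO
      rcases h2 with h2 | h2
      · exact D.not_O_central (v := 5) (Or.inl rfl) ((D.O_heads hmem h2).2 hhead)
      · exact D.not_O_central (v := 16) (Or.inr rfl) ((D.O_heads hmem h2).2 hhead)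

theorem perm_range (σ : Fin 64 → Fin 64) (hσ : Function.Bijective σ) :
    ((List.finRange 64).map fun a => (σ a).val).Perm (List.range 64) := by
  rw [← List.map_coe_finRange_eq_range]
  refine List.perm_of_nodup_nodup_toFinset_eq ((List.nodup_finRange 64).map (Fin.val_injective.comp hσ.1))
    ((List.nodup_finRange 64).map Fin.val_injective) ?_
  ext x
  simp only [List.mem_toFinset, List.mem_map, List.mem_finRange, true_and]
  constructor
  · rintro ⟨a, rfl⟩; exact ⟨_, rfl⟩
  · rintro ⟨a, rfl⟩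
    obtain ⟨b, rfl⟩ := hσ.2 a
    exact ⟨b, rfl⟩

theorem invariant_mask {o : ℕ} (σ : Fin 64 → Fin 64) (hσ : Function.Bijective σ)
    (hadd : ∀ v w, σ (vx v w) = vx (σ v) (σ w)) (ho : ∀ v, o.testBit (σ v).val = o.testBit v.val) (v : Fin 64) :
    Fn o (σ v).val = Fn o v.val ∧ Mn o (σ v).val = Mn o v.val := by
  have hx : ∀ a b : Fin 64, a.val ^^^ b.val = (vx a b).val := by
    intro a b
    show _ = (a.val ^^^ b.val) % 64
    exact (Nat.mod_eq_of_lt (Nat.xor_lt_two_pow (n := 6) a.isLt b.isLt)).symm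
  have hF : ∀ u : Fin 64, Fn o (σ u).val = Fn o u.val := by
    intro u
    rw [Fn, Fn, ← (perm_range σ hσ).countP_eq, List.countP_map, ← List.map_coe_finRange_eq_range, List.countP_map]
    refine List.countP_congr fun a _ => ?_
    simp only [Function.comp_apply]
    rw [hx, hx, ← hadd, ho, ho]
  refine ⟨hF v, ?_⟩
  rw [Mn, Mn, ← ((perm_range σ hσ).map _).sum_eq, ← List.map_coe_finRange_eq_range, List.map_map, List.map_map]
  congr 1
  refine List.map_congr_left fun a _ => ?_
  simp only [Function.comp_apply]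
  rw [ho, hx, hx, ← hadd, hF]

theorem mask_cases : ∃ m ∈ [0, 1, 8, 113, 120], ∀ v : Fin 64, D.O v ↔ inMask (omask m) v := by
  obtain ⟨m, hm, hO⟩ := D.exists_mask
  refine ⟨m, ?_, hO⟩
  have h := List.all_eq_true.1 filter_table m (List.mem_range.2 hm)
  simp only [Bool.or_eq_true, Bool.and_eq_true, Bool.not_eq_true'] at h
  rcases h with h | ⟨⟨h1, h2⟩, h3⟩
  · exact List.contains_iff_mem.1 h
  exfalso
  obtain ⟨v, hv⟩ : ∃ v : Fin 64, v.val = wit.getD m 0 := ⟨⟨_, Nat.ble_eq.mp h2⟩, rfl⟩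
  obtain ⟨g, hg⟩ := (hO v).2 (by rw [inMask, hv]; exact h1)
  obtain ⟨n, hn, he⟩ := D.fusion_A (d := D.α) (g := g) (D.el_alpha ▸ D.mem_A.2 ⟨21, rfl⟩)
    (hg ▸ D.mem_A.2 ⟨v, rfl⟩)
  rw [hg] at he
  have hmem : ∀ w, ∃ u, D.el u = n * D.el w * n⁻¹ := fun w =>
    D.mem_A.1 ((Subgroup.mem_normalizer_iff.1 hn _).1 (D.mem_A.2 ⟨w, rfl⟩))
  choose σ hσ using hmem
  have hinj : Function.Injective σ := fun a b hab => D.el_inj (by
    have := hσ a; rw [hab, hσ b] at this
    exact (mul_left_cancel (mul_right_cancel this)).symm)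
  have hadd : ∀ a b, σ (vx a b) = vx (σ a) (σ b) := fun a b => D.el_inj (by
    rw [← D.el_mul, hσ, hσ, hσ, ← D.el_mul]; group)
  have ho : ∀ a : Fin 64, (omask m).testBit (σ a).val = (omask m).testBit a.val := by
    intro a
    have h2 : D.O (σ a) ↔ D.O a := by
      constructor
      · rintro ⟨x, hx⟩
        refine ⟨n⁻¹ * x, ?_⟩
        rw [show n⁻¹ * x * D.α * (n⁻¹ * x)⁻¹ = n⁻¹ * (x * D.α * x⁻¹) * n by group, hx, hσ]
        group
      · rintro ⟨x, hx⟩
        refine ⟨n * x, ?_⟩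
        rw [show n * x * D.α * (n * x)⁻¹ = n * (x * D.α * x⁻¹) * n⁻¹ by group, hx, hσ]
    rw [hO, hO, inMask, inMask] at h2
    exact Bool.eq_iff_iff.2 h2
  have h21 : σ 21 = v := D.el_inj (by rw [hσ, D.el_alpha, he])
  obtain ⟨hF, hM⟩ := invariant_mask σ (Finite.injective_iff_bijective.1 hinj) hadd ho 21
  rw [h21, hv] at hF hM
  rw [show ((21 : Fin 64) : ℕ) = 21 from rfl] at hF hM
  rw [hF, hM, Nat.beq_refl, Nat.beq_refl, Bool.and_self] at h3
  exact Bool.noConfusion h3

theorem O_twist (v : Fin 64) : (D.twist signTwist signTwist_tp).O v ↔ D.O (tw v) := by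
  show (∃ g : G, g * (D.twist signTwist signTwist_tp).α * g⁻¹ = D.φ (signTwist (a0 v))) ↔ _
  rw [D.twist_α, signTwist_a0]
  rfl

/-- The three fusion patterns. -/
theorem trichotomy : (∀ v : Fin 64, D.O v → v = 21) ∨
    ∃ D' : Ctx G, D'.α = D.α ∧ ((∀ v : Fin 64, D'.O v ↔ inMask seven v) ∨
      ∀ v : Fin 64, D'.O v ↔ inMask twentySeven v) := by
  obtain ⟨m, hm, hO⟩ := D.mask_cases
  obtain ⟨h0, h1, h120, h8, h113⟩ := masks
  simp only [List.mem_cons, List.not_mem_nil, or_false] at hm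
  rcases hm with rfl | rfl | rfl | rfl | rfl
  · left
    intro v hv
    have hb := (hO v).1 hv
    rw [inMask, h0] at hb
    have ht : ∀ v : Fin 64, Nat.testBit 0x200000 v.val = true → v = 21 := by decide +kernel
    exact ht v hb
  · exact Or.inr ⟨D, rfl, Or.inl fun v => by rw [hO, h1]⟩
  · refine Or.inr ⟨_, D.twist_α signTwist signTwist_tp, Or.inl fun v => ?_⟩
    rw [D.O_twist, hO, inMask, inMask, h8]
  · refine Or.inr ⟨_, D.twist_α signTwist signTwist_tp, Or.inr fun v => ?_⟩
    rw [D.O_twist, hO, inMask, inMask, h113]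
  · exact Or.inr ⟨D, rfl, Or.inr fun v => by rw [hO, h120]⟩

end Ctx

end Cfsg.Agent.Spor.Yamaki
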