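import Mathlib

/-!
Two three-cycles with a common directed edge inside a permutation group of degree at most nine.
-/

set_option autoImplicit false
set_option linter.unusedVariables false

namespace Cfsg.Agent.Spor.Yamaki

open Equiv Finset

variable {α : Type*} [Fintype α] [DecidableEq α]

theorem supp_conj_mem {g u v : Perm α} (h : g * u * g⁻¹ = v) {x : α} : g x ∈ v.support ↔ x ∈ u.support := by
  simp [← h, Perm.mem_support]

theorem supp_comm_mem {u v : Perm α} (h : u * v = v * u) {x : α} : u x ∈ v.support ↔ x ∈ v.support :=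
  supp_conj_mem (mul_inv_eq_iff_eq_mul.2 h)

theorem disjoint_of_moved {u v : Perm α} (hu : u.support.card = 4) (hv : v.support.card = 4)
    (huv : (u * v).support.card = 8) : Disjoint u.support v.support := by
  rw [disjoint_iff_inter_eq_empty, ← card_eq_zero]
  have h1 := card_le_card (Perm.support_mul_le u v)
  have h2 := card_union_add_card_inter u.support v.support
  change _ ≤ (u.support ∪ v.support).card at h1
  omega

theorem same_supp (hk : Fintype.card α ≤ 9) {u v f : Perm α} (huv : u * v = v * u) (_hu : u * u = 1)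
    (hc : u.support.card = 4) (hd : v.support.card = 4) (hf : f.support.card = 4)
    (h1 : Disjoint u.support f.support) (h2 : Disjoint v.support f.support) : u.support = v.support := by
  by_contra hne
  have hd' : Disjoint (u.support ∪ v.support) f.support := disjoint_union_left.2 ⟨h1, h2⟩
  have h3 := card_union_of_disjoint hd'
  have h4 := card_le_univ ((u.support ∪ v.support) ∪ f.support)
  have h5 := card_union_add_card_inter u.support v.support
  have h6 : (u.support \ v.support).card = 1 := by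
    have h7 := card_sdiff_add_card_inter u.support v.support
    rcases Nat.lt_or_ge (u.support \ v.support).card 1 with h | h
    · exact absurd (eq_of_subset_of_card_le (sdiff_eq_empty_iff_subset.1 (card_eq_zero.1 (by omega)))
        (by omega)) hne
    · omega
  obtain ⟨x, hx⟩ := card_eq_one.1 h6
  have hxm : x ∈ u.support \ v.support := hx ▸ mem_singleton_self x
  rw [mem_sdiff] at hxm
  have hux : u x ∈ u.support \ v.support := mem_sdiff.2 ⟨Perm.apply_mem_support.2 hxm.1,
    fun h => hxm.2 ((supp_comm_mem huv).1 h)⟩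
  rw [hx, mem_singleton] at hux
  exact (Perm.mem_support.1 hxm.1) hux

theorem fix_of_four {F1 F2 Y : Perm α} (h12 : F1 * F2 = F2 * F1) (s1 : F1 * F1 = 1) (s2 : F2 * F2 = 1)
    (hc : F1.support.card = 4) (hs : F2.support = F1.support) (hs3 : (F1 * F2).support = F1.support)
    (c1 : Y * F1 = F1 * Y) (c2 : Y * F2 = F2 * Y) (hY : Y * Y * Y = 1) {x : α} (hx : x ∈ F1.support) :
    Y x = x := by
  have hm : ∀ {g : Perm α}, g.support = F1.support → g x ≠ x := fun hg => Perm.mem_support.1 (hg ▸ hx)
  have h21 : F1 (F2 x) = F2 (F1 x) := by rw [← Perm.mul_apply, h12, Perm.mul_apply]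
  have ne1 : F1 x ≠ x := hm rfl
  have ne2 : F2 x ≠ x := hm hs
  have ne3 : F1 (F2 x) ≠ x := hm hs3
  have ne4 : F1 x ≠ F2 x := fun e => ne3 (by rw [← e, ← Perm.mul_apply, s1, Perm.one_apply])
  have ne5 : F1 x ≠ F1 (F2 x) := fun e => ne2 (F1.injective e).symm
  have ne6 : F2 x ≠ F1 (F2 x) := fun e => ne1 (by rw [h21] at e; exact (F2.injective e).symm)
  have hall : ({x, F1 x, F2 x, F1 (F2 x)} : Finset α) = F1.support := by
    refine eq_of_subset_of_card_le ?_ ?_
    · intro z hz
      simp only [mem_insert, mem_singleton] at hz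
      rcases hz with rfl | rfl | rfl | rfl
      exacts [hx, Perm.apply_mem_support.2 hx, hs ▸ Perm.apply_mem_support.2 (hs ▸ hx),
        Perm.apply_mem_support.2 (hs ▸ Perm.apply_mem_support.2 (hs ▸ hx))]
    · rw [hc, card_insert_of_notMem (by simp [Ne.symm ne1, Ne.symm ne2, Ne.symm ne3]),
        card_insert_of_notMem (by simp [ne4, ne5]), card_insert_of_notMem (by simp [ne6]), card_singleton]
  have hy : Y x ∈ F1.support := (supp_comm_mem c1).2 hx
  rw [← hall] at hy
  simp only [mem_insert, mem_singleton] at hy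
  have key : ∀ g : Perm α, g * g = 1 → Y * g = g * Y → Y x = g x → g x = x := by
    intro g hg hYg h
    have e1 : ∀ z, g (g z) = z := fun z => by rw [← Perm.mul_apply, hg, Perm.one_apply]
    have e2 : ∀ z, Y (g z) = g (Y z) := fun z => by rw [← Perm.mul_apply, hYg, Perm.mul_apply]
    have e3 := congrArg (fun p : Perm α => p x) hY
    simp only [Perm.mul_apply, Perm.one_apply] at e3
    rwa [h, e2, h, e1, h] at e3
  rcases hy with h | h | h | h
  · exact h
  · exact absurd (key F1 s1 c1 h) ne1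
  · exact absurd (key F2 s2 c2 h) ne2
  · refine absurd (key (F1 * F2) ?_ ?_ h) ne3
    · rw [mul_assoc, ← mul_assoc F2, ← h12, mul_assoc, s2, mul_one, s1]
    · rw [← mul_assoc, c1, mul_assoc, c2, ← mul_assoc]

/-- the configuration of the common edge -/
structure Edge (E1 F1 e c Y : Perm α) (p q r f : α) : Prop where
  ne : p ≠ q ∧ q ≠ r ∧ p ≠ r ∧ p ≠ f ∧ q ≠ f ∧ r ≠ f
  supp : E1.support = {p, q, r, f}
  Yp : Y p = q
  Yq : Y q = r
  Yr : Y r = p
  Yfix : ∀ t, t ≠ p → t ≠ q → t ≠ r → Y t = t
  E1p : E1 p = q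
  ep : e p = q
  cp : c p = p
  cq : c q = q
  cr : c r ≠ p ∧ c r ≠ q ∧ c r ≠ r
  dis : Disjoint E1.support F1.support
  c_le : c.support ⊆ E1.support ∪ F1.support
  e_le : e.support ⊆ E1.support ∪ F1.support

omit [Fintype α] in
/-- A three-cycle and its conjugate by an involution fixing an edge. -/
theorem tri_rel {Y c : Perm α} {p q r : α} (hc : c * c = 1) (hYp : Y p = q) (hYq : Y q = r) (hYr : Y r = p)
    (hY : ∀ t, t ≠ p → t ≠ q → t ≠ r → Y t = t) (hcp : c p = p) (hcq : c q = q)
    (hcr : c r ≠ p ∧ c r ≠ q ∧ c r ≠ r) : (Y * (c * Y * c)) * (Y * (c * Y * c)) = 1 := by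
  have cinv : ∀ x, c (c x) = x := fun x => by rw [← Perm.mul_apply, hc, Perm.one_apply]
  have Y_s : Y (c r) = c r := hY _ hcr.1 hcr.2.1 hcr.2.2
  have W_p : c (Y (c p)) = q := by rw [hcp, hYp, hcq]
  have W_q : c (Y (c q)) = c r := by rw [hcq, hYq]
  have W_s : c (Y (c (c r))) = p := by rw [cinv, hYr, hcp]
  have W_r : c (Y (c r)) = r := by rw [Y_s, cinv]
  refine Perm.ext fun z => ?_
  simp only [Perm.mul_apply, Perm.one_apply]
  by_cases z1 : z = p
  · rw [z1, W_p, hYq, W_r, hYr]
  by_cases z2 : z = q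
  · rw [z2, W_q, Y_s, W_s, hYp]
  by_cases z3 : z = r
  · rw [z3, W_r, hYr, W_p, hYq]
  by_cases z4 : z = c r
  · rw [z4, W_s, hYp, W_q, Y_s]
  have hz : c (Y (c z)) = z := by
    rw [hY (c z) (fun h => z1 (by rw [← cinv z, h, hcp])) (fun h => z2 (by rw [← cinv z, h, hcq]))
      (fun h => z4 (by rw [← cinv z, h])), cinv]
  rw [hz, hY z z1 z2 z3, hz, hY z z1 z2 z3]

/-- The points of the common edge. -/
theorem edge_shape (hk : Fintype.card α ≤ 9) {E1 E2 F1 F2 e c Y : Perm α}
    (sE1 : E1 * E1 = 1) (sE2 : E2 * E2 = 1) (sF1 : F1 * F1 = 1) (sF2 : F2 * F2 = 1) (se : e * e = 1) (sc : c * c = 1)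
    (cE : E1 * E2 = E2 * E1) (cF : F1 * F2 = F2 * F1)
    (mE1 : E1.support.card = 4) (mE2 : E2.support.card = 4) (mE3 : (E1 * E2).support.card = 4)
    (mF1 : F1.support.card = 4) (mF2 : F2.support.card = 4) (mF3 : (F1 * F2).support.card = 4)
    (me : e.support.card = 4) (mc : c.support.card = 4)
    (m11 : (E1 * F1).support.card = 8) (m21 : (E2 * F1).support.card = 8) (m31 : (E1 * E2 * F1).support.card = 8)
    (m12 : (E1 * F2).support.card = 8) (m13 : (E1 * (F1 * F2)).support.card = 8)
    (y1 : Y * E1 * Y⁻¹ = E1 * E2) (y2 : Y * E2 * Y⁻¹ = E1)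
    (yF1 : Y * F1 = F1 * Y) (yF2 : Y * F2 = F2 * Y) (hY : Y * Y * Y = 1)
    (eY : e * Y * e = Y⁻¹) (eE1 : e * E1 = E1 * e) (eF1 : e * F1 = F1 * e) (eE2 : e * E2 * e = E1 * E2)
    (eF2 : e * F2 * e = F1 * F2) (cE1 : c * E1 * c = e) :
    ∃ p q r f, Edge E1 F1 e c Y p q r f := by
  have d11 := disjoint_of_moved mE1 mF1 m11
  have sA2 : E1.support = E2.support :=
    same_supp hk cE sE1 mE1 mE2 mF1 d11 (disjoint_of_moved mE2 mF1 m21)
  have sA3 : E1.support = (E1 * E2).support :=
    same_supp hk (by rw [← mul_assoc E1 E1, sE1, one_mul, mul_assoc, ← cE, ← mul_assoc, sE1, one_mul]) sE1 mE1 mE3 mF1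
      d11 (disjoint_of_moved mE3 mF1 m31)
  have sB2 : F1.support = F2.support :=
    same_supp hk cF sF1 mF1 mF2 mE1 d11.symm (disjoint_of_moved mE1 mF2 m12).symm
  have sB3 : F1.support = (F1 * F2).support :=
    same_supp hk (by rw [← mul_assoc F1 F1, sF1, one_mul, mul_assoc, ← cF, ← mul_assoc, sF1, one_mul]) sF1 mF1 mF3 mE1
      d11.symm (disjoint_of_moved mE1 mF3 m13).symm
  set A := E1.support
  set B := F1.support
  have hYA : ∀ {x}, Y x ∈ A ↔ x ∈ A := fun {x} => by
    have := supp_conj_mem y2 (x := x)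
    rwa [← sA2] at this
  have hYB : ∀ x ∈ B, Y x = x := fun x hx =>
    fix_of_four cF sF1 sF2 mF1 sB2.symm sB3.symm yF1 yF2 hY hx
  have hYout : ∀ x, x ∉ A → Y x = x := by
    intro x hx
    by_cases hxB : x ∈ B
    · exact hYB x hxB
    have hc1 : ((A ∪ B)ᶜ).card ≤ 1 := by
      rw [card_compl, card_union_of_disjoint d11, mE1, mF1]; omega
    refine card_le_one.1 hc1 _ ?_ _ ?_ <;> rw [mem_compl, mem_union, not_or]
    · exact ⟨fun h => hx (hYA.1 h), fun h => hxB ((supp_comm_mem yF1).1 h)⟩
    · exact ⟨hx, hxB⟩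
  have inv_of : ∀ {u : Perm α}, u * u = 1 → ∀ x, u (u x) = x := fun hu x => by
    rw [← Perm.mul_apply, hu, Perm.one_apply]
  have einv : ∀ x, e (e x) = x := inv_of se
  have cinv : ∀ x, c (c x) = x := inv_of sc
  -- the exchange moves two points on either side
  have nontriv : ∀ {u v w : Perm α}, e * v * e = w → v ≠ w → v.support = u.support →
      (∀ {x}, e x ∈ u.support ↔ x ∈ u.support) → ∃ a ∈ u.support, e a ≠ a := by
    intro u v w h hne hs hinv
    by_contra hn
    simp only [not_exists, not_and, not_not] at hn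
    refine hne (Perm.ext fun x => ?_)
    rw [← h, Perm.mul_apply, Perm.mul_apply]
    by_cases hx : x ∈ u.support
    · rw [hn x hx, hn (v x) (hs ▸ Perm.apply_mem_support.2 (hs ▸ hx))]
    · have h1 : e x ∉ v.support := hs ▸ fun h => hx (hinv.1 h)
      have h2 : x ∉ v.support := hs ▸ hx
      rw [Perm.notMem_support.1 h1, Perm.notMem_support.1 h2, einv]
  have ne12 : E2 ≠ E1 * E2 := fun h => by
    rw [right_eq_mul] at h
    exact absurd (show A.card = 0 by simp [A, h]) (by omega)
  have neF : F2 ≠ F1 * F2 := fun h => by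
    rw [right_eq_mul] at h
    exact absurd (show B.card = 0 by simp [B, h]) (by omega)
  obtain ⟨a, haA, hea⟩ := nontriv eE2 ne12 sA2.symm (supp_comm_mem eE1)
  obtain ⟨a', haB, hea'⟩ := nontriv eF2 neF sB2.symm (supp_comm_mem eF1)
  have heA : e a ∈ A := (supp_comm_mem eE1).2 haA
  have heB : e a' ∈ B := (supp_comm_mem eF1).2 haB
  have nAB : ∀ {x}, x ∈ A → x ∉ B := fun hx => disjoint_left.1 d11 hx
  have hsupp : e.support = {a, e a, a', e a'} := by
    refine (eq_of_subset_of_card_le ?_ ?_).symm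
    · intro z hz
      simp only [mem_insert, mem_singleton] at hz
      rcases hz with rfl | rfl | rfl | rfl
      exacts [Perm.mem_support.2 hea, Perm.apply_mem_support.2 (Perm.mem_support.2 hea), Perm.mem_support.2 hea',
        Perm.apply_mem_support.2 (Perm.mem_support.2 hea')]
    · rw [me, card_insert_of_notMem ?_, card_insert_of_notMem ?_, card_insert_of_notMem ?_, card_singleton]
      · simpa using Ne.symm hea'
      · simp only [mem_insert, mem_singleton, not_or]
        exact ⟨fun h => nAB heA (h ▸ haB), fun h => nAB heA (h ▸ heB)⟩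
      · simp only [mem_insert, mem_singleton, not_or]
        exact ⟨Ne.symm hea, fun h => nAB haA (h ▸ haB), fun h => nAB haA (h ▸ heB)⟩
  have hE1a : E1 a = e a := by
    have h1 : E1 a ∈ e.support := (supp_comm_mem eE1.symm).2 (Perm.mem_support.2 hea)
    have h2 : E1 a ∈ A := Perm.apply_mem_support.2 haA
    rw [hsupp] at h1
    simp only [mem_insert, mem_singleton] at h1
    rcases h1 with h | h | h | h
    · exact absurd h (Perm.mem_support.1 haA)
    · exact h
    · exact absurd (h ▸ haB) (nAB h2)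
    · exact absurd (h ▸ heB) (nAB h2)
  have cci : c⁻¹ = c := inv_eq_of_mul_eq_one_right sc
  have cAe : ∀ {x}, c x ∈ e.support ↔ x ∈ A := fun {x} =>
    supp_conj_mem (show c * E1 * c⁻¹ = e by rw [cci, cE1])
  have ceA : ∀ {x}, c x ∈ A ↔ x ∈ e.support := fun {x} => by rw [← cAe, cinv]
  have hAe : ∀ x ∈ A, x ∈ e.support → x = a ∨ x = e a := by
    intro x hx hxe
    rw [hsupp] at hxe
    simp only [mem_insert, mem_singleton] at hxe
    rcases hxe with h | h | h | h
    exacts [Or.inl h, Or.inr h, absurd (h ▸ haB) (nAB hx), absurd (h ▸ heB) (nAB hx)]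
  -- the swap fixes the two common points
  obtain ⟨hcfix, hcsupp⟩ : (c a = a ∧ c (e a) = e a) ∧ ∀ x, x ∉ A → x ∉ e.support → c x = x := by
    have hsub : (A ∪ e.support) \ {a, e a} ⊆ c.support := by
      intro x hx
      simp only [mem_sdiff, mem_union, mem_insert, mem_singleton, not_or] at hx
      rw [Perm.mem_support]
      intro hfix
      rcases hx.1 with h | h
      · have h1 := cAe.2 h
        rw [hfix] at h1
        exact (hAe x h h1).elim hx.2.1 hx.2.2
      · have h1 := ceA.2 h
        rw [hfix] at h1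
        exact (hAe x h1 h).elim hx.2.1 hx.2.2
    have hcard : ((A ∪ e.support) \ {a, e a}).card = 4 := by
      have hAE : A ∩ e.support = {a, e a} := by
        ext x
        simp only [mem_inter, mem_insert, mem_singleton]
        refine ⟨fun h => hAe x h.1 h.2, ?_⟩
        rintro (rfl | rfl)
        exacts [⟨haA, Perm.mem_support.2 hea⟩, ⟨heA, Perm.apply_mem_support.2 (Perm.mem_support.2 hea)⟩]
      have h1 := card_union_add_card_inter A e.support
      rw [mE1, me] at h1
      rw [← hAE]
      have h2 := card_sdiff_add_card_eq_card (show A ∩ e.support ⊆ A ∪ e.support from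
        fun x hx => mem_union_left _ (mem_inter.1 hx).1)
      have h3 : (A ∩ e.support).card = 2 := by rw [hAE, card_pair (Ne.symm hea)]
      omega
    have heq := eq_of_subset_of_card_le hsub (by rw [hcard, mc])
    refine ⟨⟨?_, ?_⟩, fun x h1 h2 => ?_⟩ <;> rw [← Perm.notMem_support, ← heq]
    · simp
    · simp
    · exact fun h => (mem_union.1 (mem_sdiff.1 h).1).elim h1 h2
  have hesupp : e.support ⊆ A ∪ B := by
    intro x hx
    rw [hsupp] at hx
    simp only [mem_insert, mem_singleton] at hx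
    rcases hx with rfl | rfl | rfl | rfl
    exacts [mem_union_left _ haA, mem_union_left _ heA, mem_union_right _ haB, mem_union_right _ heB]
  -- the fixed point of the lift
  have hYne : Y ≠ 1 := fun h => by
    rw [h, one_mul, inv_one, mul_one, left_eq_mul] at y1
    simp [y1] at mE2
  have tri : ∀ x, Y x ≠ x → Y x ∈ A ∧ Y (Y (Y x)) = x ∧ Y (Y x) ≠ x ∧ Y (Y x) ≠ Y x := by
    intro x hx
    have h3 := congrArg (fun p : Perm α => p x) hY
    simp only [Perm.mul_apply, Perm.one_apply] at h3
    refine ⟨?_, h3, fun h => hx ?_, fun h => hx (Y.injective h)⟩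
    · by_contra h
      exact hx (Y.injective (hYout _ h))
    · rw [h] at h3; exact h3
  obtain ⟨x, hx⟩ : ∃ x, Y x ≠ x := by
    by_contra hn
    simp only [not_exists, not_not] at hn
    exact hYne (Perm.ext hn)
  obtain ⟨hx1, hx3, hx2, hx21⟩ := tri x hx
  have hxA : x ∈ A := hYA.1 hx1
  obtain ⟨f, hfA, hf⟩ : ∃ f ∈ A, Y f = f := by
    have hcard : (({x, Y x, Y (Y x)} : Finset α)).card = 3 := by
      rw [card_insert_of_notMem (by simp [Ne.symm hx, Ne.symm hx2]), card_insert_of_notMem (by simp [Ne.symm hx21]),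
        card_singleton]
    have hsub : ({x, Y x, Y (Y x)} : Finset α) ⊆ A := by
      intro z hz
      simp only [mem_insert, mem_singleton] at hz
      rcases hz with rfl | rfl | rfl
      exacts [hxA, hx1, hYA.2 hx1]
    have h1 := card_sdiff_add_card_eq_card hsub
    rw [hcard, mE1] at h1
    obtain ⟨f, hf⟩ := card_eq_one.1 (show (A \ {x, Y x, Y (Y x)}).card = 1 by omega)
    have hfm : f ∈ A \ {x, Y x, Y (Y x)} := hf ▸ mem_singleton_self f
    refine ⟨f, (mem_sdiff.1 hfm).1, ?_⟩
    have hYf : Y f ∈ A \ {x, Y x, Y (Y x)} := by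
      refine mem_sdiff.2 ⟨hYA.2 (mem_sdiff.1 hfm).1, fun h => (mem_sdiff.1 hfm).2 ?_⟩
      simp only [mem_insert, mem_singleton] at h ⊢
      rcases h with h | h | h
      · exact Or.inr (Or.inr (Y.injective (h.trans hx3.symm)))
      · exact Or.inl (Y.injective h)
      · exact Or.inr (Or.inl (Y.injective h))
    rwa [hf, mem_singleton] at hYf
  have hfixA : ∀ z ∈ A, Y z = z → z = f := by
    intro z hz hzf
    by_contra hne
    have h1 : ({x, Y x, Y (Y x), z, f} : Finset α) ⊆ A := by
      intro t ht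
      simp only [mem_insert, mem_singleton] at ht
      rcases ht with rfl | rfl | rfl | rfl | rfl
      exacts [hxA, hx1, hYA.2 hx1, hz, hfA]
    have h2 := card_le_card h1
    have n1 : ∀ t, Y t = t → x ≠ t ∧ Y x ≠ t ∧ Y (Y x) ≠ t := fun t ht =>
      ⟨fun h => hx (h ▸ ht), fun h => hx (Y.injective (h ▸ ht)),
        fun h => hx21 (by rw [← h] at ht; exact Y.injective ht)⟩
    obtain ⟨z1, z2, z3⟩ := n1 z hzf
    obtain ⟨f1, f2, f3⟩ := n1 f hf
    rw [mE1, card_insert_of_notMem (by simp [Ne.symm hx, Ne.symm hx2, z1, f1]),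
      card_insert_of_notMem (by simp [Ne.symm hx21, z2, f2]), card_insert_of_notMem (by simp [z3, f3]),
      card_pair hne] at h2
    omega
  have hef : e f = f := by
    refine hfixA _ ((supp_comm_mem eE1).2 hfA) (Y.injective ?_)
    have h1 := congrArg (fun p : Perm α => Y (Y (p f))) eY
    simp only [Perm.mul_apply] at h1
    rw [show Y (Y⁻¹ f) = f from Y.apply_symm_apply f, hf] at h1
    have h2 := congrArg (fun p : Perm α => p (e f)) hY
    simp only [Perm.mul_apply, Perm.one_apply] at h2
    have h3 : e (Y (e f)) = f := by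
      have := congrArg (fun p : Perm α => p f) eY
      simp only [Perm.mul_apply] at this
      rw [this, Perm.inv_eq_iff_eq, hf]
    have h4 := congrArg e h3
    rw [einv] at h4
    rw [h4, h4]
  have hYa : Y a ≠ a := fun h => hea (by rw [hfixA a haA h, hef])
  have hYb : Y (e a) ≠ e a := fun h => hea (by
    have := congrArg e (hfixA _ heA h); rw [einv, hef] at this; rw [this, hef])
  -- orientation
  obtain ⟨p, q, hp, hq, hpq, hpA, hfp, hfq⟩ : ∃ p q, (p = a ∨ p = e a) ∧ (q = a ∨ q = e a) ∧ Y p = q ∧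
      p ∈ A ∧ c p = p ∧ c q = q := by
    obtain ⟨t1, t3, t2, t21⟩ := tri a hYa
    by_cases h : Y a = e a
    · exact ⟨a, e a, Or.inl rfl, Or.inr rfl, h, haA, hcfix⟩
    · refine ⟨e a, a, Or.inr rfl, Or.inl rfl, ?_, heA, hcfix.2, hcfix.1⟩
      have hin : e a ∈ A \ {f} := mem_sdiff.2 ⟨heA, by simpa using fun (h' : e a = f) => hYb (by rw [h', hf])⟩
      have hfa : ∀ t, Y t ≠ t → t ≠ f := fun t ht h' => ht (h' ▸ hf)
      have hset : ({a, Y a, Y (Y a)} : Finset α) = A \ {f} := by
        refine eq_of_subset_of_card_le ?_ ?_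
        · intro z hz
          simp only [mem_insert, mem_singleton] at hz
          rcases hz with rfl | rfl | rfl
          · exact mem_sdiff.2 ⟨haA, by simpa using hfa _ hYa⟩
          · exact mem_sdiff.2 ⟨t1, by simpa using hfa _ fun h' => hYa (Y.injective h')⟩
          · exact mem_sdiff.2 ⟨hYA.2 t1, by simpa using hfa _ fun h' => t21 (Y.injective h')⟩
        · rw [card_sdiff_of_subset (by simpa using hfA), mE1, card_singleton,
            card_insert_of_notMem (by simp [Ne.symm hYa, Ne.symm t2]), card_insert_of_notMem (by simp [Ne.symm t21]),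
            card_singleton]
      rw [← hset] at hin
      simp only [mem_insert, mem_singleton] at hin
      rcases hin with h' | h' | h'
      · exact absurd h' hea
      · exact absurd h'.symm h
      · rw [h', t3]
  have hqA : q ∈ A := hpq ▸ hYA.2 hpA
  have hne : q ≠ p := fun h => by
    rcases hp with rfl | rfl
    exacts [hYa (hpq.trans h), hYb (hpq.trans h)]
  have hYp : Y p ≠ p := by rw [hpq]; exact hne
  obtain ⟨-, hp3, hp2, hp21⟩ := tri p hYp
  rw [hpq] at hp3 hp2 hp21
  set r := Y q with hr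
  have hrA : r ∈ A := hYA.2 hqA
  have hre : r ∉ e.support := fun h => by
    rcases hAe r hrA h with h' | h' <;> rcases hp with hp' | hp' <;> rcases hq with hq' | hq'
    all_goals first
      | exact hne (hq'.trans hp'.symm)
      | exact hp2 (h'.trans hp'.symm)
      | exact hp21 (h'.trans hq'.symm)
  have hsA : c r ∉ A := fun h => hre (ceA.1 h)
  have out : ∀ t, t ∉ A → Y t = t := hYout
  have nrf : r ≠ f := fun h => hYp (by
    have : p = f := by rw [← hp3, h, hf]
    rw [this, hf])
  have npf : p ≠ f := fun h => hYp (h ▸ hf)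
  have nqf : q ≠ f := fun h => hp21 (by rw [hr, h, hf])
  have hA : A = {p, q, r, f} := by
    refine (eq_of_subset_of_card_le ?_ ?_).symm
    · intro u hu
      simp only [mem_insert, mem_singleton] at hu
      rcases hu with rfl | rfl | rfl | rfl
      exacts [hpA, hqA, hrA, hfA]
    · rw [mE1, card_insert_of_notMem (by simp [Ne.symm hne, Ne.symm hp2, npf]),
        card_insert_of_notMem (by simp [Ne.symm hp21, nqf]), card_pair nrf]
  refine ⟨p, q, r, f, ⟨⟨Ne.symm hne, hp21.symm, Ne.symm hp2, npf, nqf, nrf⟩, hA, hpq, hr.symm, hp3, fun t h1 h2 h3 => ?_,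
    ?_, ?_, hfp, hfq, ⟨fun h => hsA (by rw [h]; exact hpA), fun h => hsA (by rw [h]; exact hqA), fun h => hsA (by rw [h]; exact hrA)⟩, d11, ?_, ?_⟩⟩
  · by_cases ht : t ∈ A
    · rw [hA] at ht
      simp only [mem_insert, mem_singleton] at ht
      rcases ht with e | e | e | e
      exacts [absurd e h1, absurd e h2, absurd e h3, e ▸ hf]
    · exact out t ht
  · have hE : E1 (e a) = a := by rw [← hE1a]; exact inv_of sE1 a
    rcases hp with rfl | rfl <;> rcases hq with rfl | rfl
    exacts [absurd rfl hne, hE1a, hE, absurd rfl hne]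
  · rcases hp with rfl | rfl <;> rcases hq with rfl | rfl
    exacts [absurd rfl hne, rfl, einv _, absurd rfl hne]
  · intro x hx
    have h1 : x ∈ A ∪ e.support := by
      by_contra hn
      rw [mem_union, not_or] at hn
      exact (Perm.mem_support.1 hx) (hcsupp x hn.1 hn.2)
    rcases mem_union.1 h1 with h | h
    · exact mem_union_left _ h
    · exact hesupp h
  · exact hesupp

/-- The relation between two conjugate lifts. -/
theorem three_cycles_rel (hk : Fintype.card α ≤ 9) {E1 E2 F1 F2 e c Y : Perm α}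
    (sE1 : E1 * E1 = 1) (sE2 : E2 * E2 = 1) (sF1 : F1 * F1 = 1) (sF2 : F2 * F2 = 1) (se : e * e = 1) (sc : c * c = 1)
    (cE : E1 * E2 = E2 * E1) (cF : F1 * F2 = F2 * F1)
    (mE1 : E1.support.card = 4) (mE2 : E2.support.card = 4) (mE3 : (E1 * E2).support.card = 4)
    (mF1 : F1.support.card = 4) (mF2 : F2.support.card = 4) (mF3 : (F1 * F2).support.card = 4)
    (me : e.support.card = 4) (mc : c.support.card = 4)
    (m11 : (E1 * F1).support.card = 8) (m21 : (E2 * F1).support.card = 8) (m31 : (E1 * E2 * F1).support.card = 8)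
    (m12 : (E1 * F2).support.card = 8) (m13 : (E1 * (F1 * F2)).support.card = 8)
    (y1 : Y * E1 * Y⁻¹ = E1 * E2) (y2 : Y * E2 * Y⁻¹ = E1)
    (yF1 : Y * F1 = F1 * Y) (yF2 : Y * F2 = F2 * Y) (hY : Y * Y * Y = 1)
    (eY : e * Y * e = Y⁻¹) (eE1 : e * E1 = E1 * e) (eF1 : e * F1 = F1 * e) (eE2 : e * E2 * e = E1 * E2)
    (eF2 : e * F2 * e = F1 * F2) (cE1 : c * E1 * c = e) :
    (Y * (c * Y * c)) * (Y * (c * Y * c)) = 1 := by
  obtain ⟨p, q, r, f, H⟩ := edge_shape hk sE1 sE2 sF1 sF2 se sc cE cF mE1 mE2 mE3 mF1 mF2 mF3 me mc m11 m21 m31 m12 m13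
    y1 y2 yF1 yF2 hY eY eE1 eF1 eE2 eF2 cE1
  exact tri_rel sc H.Yp H.Yq H.Yr H.Yfix H.cp H.cq H.cr

end Cfsg.Agent.Spor.Yamaki
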