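import Cfsg.Agent.Lib.Spor.Yamaki.PermRel

/-!
The three-cycle through the ninth point.
-/

set_option autoImplicit false

namespace Cfsg.Agent.Spor.Yamaki

open Equiv Finset

variable {α : Type*} [Fintype α] [DecidableEq α]

/-- the properties singling out the cycle through the ninth point -/
def ThirdProp {M : Type*} [Group M] (E1 F1 Y Z : M) : Prop :=
  Z * Z * Z = 1 ∧ Z * F1 = F1 * Z ∧ E1 * Z * E1 = Z⁻¹ ∧ (Y * Z) * (Y * Z) = 1

/-- Existence and uniqueness of the cycle through the ninth point. -/
theorem exists_third (h9 : Fintype.card α = 9) {E1 F1 F2 e c Y : Perm α} {p q r f : α}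
    (H : Edge E1 F1 e c Y p q r f) (sE1 : E1 * E1 = 1) (se : e * e = 1) (mF1 : F1.support.card = 4)
    (hF2 : F2.support = F1.support) (hY : Y * Y * Y = 1) :
    ∃ Z : Perm α, ThirdProp E1 F1 Y Z ∧ Perm.sign Z = Perm.sign Y ∧ c * Z = Z * c ∧ F2 * Z = Z * F2 ∧
      (E1 * e) * Z = Z * (E1 * e) ∧ ∀ Z', ThirdProp E1 F1 Y Z' → Z' = Z := by
  obtain ⟨npq, nqr, npr, npf, nqf, nrf⟩ := H.ne
  set A := E1.support
  set B := F1.support
  have hAeq : A = {p, q, r, f} := H.supp
  have mA : A.card = 4 := by
    rw [hAeq, card_insert_of_notMem (by simp [npq, npr, npf]), card_insert_of_notMem (by simp [nqr, nqf]),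
      card_pair nrf]
  obtain ⟨o, ho⟩ : ∃ o, (A ∪ B)ᶜ = {o} := card_eq_one.1 (by
    rw [card_compl, card_union_of_disjoint H.dis, mA, mF1, h9])
  have homem : o ∈ (A ∪ B)ᶜ := ho ▸ mem_singleton_self o
  rw [mem_compl, mem_union, not_or] at homem
  obtain ⟨hoA, hoB⟩ := homem
  have hrest : ∀ x, x ∉ A → x ∉ B → x = o := fun x h1 h2 => by
    have : x ∈ (A ∪ B)ᶜ := by rw [mem_compl, mem_union, not_or]; exact ⟨h1, h2⟩
    rwa [ho, mem_singleton] at this
  have memA : ∀ {x}, x ∈ A ↔ x = p ∨ x = q ∨ x = r ∨ x = f := fun {x} => by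
    rw [hAeq]; simp only [mem_insert, mem_singleton]
  have nop : o ≠ p := fun h => hoA (memA.2 (Or.inl h))
  have noq : o ≠ q := fun h => hoA (memA.2 (Or.inr (Or.inl h)))
  have nor : o ≠ r := fun h => hoA (memA.2 (Or.inr (Or.inr (Or.inl h))))
  have nof : o ≠ f := fun h => hoA (memA.2 (Or.inr (Or.inr (Or.inr h))))
  set s := swap r o
  have sp : s p = p := swap_apply_of_ne_of_ne npr nop.symm
  have sq : s q = q := swap_apply_of_ne_of_ne nqr noq.symm
  have sr : s r = o := swap_apply_left _ _
  have so : s o = r := swap_apply_right _ _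
  set Z := s * Y * s
  have Zp : Z p = q := by simp only [Z, Perm.mul_apply]; rw [sp, H.Yp, sq]
  have Zq : Z q = o := by simp only [Z, Perm.mul_apply]; rw [sq, H.Yq, sr]
  have Zo : Z o = p := by simp only [Z, Perm.mul_apply]; rw [so, H.Yr, sp]
  have Zfix : ∀ t, t ≠ p → t ≠ q → t ≠ o → Z t = t := by
    intro t h1 h2 h3
    simp only [Z, Perm.mul_apply]
    by_cases h4 : t = r
    · rw [h4, sr, H.Yfix o nop noq nor, so]
    · have hs : s t = t := swap_apply_of_ne_of_ne h4 h3
      rw [hs, H.Yfix t h1 h2 h4, hs]
  have comm : ∀ g : Perm α, g p = p → g q = q → g o = o → g * Z = Z * g := by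
    intro g hp hq hz
    refine Perm.ext fun t => ?_
    simp only [Perm.mul_apply]
    by_cases h1 : t = p
    · rw [h1, hp, Zp, hq]
    by_cases h2 : t = q
    · rw [h2, hq, Zq, hz]
    by_cases h3 : t = o
    · rw [h3, hz, Zo, hp]
    rw [Zfix t h1 h2 h3, Zfix (g t) (fun h => h1 (g.injective (h.trans hp.symm)))
      (fun h => h2 (g.injective (h.trans hq.symm))) (fun h => h3 (g.injective (h.trans hz.symm)))]
  have inB : ∀ {x}, x ∈ A → x ∉ B := fun hx => disjoint_left.1 H.dis hx
  have pA : p ∈ A := memA.2 (Or.inl rfl)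
  have qA : q ∈ A := memA.2 (Or.inr (Or.inl rfl))
  have fixB : ∀ g : Perm α, g.support = B → g p = p ∧ g q = q ∧ g o = o := fun g hg =>
    ⟨Perm.notMem_support.1 (hg ▸ inB pA), Perm.notMem_support.1 (hg ▸ inB qA), Perm.notMem_support.1 (hg ▸ hoB)⟩
  have Eo : E1 o = o := Perm.notMem_support.1 hoA
  have eo : e o = o := Perm.notMem_support.1 fun h => (mem_union.1 (H.e_le h)).elim hoA hoB
  have co : c o = o := Perm.notMem_support.1 fun h => (mem_union.1 (H.c_le h)).elim hoA hoB
  have Einv : ∀ x, E1 (E1 x) = x := fun x => by rw [← Perm.mul_apply, sE1, Perm.one_apply]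
  have Eq : E1 q = p := by rw [← H.E1p, Einv]
  have ss : s * s = 1 := swap_mul_self r o
  have Zcube : Z * Z * Z = 1 := by
    calc Z * Z * Z = s * Y * (s * s) * Y * (s * s) * Y * s := by simp only [Z, mul_assoc]
      _ = s * (Y * Y * Y) * s := by rw [ss]; group
      _ = 1 := by rw [hY, mul_one, ss]
  have Zi : ∀ t, Z (Z (Z t)) = t := fun t => by
    have := congrArg (fun g : Perm α => g t) Zcube
    simpa [Perm.mul_apply] using this
  refine ⟨Z, ⟨Zcube, (comm F1 (fixB F1 rfl).1 (fixB F1 rfl).2.1 (fixB F1 rfl).2.2).symm, ?_,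
    tri_rel ss H.Yp H.Yq H.Yr H.Yfix sp sq (by rw [sr]; exact ⟨nop, noq, nor⟩)⟩,
    ?_, comm c H.cp H.cq co, comm F2 (fixB F2 hF2).1 (fixB F2 hF2).2.1 (fixB F2 hF2).2.2,
    comm (E1 * e) (by rw [Perm.mul_apply, H.ep, Eq]) ?_ (by rw [Perm.mul_apply, eo, Eo]), ?_⟩
  · refine eq_inv_of_mul_eq_one_left (Perm.ext fun t => ?_)
    simp only [Perm.mul_apply, Perm.one_apply]
    by_cases h1 : t = p
    · rw [h1, Zp, Eq, Zp, Eq]
    by_cases h2 : t = q
    · rw [h2, Zq, Eo, Zo, H.E1p]
    by_cases h3 : t = o
    · rw [h3, Zo, H.E1p, Zq, Eo]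
    · rw [Zfix t h1 h2 h3, Zfix (E1 t) (fun h => h2 (E1.injective (h.trans Eq.symm)))
        (fun h => h1 (E1.injective (h.trans H.E1p.symm))) (fun h => h3 (E1.injective (h.trans Eo.symm))), Einv]
  · rw [map_mul, map_mul, mul_comm (Perm.sign s) (Perm.sign Y), mul_assoc, ← map_mul, ss, map_one, mul_one]
  · have he : e q = p := by rw [← H.ep, ← Perm.mul_apply, se, Perm.one_apply]
    rw [Perm.mul_apply, he, H.E1p]
  · rintro W ⟨W3, WF, WE, WY⟩
    have Wi : ∀ t, W (W (W t)) = t := fun t => by
      have := congrArg (fun g : Perm α => g t) W3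
      simpa [Perm.mul_apply] using this
    have WEt : ∀ t, W (E1 (W (E1 t))) = t := fun t => by
      have := congrArg (fun g : Perm α => W (g t)) WE
      simp only [Perm.mul_apply] at this
      rw [this]
      exact W.apply_symm_apply t
    have WFt : ∀ t, W (F1 t) = F1 (W t) := fun t => by rw [← Perm.mul_apply, WF, Perm.mul_apply]
    have orbit3 : ∀ {t}, W t ≠ t → W (W t) ≠ t ∧ W (W t) ≠ W t := fun {t} h =>
      ⟨fun e => h (by have := Wi t; rwa [e] at this), fun e => h (W.injective e)⟩
    have WB : ∀ x ∈ B, W x = x := by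
      intro x hx
      by_contra hne
      obtain ⟨n1, n2⟩ := orbit3 hne
      have m1 : W x ∈ B := (supp_comm_mem WF).2 hx
      have m2 : W (W x) ∈ B := (supp_comm_mem WF).2 m1
      have hsub : ({x, W x, W (W x)} : Finset α) ⊆ B := by
        intro u hu
        simp only [mem_insert, mem_singleton] at hu
        rcases hu with rfl | rfl | rfl <;> assumption
      have h1 := card_sdiff_add_card_eq_card hsub
      rw [mF1, card_insert_of_notMem (by simp [Ne.symm hne, Ne.symm n1]), card_insert_of_notMem (by simp [Ne.symm n2]),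
        card_singleton] at h1
      obtain ⟨u, hu⟩ := card_eq_one.1 (show (B \ {x, W x, W (W x)}).card = 1 by omega)
      have hum : u ∈ B \ {x, W x, W (W x)} := hu ▸ mem_singleton_self u
      have hWu : W u = u := by
        have hmem : W u ∈ B \ {x, W x, W (W x)} := by
          refine mem_sdiff.2 ⟨(supp_comm_mem WF).2 (mem_sdiff.1 hum).1, fun h => (mem_sdiff.1 hum).2 ?_⟩
          simp only [mem_insert, mem_singleton] at h ⊢
          rcases h with h | h | h
          · exact Or.inr (Or.inr (W.injective (h.trans (Wi x).symm)))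
          · exact Or.inl (W.injective h)
          · exact Or.inr (Or.inl (W.injective h))
        rwa [hu, mem_singleton] at hmem
      have hFu : F1 u ∈ B \ {x, W x, W (W x)} := by
        refine mem_sdiff.2 ⟨Perm.apply_mem_support.2 (mem_sdiff.1 hum).1, fun h => ?_⟩
        have hfx : W (F1 u) = F1 u := by rw [WFt, hWu]
        simp only [mem_insert, mem_singleton] at h
        rcases h with h | h | h <;> rw [h] at hfx
        · exact hne hfx
        · exact n2 hfx
        · exact hne (W.injective (W.injective hfx))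
      rw [hu, mem_singleton] at hFu
      exact Perm.mem_support.1 (mem_sdiff.1 hum).1 hFu
    have Wout : ∀ {x}, x ∉ B → W x ∉ B := fun hx h => hx ((supp_comm_mem WF).1 h)
    have WAo : ∀ {x}, x ∉ B → W x ∈ A ∨ W x = o := fun {x} hx => by
      by_cases h : W x ∈ A
      · exact Or.inl h
      · exact Or.inr (hrest _ h (Wout hx))
    have hWo : W o ≠ o := by
      intro hW
      have WA : ∀ {x}, x ∈ A → W x ∈ A := fun {x} hx => (WAo (inB hx)).resolve_right fun h =>
        hoA (by rw [← W.injective (h.trans hW.symm)]; exact hx)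
      have hone : ∀ x ∈ A, W x = x := by
        intro x hx
        by_contra hne
        obtain ⟨n1, n2⟩ := orbit3 hne
        have hsub : ({x, W x, W (W x)} : Finset α) ⊆ A := by
          intro u hu
          simp only [mem_insert, mem_singleton] at hu
          rcases hu with rfl | rfl | rfl
          exacts [hx, WA hx, WA (WA hx)]
        have h1 := card_sdiff_add_card_eq_card hsub
        rw [mA, card_insert_of_notMem (by simp [Ne.symm hne, Ne.symm n1]), card_insert_of_notMem (by simp [Ne.symm n2]),
          card_singleton] at h1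
        obtain ⟨u, hu⟩ := card_eq_one.1 (show (A \ {x, W x, W (W x)}).card = 1 by omega)
        have hum : u ∈ A \ {x, W x, W (W x)} := hu ▸ mem_singleton_self u
        have hWu : W u = u := by
          have hmem : W u ∈ A \ {x, W x, W (W x)} := by
            refine mem_sdiff.2 ⟨WA (mem_sdiff.1 hum).1, fun h => (mem_sdiff.1 hum).2 ?_⟩
            simp only [mem_insert, mem_singleton] at h ⊢
            rcases h with h | h | h
            · exact Or.inr (Or.inr (W.injective (h.trans (Wi x).symm)))
            · exact Or.inl (W.injective h)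
            · exact Or.inr (Or.inl (W.injective h))
          rwa [hu, mem_singleton] at hmem
        have hEu : E1 u ∈ A \ {x, W x, W (W x)} := by
          refine mem_sdiff.2 ⟨Perm.apply_mem_support.2 (mem_sdiff.1 hum).1, fun h => ?_⟩
          have hfx : W (E1 u) = E1 u := by
            have := WEt (E1 u)
            rwa [Einv, hWu] at this
          simp only [mem_insert, mem_singleton] at h
          rcases h with h | h | h <;> rw [h] at hfx
          · exact hne hfx
          · exact n2 hfx
          · exact hne (W.injective (W.injective hfx))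
        rw [hu, mem_singleton] at hEu
        exact Perm.mem_support.1 (mem_sdiff.1 hum).1 hEu
      have hW1 : W = 1 := Perm.ext fun x => by
        rw [Perm.one_apply]
        by_cases hx : x ∈ A
        · exact hone x hx
        by_cases hxB : x ∈ B
        · exact WB x hxB
        rw [hrest x hx hxB, hW]
      rw [hW1, mul_one] at WY
      have := congrArg (fun g : Perm α => g p) WY
      simp only [Perm.mul_apply, Perm.one_apply] at this
      rw [H.Yp, H.Yq] at this
      exact npr this.symm
    obtain ⟨n1, n2⟩ := orbit3 hWo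
    have huA : W o ∈ A := (WAo hoB).resolve_right hWo
    have hwu : W (W o) = E1 (W o) := by
      have h1 := WEt o
      rw [Eo] at h1
      exact (W.injective (h1.trans (Wi o).symm)).symm
    have hw3 : W (E1 (W o)) = o := by rw [← hwu]; exact Wi o
    have hothers : ∀ t, t ≠ o → t ≠ W o → t ≠ E1 (W o) → W t = t := by
      intro t h1 h2 h3
      by_cases htB : t ∈ B
      · exact WB t htB
      by_contra hne
      obtain ⟨m1, m2⟩ := orbit3 hne
      have hsub : ({o, W o, W (W o), t, W t, W (W t)} : Finset α) ⊆ Bᶜ := by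
        intro u hu
        simp only [mem_insert, mem_singleton] at hu
        rw [mem_compl]
        rcases hu with rfl | rfl | rfl | rfl | rfl | rfl
        exacts [hoB, Wout hoB, Wout (Wout hoB), htB, Wout htB, Wout (Wout htB)]
      have e1 : t ≠ W (W o) := hwu ▸ h3
      have e2 : W o ≠ W t := fun e => h1 (W.injective e).symm
      have e3 : W (W o) ≠ W t := fun e => h2 (W.injective e).symm
      have e4 : o ≠ W t := fun e => e1 (W.injective (e.symm.trans (Wi o).symm))
      have e5 : W (W o) ≠ W (W t) := fun e => h1 (W.injective (W.injective e)).symm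
      have e6 : o ≠ W (W t) := fun e => h2 (by
        have := congrArg W e; rw [Wi] at this; exact this.symm)
      have e7 : W o ≠ W (W t) := fun e => e4 (W.injective e)
      have hc := card_le_card hsub
      rw [card_compl, mF1, h9, card_insert_of_notMem (by simp [Ne.symm hWo, Ne.symm n1, Ne.symm h1, e4, e6]),
        card_insert_of_notMem (by simp [Ne.symm n2, Ne.symm h2, e2, e7]),
        card_insert_of_notMem (by simp [Ne.symm e1, e3, e5]),
        card_insert_of_notMem (by simp [Ne.symm hne, Ne.symm m1]), card_pair (Ne.symm m2)] at hc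
      omega
    have WY' : ∀ t, Y (W (Y (W t))) = t := fun t => by
      have := congrArg (fun g : Perm α => g t) WY
      simpa [Perm.mul_apply] using this
    have Yo : Y o = o := H.Yfix o nop noq nor
    have Yf : Y f = f := H.Yfix f npf.symm nqf.symm nrf.symm
    have Er : E1 r = f := by
      have h1 : E1 r ∈ A := Perm.apply_mem_support.2 (memA.2 (Or.inr (Or.inr (Or.inl rfl))))
      rcases memA.1 h1 with h | h | h | h
      · exact absurd (E1.injective (h.trans Eq.symm)) nqr.symm
      · exact absurd (E1.injective (h.trans H.E1p.symm)) npr.symm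
      · exact absurd h (Perm.mem_support.1 (memA.2 (Or.inr (Or.inr (Or.inl rfl)))))
      · exact h
    have Ef : E1 f = r := by rw [← Er, Einv]
    rcases memA.1 huA with hu | hu | hu | hu <;> rw [hu] at hwu hw3 hothers
    · rw [H.E1p] at hwu hw3 hothers
      refine Perm.ext fun t => ?_
      by_cases h1 : t = p
      · rw [h1, Zp, hwu]
      by_cases h2 : t = q
      · rw [h2, Zq, hw3]
      by_cases h3 : t = o
      · rw [h3, Zo, hu]
      rw [Zfix t h1 h2 h3, hothers t h3 h1 h2]
    · exfalso
      rw [Eq] at hwu hw3 hothers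
      have := WY' r
      rw [hothers r nor.symm nqr.symm npr.symm, H.Yr, hw3, Yo] at this
      exact nor this
    · exfalso
      rw [Er] at hwu hw3 hothers
      have := WY' r
      rw [hwu, Yf, hw3, Yo] at this
      exact nor this
    · exfalso
      rw [Ef] at hwu hw3 hothers
      have := WY' r
      rw [hw3, Yo, hu, Yf] at this
      exact nrf this.symm

end Cfsg.Agent.Spor.Yamaki
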