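import Cfsg.Agent.Lib.Spor.Yamaki.Twenty

/-!
Four-groups of the Sylow subgroup whose involutions all have four transpositions: kernel tables.
-/

set_option autoImplicit false
set_option maxRecDepth 100000
set_option Elab.async false

namespace Cfsg.Agent.Spor.Yamaki

open Equiv

/-- codes of the involutions with four transpositions in the Sylow subgroup -/
def gamL : List ℕ := [
    0xab8967453210, 0x98ba67453210, 0x89ab67453210, 0xab8954763210, 0x98ba54763210, 0x89ab54763210,
    0xab8945673210, 0x98ba45673210, 0x89ab45673210, 0xab8967542310, 0x98ba67542310, 0x89ab67542310,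
    0xab8976452310, 0x98ba76452310, 0x89ab76452310, 0xab9867452310, 0xba8967452310, 0xab9854762310,
    0xba8954762310, 0xab9845672310, 0xba8945672310, 0xab8967543201, 0x98ba67543201, 0x89ab67543201,
    0xab8976453201, 0x98ba76453201, 0x89ab76453201, 0xab9867453201, 0xba8967453201, 0xab9854763201,
    0xba8954763201, 0xab9845673201, 0xba8945673201, 0xab8976542301, 0x98ba76542301, 0x89ab76542301,
    0xab9867542301, 0xba8967542301, 0xab9876452301, 0xba8976452301, 0xba9867452301, 0xba9854762301,
    0xba9845672301, 0xab8976541032, 0x98ba76541032, 0x89ab76541032, 0xab9867541032, 0xba8967541032,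
    0xab9876451032, 0xba8976451032, 0xba9867451032, 0xba9854761032, 0xba9845671032, 0xab8976540123,
    0x98ba76540123, 0x89ab76540123, 0xab9867540123, 0xba8967540123, 0xab9876450123, 0xba8976450123,
    0xba9867450123, 0xba9854760123, 0xba9845670123, 0xba9832107654, 0xba9823106754, 0xba9832017645,
    0xba9823016745, 0xba9810325476, 0xba9810234576, 0xba9801325467, 0xba9801234567]

/-- double transpositions serving as witnesses -/
def witP : List P12 := [
    swap 8 9 * swap 10 11,
    swap 0 1 * swap 2 3,
    swap 4 5 * swap 6 7,
    swap 0 2 * swap 1 3,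
    swap 0 3 * swap 1 2,
    swap 4 6 * swap 5 7,
    swap 0 4 * swap 1 5,
    swap 0 6 * swap 1 7,
    swap 4 7 * swap 5 6,
    swap 8 10 * swap 9 11,
    swap 8 11 * swap 9 10,
    swap 2 4 * swap 3 5,
    swap 2 6 * swap 3 7,
    swap 0 5 * swap 2 7,
    swap 0 7 * swap 3 4,
    swap 0 2 * swap 4 6,
    swap 0 2 * swap 4 7,
    swap 0 2 * swap 5 6,
    swap 0 3 * swap 4 6,
    swap 0 3 * swap 5 6,
    swap 0 3 * swap 5 7]

/-- their codes -/
def witN : List ℕ := [
    0xab8976543210, 0xba9876542301, 0xba9867453210, 0xba9876541032, 0xba9876540123, 0xba9854763210,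
    0xba9876103254, 0xba9810543276, 0xba9845673210, 0x98ba76543210, 0x89ab76543210, 0xba9876325410,
    0xba9832547610, 0xba9826043715, 0xba9806534217, 0xba9874563012, 0xba9846573012, 0xba9875643012,
    0xba9874560213, 0xba9875640213, 0xba9856740213]

theorem witN_eq : witP.map enc = witN := by decide +kernel

/-- fixed-point-free witnesses -/
def sixN : List ℕ := [0x98ba67451032, 0x98ba54761032, 0x98ba45670123]

/-- an involution code -/
def invN (a : ℕ) : Bool := Nat.beq (mN a a) idN

/-- the codes generate a four-group of the kind considered -/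
def pureN (q r : ℕ) : Bool := cm q r && Nat.beq (moved (mN q r)) 8

/-- moved points never four -/
def farN (w q : ℕ) : Bool := !(Nat.beq (moved (mN w q)) 4)

/-- a fixed-point-free involution separating two elements -/
def sepN (u q r : ℕ) : Bool := cm u q && cm u r && Nat.beq (moved (mN u q)) 12 &&
  Nat.beq (moved (mN u r)) 8 && Nat.beq (moved (mN u (mN q r))) 8

theorem gamL_complete : (SL.all fun a => !(invN a && Nat.beq (moved a) 8) || gamL.contains a) = true := by
  decide +kernel

theorem inv_moved : (SL.all fun a => !(invN a) || [0, 4, 8, 12].contains (moved a)) = true := by decide +kernel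

theorem wit_codes : (witN.all fun a => invN a && Nat.beq (moved a) 4) = true := by decide +kernel

theorem wit_facts : ∀ w ∈ witP, Perm.sign w = 1 ∧ w * w = 1 ∧ w.support.card = 4 := by
  intro w hw
  have h := List.all_eq_true.1 wit_codes _ (witN_eq ▸ List.mem_map_of_mem (f := enc) hw)
  simp only [invN, Bool.and_eq_true, Nat.beq_eq] at h
  refine ⟨?_, enc_inj (by rw [enc_mul, h.1, enc_one]), by rw [← moved_enc, h.2]⟩
  simp only [witP, List.mem_cons, List.not_mem_nil, or_false] at hw
  casesm* _ ∨ _ <;> subst hw <;> simp [Fin.ext_iff]

theorem sixN_facts : (sixN.all fun a => SL.contains a && invN a && Nat.beq (moved a) 12) = true := by decide +kernel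

theorem single_table : (gamL.all fun q =>
    (witN.any fun w => cm w q && farN w q) && (witN.any fun w => cm w q && !(farN w q))) = true := by
  decide +kernel

theorem pair_table : (gamL.all fun q => gamL.all fun r => Nat.ble r q || !(pureN q r) ||
    ((witN.any fun w => cm w q && cm w r && farN w q && farN w r && farN w (mN q r)) &&
      (witN.any fun w => cm w q && cm w r && !(farN w q && farN w r && farN w (mN q r))))) = true := by
  decide +kernel

theorem triple_table : (gamL.all fun q => gamL.all fun r => Nat.ble r q || !(pureN q r) || gamL.all fun s =>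
    Nat.ble s r || Nat.beq s (mN q r) || !(pureN q s && pureN r s && Nat.beq (moved (mN q (mN r s))) 8) ||
      let E := [q, r, s, mN q r, mN q s, mN r s, mN q (mN r s)]
      sixN.any fun u => E.any fun a => cm u a && Nat.beq (moved (mN u a)) 12 && E.any fun b =>
        !(Nat.beq a b) && sepN u a b) = true := by decide +kernel

theorem closed_table : (gamL.all fun q => !(cm tpN q && Nat.beq (moved (mN tpN q)) 12) || gamL.all fun r =>
    !(pureN q r && sepN tpN q r) || gamL.all fun z =>
      Nat.beq z q || Nat.beq z r || Nat.beq z (mN q r) ||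
        !(pureN q z && pureN r z && Nat.beq (moved (mN q (mN r z))) 8 && cm tpN z)) = true := by decide +kernel

end Cfsg.Agent.Spor.Yamaki
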