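import Cfsg.Agent.Lib.Spor.Yamaki.Eight
import Cfsg.Agent.Lib.Spor.Yamaki.InvClass
import Cfsg.Agent.Lib.Spor.Yamaki.PermRel

/-!
The relation between two lifts with a common edge.
-/

set_option autoImplicit false
set_option maxRecDepth 100000
set_option Elab.async false
set_option linter.unnecessarySeqFocus false

universe u

namespace Cfsg.Agent.Spor.Yamaki

open Equiv Subgroup Cfsg.Agent.MTwelve.CentShape Cfsg.Agent.MTwelve.SwapCase

/-- code facts for the exchange of two pairs and the flips -/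
theorem rel_codes : (fixTop (cjN.getD 1 0) &&
    Nat.beq (mN (gN 6) (avN 1)) (mN (avN 1) (gN 6)) && Nat.beq (mN (gN 6) (avN 4)) (mN (avN 4) (gN 6)) &&
    Nat.beq (mN (gN 6) (mN (avN 2) (gN 6))) (avN 3) && Nat.beq (mN (gN 6) (mN (avN 8) (gN 6))) (avN 12) &&
    Nat.beq (mN (cjN.getD 1 0) (mN (avN 1) (cjN.getD 1 0))) (gN 6) &&
    Nat.beq (moved (gN 6)) 4 && Nat.beq (moved (cjN.getD 1 0)) 4 && Nat.beq (gN 6) (fN.getD 0 0)) = true := by
  decide +kernel

theorem low_types : (List.range 16).all (fun v => Nat.beq v 0 || Nat.beq (τn v) 1 || Nat.beq (τn v) 2 &&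
    [5, 7, 6, 13, 9, 15, 14, 11, 10].any (Nat.beq v)) = true := by decide +kernel

attribute [local irreducible] mN enc tab avN slAt gN idxN fixTop moved

namespace Lift

variable {G : Type u} [Group G] [Finite G] {E : Data27 G} (L : Lift E)

include L in
theorem fixTop_XB {c : C0} (hc : fixTop (enc c.1) = true) : E.D.φ c ∈ E.XB := by
  obtain ⟨X, rfl⟩ := ev_of_fixTop hc
  exact L.ev_XB X

include L in
theorem el_low_XB {v : Fin 64} (hv : v.val < 16) : E.D.el v ∈ E.XB := by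
  refine L.fixTop_XB (c := a0 v) (fixTop_of_fix.2 ?_)
  have : ∀ v : Fin 64, v.val < 16 → ∀ i : Fin 12, 8 ≤ i.val → av v i = i := by decide +kernel
  exact this v hv

include L in
/-- The nine conjugates of the involution among the low translations. -/
theorem low_fused {v : Fin 64} (hv : v.val ∈ [5, 7, 6, 13, 9, 15, 14, 11, 10]) :
    ∃ g ∈ E.XB, g * E.D.el 5 * g⁻¹ = E.D.el v := by
  have step : ∀ (g : G), g ∈ E.XB → ∀ a b : Fin 64, g * E.D.el a * g⁻¹ = E.D.el b →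
      (∃ h ∈ E.XB, h * E.D.el 5 * h⁻¹ = E.D.el a) → ∃ h ∈ E.XB, h * E.D.el 5 * h⁻¹ = E.D.el b := by
    rintro g hg a b hab ⟨h, hh, he⟩
    refine ⟨g * h, mul_mem hg hh, ?_⟩
    rw [← hab, ← he]
    group
  have sy := fun a => step L.y L.y_mem_XB a (sig3 a) (L.conj a)
  have sb : ∀ a b : Fin 64, Nat.beq (mN (gN 8) (avN a.val)) (mN (avN b.val) (gN 8)) = true →
      (∃ h ∈ E.XB, h * E.D.el 5 * h⁻¹ = E.D.el a) → ∃ h ∈ E.XB, h * E.D.el 5 * h⁻¹ = E.D.el b := by
    intro a b h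
    refine step _ (L.low_gen 8 (by simp)) a b ?_
    refine E.D.el_conj _ (Subtype.ext (enc_inj ?_))
    show enc (gP 8 * av a) = enc (av b * gP 8)
    rw [enc_mul, enc_mul, enc_gP, enc_av, enc_av]
    exact Nat.beq_eq.mp h
  have h5 : ∃ h ∈ E.XB, h * E.D.el 5 * h⁻¹ = E.D.el 5 := ⟨1, one_mem _, by group⟩
  have h7 := sy 5 h5
  rw [show sig3 5 = 7 by decide] at h7
  have h6 := sy 7 h7
  rw [show sig3 7 = 6 by decide] at h6
  have h13 := sb 7 13 (by decide +kernel) h7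
  have h9 := sb 6 9 (by decide +kernel) h6
  have h15 := sy 13 h13
  rw [show sig3 13 = 15 by decide] at h15
  have h14 := sy 15 h15
  rw [show sig3 15 = 14 by decide] at h14
  have h11 := sy 9 h9
  rw [show sig3 9 = 11 by decide] at h11
  have h10 := sy 11 h11
  rw [show sig3 11 = 10 by decide] at h10
  have hcases : ∀ u : Fin 64, u.val ∈ [5, 7, 6, 13, 9, 15, 14, 11, 10] →
      u = 5 ∨ u = 7 ∨ u = 6 ∨ u = 13 ∨ u = 9 ∨ u = 15 ∨ u = 14 ∨ u = 11 ∨ u = 10 := by decide +kernel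
  rcases hcases v hv with rfl | rfl | rfl | rfl | rfl | rfl | rfl | rfl | rfl <;> assumption

include L in
/-- Representations by permutations of eight or nine points. -/
theorem exists_rep : ∃ (k : ℕ) (ψ : E.XB →* Perm (Fin k)), (k = 8 ∨ k = 9) ∧ Function.Injective ψ ∧
    ψ.range = alternatingGroup (Fin k) := by
  rcases L.XB_alt with ⟨⟨ρ⟩⟩ | ⟨⟨ρ⟩⟩
  · exact ⟨8, (alternatingGroup (Fin 8)).subtype.comp ρ.toMonoidHom, Or.inl rfl,
      Subtype.val_injective.comp ρ.injective, by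
        rw [MonoidHom.range_eq_map, ← map_map, map_top_of_surjective _ ρ.surjective, ← MonoidHom.range_eq_map,
          range_subtype]⟩
  · exact ⟨9, (alternatingGroup (Fin 9)).subtype.comp ρ.toMonoidHom, Or.inr rfl,
      Subtype.val_injective.comp ρ.injective, by
        rw [MonoidHom.range_eq_map, ← map_map, map_top_of_surjective _ ρ.surjective, ← MonoidHom.range_eq_map,
          range_subtype]⟩

include L in
/-- Moved points in a representation. -/
theorem rep_moved {k : ℕ} (ψ : E.XB →* Perm (Fin k)) (hk : k = 8 ∨ k = 9) (hψ : Function.Injective ψ)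
    (hr : ψ.range = alternatingGroup (Fin k)) {u : E.XB} (h2 : u * u = 1) (h1 : u ≠ 1) :
    ((∃ g ∈ E.XB, g * E.D.el 5 * g⁻¹ = u.1) → (ψ u).support.card = 8) ∧
      ((¬ ∃ g ∈ E.XB, g * E.D.el 5 * g⁻¹ = u.1) → (ψ u).support.card = 4) := by
  have hev : ∀ x : E.XB, ψ x ∈ alternatingGroup (Fin k) := fun x => hr ▸ ⟨x, rfl⟩
  have hs2 : L.sX * L.sX = 1 := Subtype.ext (by
    show E.D.el 5 * E.D.el 5 = 1
    rw [E.D.el_mul, vx_self, E.el_zero])
  have hs1 : L.sX ≠ 1 := fun h => by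
    have := congrArg Subtype.val h
    rw [show (L.sX : G) = E.D.el 5 from rfl, Subgroup.coe_one, ← E.el_zero] at this
    exact absurd (E.D.el_inj this) (by decide)
  have inv : ∀ {x : E.XB}, x * x = 1 → x ≠ 1 →
      ψ x * ψ x = 1 ∧ ψ x ≠ 1 ∧ Perm.sign (ψ x) = 1 := fun hx hx1 =>
    ⟨by rw [← map_mul, hx, map_one], fun h => hx1 (hψ (h.trans (map_one ψ).symm)), Perm.mem_alternatingGroup.1 (hev _)⟩
  obtain ⟨a1, a2, a3⟩ := inv hs2 hs1
  obtain ⟨b1, b2, b3⟩ := inv h2 h1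
  have hk9 : k ≤ 9 := by omega
  have hs8 : (ψ L.sX).support.card = 8 := by
    rcases invol_type a1 a2 a3 hk9 with ⟨ht, -⟩ | ⟨-, h⟩
    · exfalso
      refine cent_card_ne a1 ht hk ?_
      have himg : alternatingGroup (Fin k) ⊓ centralizer ({ψ L.sX} : Set (Perm (Fin k))) =
          (centralizer ({L.sX} : Set E.XB)).map ψ := by
        ext p
        rw [mem_inf, ← hr, mem_centralizer_singleton_iff, mem_map]
        constructor
        · rintro ⟨⟨x, rfl⟩, hx⟩
          exact ⟨x, mem_centralizer_singleton_iff.2 (hψ (by rw [map_mul, map_mul, hx])), rfl⟩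
        · rintro ⟨x, hx, rfl⟩
          exact ⟨⟨x, rfl⟩, by rw [← map_mul, mem_centralizer_singleton_iff.1 hx, map_mul]⟩
      rw [himg, card_map_of_injective hψ]
      have e : Function.Bijective fun X : El => (⟨L.parX.ev X, mem_centralizer_singleton_iff.2 (L.parX.commute_z X)⟩ :
          centralizer ({L.sX} : Set E.XB)) := by
        refine ⟨fun X Y h => L.parX.inj (congrArg Subtype.val h), fun ⟨g, hg⟩ => ?_⟩
        obtain ⟨X, hX⟩ := (L.parX.mem g).1 (mem_centralizer_singleton_iff.1 hg)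
        exact ⟨X, Subtype.ext hX⟩
      rw [← Nat.card_congr (Equiv.ofBijective _ e)]
      exact Gens.card_el
    · exact h
  constructor
  · rintro ⟨g, hg, he⟩
    rw [show u = ⟨g, hg⟩ * L.sX * ⟨g, hg⟩⁻¹ from Subtype.ext he.symm, map_mul, map_mul, map_inv,
      Perm.card_support_conj, hs8]
  · intro hn
    rcases invol_type b1 b2 b3 hk9 with ⟨-, h⟩ | ⟨-, h⟩
    · exact h
    · refine absurd ?_ hn
      obtain ⟨g, hg, he⟩ := invol_conj a1 a2 a3 b1 b2 b3 hk9 (hs8.trans h.symm)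
      rw [← hr] at hg
      obtain ⟨x, rfl⟩ := hg
      exact ⟨x.1, x.2, congrArg Subtype.val (hψ (a₁ := x * L.sX * x⁻¹) (a₂ := u) (by
        rw [map_mul, map_mul, map_inv, he]))⟩

/-- the lift as an element of the generated subgroup -/
def yB : E.XB := ⟨L.y, L.y_mem_XB⟩

/-- a low translation as an element of the generated subgroup -/
def vB (v : Fin 64) (hv : v.val < 16) : E.XB := ⟨E.D.el v, L.el_low_XB hv⟩

/-- the flip of the first and third pair as an element of the generated subgroup -/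
def eB : E.XB := ⟨E.D.φ ⟨gP 6, gP_mem 6⟩, L.low_gen 6 (by simp)⟩

/-- the exchange of the second and third pair as an element of the generated subgroup -/
def cB : E.XB :=
  ⟨E.D.φ ⟨cjP 1, cjP_mem 1⟩, L.fixTop_XB (by
    have hh := rel_codes
    simp only [Bool.and_eq_true] at hh
    rw [show enc (⟨cjP 1, cjP_mem 1⟩ : C0).1 = cjN.getD 1 0 from enc_cjP 1]
    exact hh.1.1.1.1.1.1.1.1)⟩

include L in
/-- The common edge in a representation. -/
theorem edge_data {k : ℕ} (ψ : E.XB →* Perm (Fin k)) (hk : k = 8 ∨ k = 9) (hψ : Function.Injective ψ)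
    (hr : ψ.range = alternatingGroup (Fin k)) :
    (∃ p q r f, Edge (ψ (L.vB 1 (by decide))) (ψ (L.vB 4 (by decide))) (ψ L.eB) (ψ L.cB) (ψ L.yB) p q r f) ∧
      (ψ (L.vB 4 (by decide))).support.card = 4 ∧
      (ψ (L.vB 8 (by decide))).support = (ψ (L.vB 4 (by decide))).support := by
  have hh := rel_codes
  simp only [Bool.and_eq_true, Nat.beq_eq] at hh
  obtain ⟨⟨⟨⟨⟨⟨⟨⟨hc, h61⟩, h64⟩, h62⟩, h68⟩, hce⟩, hm6⟩, hmc⟩, hf0⟩ := hh
  set c : C0 := ⟨cjP 1, cjP_mem 1⟩
  set e : C0 := ⟨gP 6, gP_mem 6⟩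
  have henc : enc c.1 = cjN.getD 1 0 := enc_cjP 1
  have hence : enc e.1 = gN 6 := enc_gP 6
  have hcX : E.D.φ c ∈ E.XB := L.fixTop_XB (by rw [henc]; exact hc)
  have heX : E.D.φ e ∈ E.XB := L.low_gen 6 (by simp)
  let yX : E.XB := L.yB
  let cX : E.XB := L.cB
  let eX : E.XB := L.eB
  let vX : (v : Fin 64) → v.val < 16 → E.XB := L.vB
  have vmul : ∀ a b ha hb hc, vX a ha * vX b hb = vX (vx a b) hc := fun a b _ _ _ => Subtype.ext (E.D.el_mul a b)
  have vsq : ∀ a ha, vX a ha * vX a ha = 1 := fun a _ => Subtype.ext (by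
    show E.D.el a * E.D.el a = 1
    rw [E.D.el_mul, vx_self, E.el_zero])
  have vmoved : ∀ (a : Fin 64) (ha : a.val < 16), a ≠ 0 →
      (ψ (vX a ha)).support.card = 4 * τn a.val := by
    intro a ha h0
    have hne : vX a ha ≠ 1 := fun h => by
      have := congrArg Subtype.val h
      rw [show ((vX a ha : E.XB) : G) = E.D.el a from rfl, Subgroup.coe_one, ← E.el_zero] at this
      exact h0 (E.D.el_inj this)
    obtain ⟨h8, h4⟩ := L.rep_moved ψ hk hψ hr (vsq a ha) hne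
    have ht := List.all_eq_true.1 low_types a.val (List.mem_range.2 ha)
    simp only [Bool.or_eq_true, Bool.and_eq_true, Nat.beq_eq, List.any_eq_true] at ht
    rcases ht with (h | h) | ⟨h, x, hx, hxe⟩
    · exact absurd (Fin.ext h) h0
    · rw [h]
      refine h4 fun ⟨g, _, hg⟩ => ?_
      have := E.τn_conj hg
      rw [show ((5 : Fin 64) : ℕ) = 5 from rfl, vx_pairs.2.2.2.2.2.2, h] at this
      omega
    · rw [h]
      exact h8 (L.low_fused (hxe ▸ hx))
  have small : ∀ (x : C0) (hx : E.D.φ x ∈ E.XB), x * x = 1 → moved (enc x.1) = 4 →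
      (ψ ⟨E.D.φ x, hx⟩).support.card = 4 := by
    intro x hx h2 hm
    refine (L.rep_moved ψ hk hψ hr (u := ⟨E.D.φ x, hx⟩) (Subtype.ext (by
      show E.D.φ x * E.D.φ x = 1
      rw [← map_mul, h2, map_one])) fun h => ?_).2 fun ⟨g, _, hg⟩ => ?_
    · have h1 : x = 1 := E.D.inj ((congrArg Subtype.val h).trans (map_one E.D.φ).symm)
      rw [h1, Subgroup.coe_one, moved_enc, Perm.support_one, Finset.card_empty] at hm
      omega
    · have := E.moved_conj (g := g) (x := a0 5) (Subtype.ext (av_sq 5)) h2 hg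
      rw [moved_a0, ← moved_enc, hm, show ((5 : Fin 64) : ℕ) = 5 from rfl, vx_pairs.2.2.2.2.2.2] at this
      omega
  have hψ2 : ∀ {x y : E.XB}, (x : G) = y → ψ x = ψ y := fun h => congrArg ψ (Subtype.ext h)
  have phiEq : ∀ {x z : C0}, enc x.1 = enc z.1 → E.D.φ x = E.D.φ z := fun h =>
    congrArg E.D.φ (Subtype.ext (enc_inj h))
  have ee : e * e = 1 := Subtype.ext (gP_sq 6)
  have cc : c * c = 1 := Subtype.ext (cjP_sq 1)
  have mF : (ψ (vX 4 (by decide))).support.card = 4 := by rw [vmoved _ _ (by decide)] <;> decide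
  have mF2 : (ψ (vX 8 (by decide))).support.card = 4 := by rw [vmoved _ _ (by decide)] <;> decide
  have mE : (ψ (vX 1 (by decide))).support.card = 4 := by rw [vmoved _ _ (by decide)] <;> decide
  have hk9 : Fintype.card (Fin k) ≤ 9 := by rw [Fintype.card_fin]; omega
  have d14 : Disjoint (ψ (vX 1 (by decide))).support (ψ (vX 4 (by decide))).support := disjoint_of_moved mE mF (by
    rw [← map_mul, vmul 1 4 _ _ (by decide), vmoved _ _ (by decide)] <;> decide)
  have d18 : Disjoint (ψ (vX 1 (by decide))).support (ψ (vX 8 (by decide))).support := disjoint_of_moved mE mF2 (by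
    rw [← map_mul, vmul 1 8 _ _ (by decide), vmoved _ _ (by decide)] <;> decide)
  refine ⟨?_, mF, (same_supp hk9 (by
    rw [← map_mul, ← map_mul]
    exact hψ2 (E.D.A_comm (E.D.mem_A.2 ⟨4, rfl⟩) (E.D.mem_A.2 ⟨8, rfl⟩))) (by rw [← map_mul, vsq, map_one]) mF mF2 mE
    d14.symm d18.symm).symm⟩
  refine edge_shape hk9
    (E1 := ψ (vX 1 (by decide))) (E2 := ψ (vX 2 (by decide))) (F1 := ψ (vX 4 (by decide)))
    (F2 := ψ (vX 8 (by decide))) (e := ψ eX) (c := ψ cX) (Y := ψ yX)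
    ?_ ?_ ?_ ?_ ?_ ?_ ?_ ?_ ?_ ?_ ?_ ?_ ?_ ?_ ?_ ?_ ?_ ?_ ?_ ?_ ?_ ?_ ?_ ?_ ?_ ?_ ?_ ?_ ?_ ?_ ?_ ?_
  all_goals try simp only [← map_mul, ← map_inv]
  · rw [vsq 1 (by decide), map_one]
  · rw [vsq 2 (by decide), map_one]
  · rw [vsq 4 (by decide), map_one]
  · rw [vsq 8 (by decide), map_one]
  · refine (hψ2 (y := 1) ?_).trans (map_one ψ)
    show E.D.φ e * E.D.φ e = 1
    rw [← map_mul, ee, map_one]
  · refine (hψ2 (y := 1) ?_).trans (map_one ψ)
    show E.D.φ c * E.D.φ c = 1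
    rw [← map_mul, cc, map_one]
  · exact hψ2 (E.D.A_comm (E.D.mem_A.2 ⟨1, rfl⟩) (E.D.mem_A.2 ⟨2, rfl⟩))
  · exact hψ2 (E.D.A_comm (E.D.mem_A.2 ⟨4, rfl⟩) (E.D.mem_A.2 ⟨8, rfl⟩))
  · rw [vmoved _ _ (by decide)] <;> decide
  · rw [vmoved _ _ (by decide)] <;> decide
  · rw [vmul 1 2 _ _ (by decide), vmoved _ _ (by decide)] <;> decide
  · rw [vmoved _ _ (by decide)] <;> decide
  · rw [vmoved _ _ (by decide)] <;> decide
  · rw [vmul 4 8 _ _ (by decide), vmoved _ _ (by decide)] <;> decide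
  · exact small e heX ee (by rw [hence]; exact hm6)
  · exact small c hcX cc (by rw [henc]; exact hmc)
  · rw [vmul 1 4 _ _ (by decide), vmoved _ _ (by decide)] <;> decide
  · rw [vmul 2 4 _ _ (by decide), vmoved _ _ (by decide)] <;> decide
  · rw [vmul 1 2 _ _ (by decide), vmul _ 4 _ _ (by decide), vmoved _ _ (by decide)] <;> decide
  · rw [vmul 1 8 _ _ (by decide), vmoved _ _ (by decide)] <;> decide
  · rw [vmul 4 8 _ _ (by decide), vmul 1 _ _ _ (by decide), vmoved _ _ (by decide)] <;> decide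
  · refine hψ2 ?_
    show L.y * E.D.el 1 * L.y⁻¹ = E.D.el 1 * E.D.el 2
    rw [L.conj, E.D.el_mul]; rfl
  · refine hψ2 ?_
    show L.y * E.D.el 2 * L.y⁻¹ = E.D.el 1
    rw [L.conj]; rfl
  · exact hψ2 (L.comm_el (v := 4) rfl)
  · exact hψ2 (L.comm_el (v := 8) rfl)
  · refine (hψ2 (y := 1) ?_).trans (map_one ψ)
    exact L.cube
  · refine hψ2 ?_
    show E.D.φ e * L.y * E.D.φ e = L.y⁻¹
    have hfe : (⟨fP 0, fP_mem 0⟩ : C0) = e := Subtype.ext (enc_inj (by
      rw [hence, hf0]; exact enc_fP 0))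
    have hi : (E.D.φ e)⁻¹ = E.D.φ e := inv_eq_of_mul_eq_one_right (by rw [← map_mul, ee, map_one])
    rw [← L.inv01, hfe, hi]
  · refine hψ2 ?_
    show E.D.φ e * E.D.φ (a0 1) = E.D.φ (a0 1) * E.D.φ e
    rw [← map_mul, ← map_mul]
    refine phiEq ?_
    simp only [Subgroup.coe_mul, enc_mul, hence, show enc (a0 1).1 = avN 1 from enc_av 1]
    exact h61
  · refine hψ2 ?_
    show E.D.φ e * E.D.φ (a0 4) = E.D.φ (a0 4) * E.D.φ e
    rw [← map_mul, ← map_mul]
    refine phiEq ?_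
    simp only [Subgroup.coe_mul, enc_mul, hence, show enc (a0 4).1 = avN 4 from enc_av 4]
    exact h64
  · refine hψ2 ?_
    show E.D.φ e * E.D.φ (a0 2) * E.D.φ e = E.D.el 1 * E.D.el 2
    rw [E.D.el_mul, Ctx.el, mul_assoc, ← map_mul, ← map_mul]
    refine phiEq ?_
    simp only [Subgroup.coe_mul, enc_mul, hence, show enc (a0 2).1 = avN 2 from enc_av 2]
    exact h62.trans (enc_av 3).symm
  · refine hψ2 ?_
    show E.D.φ e * E.D.φ (a0 8) * E.D.φ e = E.D.el 4 * E.D.el 8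
    rw [E.D.el_mul, Ctx.el, mul_assoc, ← map_mul, ← map_mul]
    refine phiEq ?_
    simp only [Subgroup.coe_mul, enc_mul, hence, show enc (a0 8).1 = avN 8 from enc_av 8]
    exact h68.trans (enc_av 12).symm
  · refine hψ2 ?_
    show E.D.φ c * E.D.φ (a0 1) * E.D.φ c = E.D.φ e
    rw [mul_assoc, ← map_mul, ← map_mul]
    refine phiEq ?_
    simp only [Subgroup.coe_mul, enc_mul, hence, henc, show enc (a0 1).1 = avN 1 from enc_av 1]
    exact hce


include L in
/-- The product of a lift and its conjugate by an exchange of pairs is an involution. -/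
theorem rel_two_four : (L.y * (E.D.φ ⟨cjP 1, cjP_mem 1⟩ * L.y * E.D.φ ⟨cjP 1, cjP_mem 1⟩)) *
    (L.y * (E.D.φ ⟨cjP 1, cjP_mem 1⟩ * L.y * E.D.φ ⟨cjP 1, cjP_mem 1⟩)) = 1 := by
  obtain ⟨k, ψ, hk, hψ, hr⟩ := L.exists_rep
  obtain ⟨⟨p, q, r, f, H⟩, -, -⟩ := L.edge_data ψ hk hψ hr
  have hc : L.cB * L.cB = 1 := Subtype.ext (by
    show E.D.φ _ * E.D.φ _ = 1
    rw [← map_mul, show (⟨cjP 1, cjP_mem 1⟩ : C0) * ⟨cjP 1, cjP_mem 1⟩ = 1 from Subtype.ext (cjP_sq 1), map_one])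
  refine congrArg Subtype.val (hψ (a₁ := L.yB * (L.cB * L.yB * L.cB) * (L.yB * (L.cB * L.yB * L.cB))) (a₂ := 1) ?_)
  simp only [map_mul, map_one]
  exact tri_rel (by rw [← map_mul, hc, map_one]) H.Yp H.Yq H.Yr H.Yfix H.cp H.cq H.cr

end Lift

end Cfsg.Agent.Spor.Yamaki
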