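import Cfsg.Agent.Lib.Spor.Yamaki.SevenData

/-!
The orbit of length seven: the seven translations form a plane of order two.
-/

set_option autoImplicit false
set_option maxRecDepth 100000
set_option Elab.async false
set_option linter.style.haveILetI false

universe u

namespace Cfsg.Agent.Spor.Yamaki

open Equiv Subgroup

/-- the exchange of the two forks on a translation -/
def sgm (v : Fin 64) : Fin 64 := if 32 ≤ v.val then ⟨(v.val ^^^ 16) % 64, Nat.mod_lt _ (by norm_num)⟩ else v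

/-- code of the exchange -/
def sw89N : ℕ := 0xba8976543210

theorem sgm_table : ((List.range 64).all fun v =>
    Nat.beq (mN (mN sw89N (avN v)) sw89N) (avN (if Nat.ble 32 v then (v ^^^ 16) % 64 else v))) = true := by
  decide +kernel

theorem sw89_facts : enc (swap (8 : Fin 12) 9) = sw89N ∧ cm sw89N tpN = true := by decide +kernel

/-- conjugation by the exchange -/
def forkTwist : C0 ≃* C0 where
  toFun x := ⟨swap 8 9 * x.1 * swap 8 9, mem_C0.2 ⟨by
    rw [map_mul, map_mul, (mem_C0.1 x.2).1, mul_one, Perm.sign_swap (by decide)]; decide, by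
    have hs : swap (8 : Fin 12) 9 * tp = tp * swap 8 9 := cm_iff.1 (by
      rw [sw89_facts.1, probe_enc.2.1]; exact sw89_facts.2)
    rw [mul_assoc _ (swap (8 : Fin 12) 9) tp, hs, ← mul_assoc, mul_assoc (swap 8 9) x.1, (mem_C0.1 x.2).2,
      ← mul_assoc, hs, mul_assoc tp, mul_assoc tp]⟩⟩
  invFun x := ⟨swap 8 9 * x.1 * swap 8 9, mem_C0.2 ⟨by
    rw [map_mul, map_mul, (mem_C0.1 x.2).1, mul_one, Perm.sign_swap (by decide)]; decide, by
    have hs : swap (8 : Fin 12) 9 * tp = tp * swap 8 9 := cm_iff.1 (by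
      rw [sw89_facts.1, probe_enc.2.1]; exact sw89_facts.2)
    rw [mul_assoc _ (swap (8 : Fin 12) 9) tp, hs, ← mul_assoc, mul_assoc (swap 8 9) x.1, (mem_C0.1 x.2).2,
      ← mul_assoc, hs, mul_assoc tp, mul_assoc tp]⟩⟩
  left_inv x := Subtype.ext (by simp [← mul_assoc, mul_assoc x.1])
  right_inv x := Subtype.ext (by simp [← mul_assoc, mul_assoc x.1])
  map_mul' x y := Subtype.ext (by simp [mul_assoc, swap_mul_self_mul])

theorem forkTwist_a0 (v : Fin 64) : forkTwist (a0 v) = a0 (sgm v) := by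
  refine Subtype.ext (enc_inj ?_)
  show enc (swap 8 9 * av v * swap 8 9) = enc (av (sgm v))
  have h := Nat.beq_eq.mp (List.all_eq_true.1 sgm_table v.val (List.mem_range.2 v.isLt))
  rw [enc_mul, enc_mul, sw89_facts.1, enc_av, enc_av, h]
  refine congrArg avN ?_
  unfold sgm
  by_cases h' : 32 ≤ v.val
  · rw [if_pos h', if_pos (Nat.ble_eq.mpr h')]
  · rw [if_neg h', if_neg (fun e => h' (Nat.ble_eq.mp e))]

theorem forkTwist_tp : forkTwist tp0 = tp0 := by
  rw [← a0_twentyone, forkTwist_a0]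
  rfl

attribute [local irreducible] mN enc tab avN slAt gN idxN moved

/-- the partner as a point -/
def prtF (p : Fin 64) : Fin 64 := ⟨prt p.val % 64, Nat.mod_lt _ (by norm_num)⟩

theorem six_facts' : ∀ p : Fin 64, p.val ∈ six6 → (prtF p).val ∈ six6 ∧ prt p.val = (prtF p).val ∧ prtF p ≠ p ∧
    prtF (prtF p) = p ∧ p.val ∈ seven7 ∧ p ≠ 21 := by decide +kernel

theorem seven_cases : ∀ p : Fin 64, p.val ∈ seven7 → p = 21 ∨ p.val ∈ six6 := by decide +kernel

theorem seven_list : ∀ p : Fin 64, p.val ∈ seven7 → p = 21 ∨ p = 2 ∨ p = 3 ∨ p = 8 ∨ p = 12 ∨ p = 32 ∨ p = 48 := by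
  decide +kernel

theorem six_list : ∀ p : Fin 64, p.val ∈ six6 → p = 2 ∨ p = 3 ∨ p = 8 ∨ p = 12 ∨ p = 32 ∨ p = 48 := by decide +kernel

/-- commuting with two gives commuting with the third -/
def Lin {G : Type*} [Mul G] (a b c : G) : Prop := ∀ x : G, x * a = a * x → x * b = b * x → x * c = c * x

/-- the orbit of length seven -/
structure Pre7 (G : Type u) [Group G] [Finite G] where
  D : Ctx G
  hO : ∀ v : Fin 64, D.O v ↔ v.val ∈ seven7

namespace Pre7

variable {G : Type u} [Group G] [Finite G] (E : Pre7 G)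

/-- a line -/
def TL (p q r : Fin 64) : Prop :=
  p.val ∈ seven7 ∧ q.val ∈ seven7 ∧ r.val ∈ seven7 ∧ p ≠ q ∧ p ≠ r ∧ q ≠ r ∧ Lin (E.D.el p) (E.D.el q) (E.D.el r)

theorem act_seven (h : normalizer (E.D.A : Set G)) (v : Fin 64) :
    (E.D.act h v).val ∈ seven7 ↔ v.val ∈ seven7 := by
  rw [← E.hO, ← E.hO, E.D.O_act]

theorem act_inv (h : normalizer (E.D.A : Set G)) (v : Fin 64) : E.D.act h⁻¹ (E.D.act h v) = v := by
  rw [← E.D.act_mul, inv_mul_cancel, E.D.act_one]

theorem act_inj (h : normalizer (E.D.A : Set G)) {v w : Fin 64} (e : E.D.act h v = E.D.act h w) : v = w := by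
  rw [← E.act_inv h v, e, E.act_inv]

theorem exists_one {p : Fin 64} (hp : p.val ∈ seven7) : ∃ h, E.D.act h 21 = p := by
  obtain ⟨g, hg⟩ := (E.hO p).2 hp
  obtain ⟨n, hn, he⟩ := E.D.fusion_A (d := E.D.α) (g := g) (E.D.el_alpha ▸ E.D.mem_A.2 ⟨21, rfl⟩)
    (hg ▸ E.D.mem_A.2 ⟨p, rfl⟩)
  exact ⟨⟨n, hn⟩, E.D.el_inj (by rw [Ctx.el_act, E.D.el_alpha]; exact he.trans hg)⟩

theorem lin_act (h : normalizer (E.D.A : Set G)) {p q r : Fin 64} (hl : Lin (E.D.el p) (E.D.el q) (E.D.el r)) :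
    Lin (E.D.el (E.D.act h p)) (E.D.el (E.D.act h q)) (E.D.el (E.D.act h r)) := by
  intro x hx hy
  rw [E.D.el_act] at hx hy ⊢
  have hkey : ∀ a : G, x * (h.1 * a * h.1⁻¹) = h.1 * a * h.1⁻¹ * x →
      h.1⁻¹ * x * h.1 * a = a * (h.1⁻¹ * x * h.1) := fun a ha => by
    calc h.1⁻¹ * x * h.1 * a = h.1⁻¹ * (x * (h.1 * a * h.1⁻¹)) * h.1 := by group
      _ = _ := by rw [ha]; group
  have h1 := hl _ (hkey _ hx) (hkey _ hy)
  calc x * (h.1 * E.D.el r * h.1⁻¹) = h.1 * (h.1⁻¹ * x * h.1 * E.D.el r) * h.1⁻¹ := by group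
    _ = _ := by rw [h1]; group

theorem tl_act (h : normalizer (E.D.A : Set G)) {p q r : Fin 64} (hl : E.TL p q r) :
    E.TL (E.D.act h p) (E.D.act h q) (E.D.act h r) :=
  ⟨(E.act_seven h p).2 hl.1, (E.act_seven h q).2 hl.2.1, (E.act_seven h r).2 hl.2.2.1,
    fun e => hl.2.2.2.1 (E.act_inj h e), fun e => hl.2.2.2.2.1 (E.act_inj h e),
    fun e => hl.2.2.2.2.2.1 (E.act_inj h e), E.lin_act h hl.2.2.2.2.2.2⟩

theorem lin_alpha {p : Fin 64} (hp : p.val ∈ six6) : Lin (E.D.el 21) (E.D.el p) (E.D.el (prtF p)) := by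
  intro x hx hy
  rw [E.D.el_alpha] at hx
  obtain ⟨c, rfl⟩ := E.D.exists_pre hx
  have hc : c.1 * av p = av p * c.1 := by
    rw [Ctx.el, ← map_mul, ← map_mul] at hy
    exact congrArg Subtype.val (E.D.inj hy)
  have htp : c.1 * tp = tp * c.1 := (mem_C0.1 c.2).2
  set f : Fin 64 := ⟨(p.val ^^^ prt p.val) % 64, Nat.mod_lt _ (by norm_num)⟩
  have hf : c.1 * av f = av f * c.1 := Equiv.ext fun i => by
    rw [Perm.mul_apply, Perm.mul_apply, pair_flip p hp, pair_flip p hp]
    have h1 : c.1 (av p i) = av p (c.1 i) := congrArg (fun g : P12 => g i) hc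
    have h2 : c.1 (tp i) = tp (c.1 i) := congrArg (fun g : P12 => g i) htp
    by_cases hi : av p i = i
    · rw [if_pos hi, if_pos (by rw [← h1, hi])]
    · rw [if_neg hi, if_neg (fun e => hi (c.1.injective (h1.trans e))), h2]
  have he : vx p f = prtF p := by
    have h : ∀ p : Fin 64, p.val ∈ six6 →
        vx p ⟨(p.val ^^^ prt p.val) % 64, Nat.mod_lt _ (by norm_num)⟩ = prtF p := by decide +kernel
    exact h p hp
  rw [← he, ← E.D.el_mul, Ctx.el, Ctx.el, ← map_mul, ← map_mul, ← map_mul]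
  refine congrArg E.D.φ (Subtype.ext ?_)
  show c.1 * (av p * av f) = av p * av f * c.1
  rw [← mul_assoc, hc, mul_assoc, hf, mul_assoc]

theorem lin_only {p r : Fin 64} (hp : p.val ∈ six6) (hr : r.val ∈ seven7)
    (hl : Lin (E.D.el 21) (E.D.el p) (E.D.el r)) : r = 21 ∨ r = p ∨ r = prtF p := by
  have h := List.all_eq_true.1 (List.all_eq_true.1 line_witness _ hp) _ hr
  simp only [Bool.or_eq_true, Nat.beq_eq, List.any_eq_true, Bool.and_eq_true, Bool.not_eq_true'] at h
  rcases h with ((h | h) | h) | ⟨a, ha, h1, h2⟩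
  · exact Or.inl (Fin.ext h)
  · exact Or.inr (Or.inl (Fin.ext h))
  · exact Or.inr (Or.inr (Fin.ext (h.trans (six_facts' p hp).2.1)))
  exfalso
  obtain ⟨x, hx, rfl⟩ := exists_of_mem_SL ha
  rw [← enc_av] at h1 h2
  have h3 := hl (E.D.φ ⟨x, S0_le hx⟩) (by rw [E.D.el_alpha]; exact E.D.comm _) (by
    rw [Ctx.el, ← map_mul, ← map_mul]
    exact congrArg E.D.φ (Subtype.ext (cm_iff.1 h1)))
  rw [Ctx.el, ← map_mul, ← map_mul] at h3
  rw [(cm_iff (p := x) (q := av r)).2 (congrArg Subtype.val (E.D.inj h3))] at h2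
  exact Bool.noConfusion h2

/-- moving a line to the fixed point -/
theorem pull {p q : Fin 64} (hp : p.val ∈ seven7) (hq : q.val ∈ seven7) (hne : p ≠ q) :
    ∃ (h : normalizer (E.D.A : Set G)) (q0 : Fin 64), q0.val ∈ six6 ∧ E.D.act h 21 = p ∧ E.D.act h q0 = q := by
  obtain ⟨h, h21⟩ := E.exists_one hp
  refine ⟨h, E.D.act h⁻¹ q, ?_, h21, ?_⟩
  · rcases seven_cases _ ((E.act_seven h⁻¹ q).2 hq) with e | e
    · refine absurd ?_ hne
      rw [← h21, ← e, ← E.D.act_mul, mul_inv_cancel, E.D.act_one]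
    · exact e
  · rw [← E.D.act_mul, mul_inv_cancel, E.D.act_one]

theorem exists_line {p q : Fin 64} (hp : p.val ∈ seven7) (hq : q.val ∈ seven7) (hne : p ≠ q) :
    ∃ r, E.TL p q r := by
  obtain ⟨h, q0, hq0, h21, hh⟩ := E.pull hp hq hne
  obtain ⟨h1, -, h3, -, h5, h6⟩ := six_facts' q0 hq0
  have ht : E.TL 21 q0 (prtF q0) :=
    ⟨by decide, h5, (six_facts' _ h1).2.2.2.2.1, h6.symm, (six_facts' _ h1).2.2.2.2.2.symm, h3.symm,
      E.lin_alpha hq0⟩
  exact ⟨_, h21 ▸ hh ▸ E.tl_act h ht⟩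

theorem line_unique {p q r r' : Fin 64} (h : E.TL p q r) (h' : E.TL p q r') : r = r' := by
  obtain ⟨g, q0, hq0, g21, gq⟩ := E.pull h.1 h.2.1 h.2.2.2.1
  have key : ∀ r, E.TL p q r → r = E.D.act g (prtF q0) := fun r hr => by
    have ht := E.tl_act g⁻¹ hr
    rw [← g21, ← gq, E.act_inv, E.act_inv] at ht
    rcases E.lin_only hq0 ht.2.2.1 ht.2.2.2.2.2.2 with e | e | e
    · exact absurd e.symm ht.2.2.2.2.1
    · exact absurd e.symm ht.2.2.2.2.2.1
    · rw [← e, ← E.D.act_mul, mul_inv_cancel, E.D.act_one]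
  rw [key r h, key r' h']

theorem line_swap {p q r : Fin 64} (h : E.TL p q r) : E.TL q p r :=
  ⟨h.2.1, h.1, h.2.2.1, h.2.2.2.1.symm, h.2.2.2.2.2.1, h.2.2.2.2.1, fun x hx hy => h.2.2.2.2.2.2 x hy hx⟩

theorem line_rot {p q r : Fin 64} (h : E.TL p q r) : E.TL p r q := by
  obtain ⟨g, q0, hq0, g21, gq⟩ := E.pull h.1 h.2.1 h.2.2.2.1
  obtain ⟨h1, -, -, h4, -, -⟩ := six_facts' q0 hq0
  have ht := E.tl_act g⁻¹ h
  rw [← g21, ← gq, E.act_inv, E.act_inv] at ht
  have hr : E.D.act g⁻¹ r = prtF q0 := by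
    rcases E.lin_only hq0 ht.2.2.1 ht.2.2.2.2.2.2 with e | e | e
    · exact absurd e.symm ht.2.2.2.2.1
    · exact absurd e.symm ht.2.2.2.2.2.1
    · exact e
  have hl := E.lin_alpha h1
  rw [h4] at hl
  have := E.lin_act g hl
  rw [g21, gq, ← hr, ← E.D.act_mul, mul_inv_cancel, E.D.act_one] at this
  exact ⟨h.1, h.2.2.1, h.2.1, h.2.2.2.2.1, h.2.2.2.1, h.2.2.2.2.2.1.symm, this⟩

theorem line_alpha {p : Fin 64} (hp : p.val ∈ six6) : E.TL 21 p (prtF p) := by
  obtain ⟨h1, -, h3, -, h5, h6⟩ := six_facts' p hp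
  exact ⟨by decide, h5, (six_facts' _ h1).2.2.2.2.1, h6.symm, (six_facts' _ h1).2.2.2.2.2.symm, h3.symm,
    E.lin_alpha hp⟩

theorem line_two_eight {r : Fin 64} (h : E.TL 2 8 r) : r = 32 ∨ r = 48 := by
  rcases seven_list r h.2.2.1 with e | e | e | e | e | e | e <;> subst e
  · exact absurd (E.line_unique (E.line_swap (E.line_rot h)) (E.line_alpha (p := 2) (by decide))) (by decide)
  · exact absurd rfl h.2.2.2.2.1
  · exact absurd (E.line_unique (E.line_rot h) (E.line_rot (E.line_swap (E.line_alpha (p := 2) (by decide)))))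
      (by decide)
  · exact absurd rfl h.2.2.2.2.2.1
  · exact absurd (E.line_unique (E.line_rot (E.line_swap h))
      (E.line_rot (E.line_swap (E.line_alpha (p := 8) (by decide))))) (by decide)
  · exact Or.inl rfl
  · exact Or.inr rfl

end Pre7

/-- the orbit of length seven with a fixed fork -/
structure Data7 (G : Type u) [Group G] [Finite G] extends Pre7 G where
  line : toPre7.TL 2 8 48

theorem Pre7.normalise {G : Type u} [Group G] [Finite G] (E : Pre7 G) :
    ∃ E' : Data7 G, E'.D.α = E.D.α := by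
  obtain ⟨r, hr⟩ := E.exists_line (p := 2) (q := 8) (by decide) (by decide) (by decide)
  rcases E.line_two_eight hr with rfl | rfl
  · have hel : ∀ v, (E.D.twist forkTwist forkTwist_tp).el v = E.D.el (sgm v) := fun v => by
      show E.D.φ (forkTwist (a0 v)) = _
      rw [forkTwist_a0]
      rfl
    have hO : ∀ v : Fin 64, (E.D.twist forkTwist forkTwist_tp).O v ↔ v.val ∈ seven7 := fun v => by
      show (∃ g : G, g * (E.D.twist forkTwist forkTwist_tp).α * g⁻¹ =
        (E.D.twist forkTwist forkTwist_tp).el v) ↔ _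
      rw [E.D.twist_α, hel]
      refine (E.hO (sgm v)).trans ?_
      revert v
      decide +kernel
    refine ⟨⟨⟨_, hO⟩, by decide, by decide, by decide, by decide, by decide, by decide, ?_⟩, E.D.twist_α forkTwist forkTwist_tp⟩
    show Lin ((E.D.twist forkTwist forkTwist_tp).el 2) ((E.D.twist forkTwist forkTwist_tp).el 8)
      ((E.D.twist forkTwist forkTwist_tp).el 48)
    rw [hel, hel, hel]
    exact hr.2.2.2.2.2.2
  · exact ⟨⟨E, hr⟩, rfl⟩

/-- words inside the model for the six -/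
def word1 (a : Fin 64) : List (Fin 4) :=
  if a = 3 then [0] else if a = 8 then [2] else if a = 12 then [2, 0] else if a = 32 then [3, 2] else
    if a = 48 then [3, 2, 0] else []

/-- words fixing two points -/
def word2 (b : Fin 64) : List (Fin 4) :=
  if b = 12 then [1] else if b = 32 then [2, 3] else if b = 48 then [2, 3, 1] else []

/-- folding the numerical action -/
def fFold (w : List (Fin 4)) (v : ℕ) : ℕ := w.foldr (fun i x => Ctx.fAct i.val x) v

theorem word1_table : ∀ a : Fin 64, a.val ∈ six6 → fFold (word1 a) 21 = 21 ∧ fFold (word1 a) 2 = a.val := by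
  decide +kernel

theorem word2_table : ∀ b : Fin 64, (b = 8 ∨ b = 12 ∨ b = 32 ∨ b = 48) →
    fFold (word2 b) 21 = 21 ∧ fFold (word2 b) 2 = 2 ∧ fFold (word2 b) 8 = b.val := by
  decide +kernel

namespace Data7

variable {G : Type u} [Group G] [Finite G] (E : Data7 G)

theorem act_word (w : List (Fin 4)) (v : Fin 64) :
    (E.D.act (w.map E.D.fG).prod v).val = fFold w v.val := by
  induction w with
  | nil => simp [E.D.act_one, fFold]
  | cons i w ih =>
    rw [List.map_cons, List.prod_cons, E.D.act_mul, E.D.fAct_eq, ih]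
    rfl

theorem exists_two {p q : Fin 64} (hp : p.val ∈ seven7) (hq : q.val ∈ seven7) (hne : p ≠ q) :
    ∃ h, E.D.act h 21 = p ∧ E.D.act h 2 = q := by
  obtain ⟨g, a, ha, g21, ga⟩ := E.toPre7.pull hp hq hne
  obtain ⟨w1, w2⟩ := word1_table a ha
  refine ⟨g * ((word1 a).map E.D.fG).prod, ?_, ?_⟩
  · rw [E.D.act_mul, show E.D.act ((word1 a).map E.D.fG).prod 21 = 21 from Fin.ext ((E.act_word _ _).trans w1)]
    exact g21
  · rw [E.D.act_mul, show E.D.act ((word1 a).map E.D.fG).prod 2 = a from Fin.ext ((E.act_word _ _).trans w2)]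
    exact ga

theorem exists_three {p q r : Fin 64} (hp : p.val ∈ seven7) (hq : q.val ∈ seven7) (hr : r.val ∈ seven7)
    (hne : p ≠ q) (hrp : r ≠ p) (hrq : r ≠ q) (hl : ¬ E.TL p q r) :
    ∃ h, E.D.act h 21 = p ∧ E.D.act h 2 = q ∧ E.D.act h 8 = r := by
  obtain ⟨g, g21, g2⟩ := E.exists_two hp hq hne
  have hb : E.D.act g (E.D.act g⁻¹ r) = r := by rw [← E.D.act_mul, mul_inv_cancel, E.D.act_one]
  set b := E.D.act g⁻¹ r
  have hcases : b = 8 ∨ b = 12 ∨ b = 32 ∨ b = 48 := by
    rcases seven_list b ((E.toPre7.act_seven _ r).2 hr) with e | e | e | e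
    · exact absurd (by rw [← hb, e, g21]) hrp
    · exact absurd (by rw [← hb, e, g2]) hrq
    · refine absurd ?_ hl
      have := E.toPre7.tl_act g (E.toPre7.line_alpha (p := 2) (by decide))
      rwa [g21, g2, show prtF 2 = b by rw [e]; decide, hb] at this
    · exact e.elim Or.inl fun e => Or.inr e
  obtain ⟨w1, w2, w3⟩ := word2_table b hcases
  refine ⟨g * ((word2 b).map E.D.fG).prod, ?_, ?_, ?_⟩
  · rw [E.D.act_mul, show E.D.act ((word2 b).map E.D.fG).prod 21 = 21 from Fin.ext ((E.act_word _ _).trans w1)]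
    exact g21
  · rw [E.D.act_mul, show E.D.act ((word2 b).map E.D.fG).prod 2 = 2 from Fin.ext ((E.act_word _ _).trans w2)]
    exact g2
  · rw [E.D.act_mul, show E.D.act ((word2 b).map E.D.fG).prod 8 = b from Fin.ext ((E.act_word _ _).trans w3)]
    exact hb

theorem lines : E.TL 2 12 32 ∧ E.TL 3 8 32 ∧ E.TL 3 12 48 := by
  have a2 := E.toPre7.line_alpha (p := 2) (by decide)
  have a8 := E.toPre7.line_alpha (p := 8) (by decide)
  have a32 := E.toPre7.line_alpha (p := 32) (by decide)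
  obtain ⟨r, hr⟩ := E.toPre7.exists_line (p := 2) (q := 12) (by decide) (by decide) (by decide)
  have h1 : r = 32 := by
    rcases seven_list r hr.2.2.1 with e | e | e | e | e | e | e <;> subst e
    · exact absurd (E.toPre7.line_unique (E.toPre7.line_swap (E.toPre7.line_rot hr)) a2) (by decide)
    · exact absurd rfl hr.2.2.2.2.1
    · exact absurd (E.toPre7.line_unique (E.toPre7.line_rot hr)
        (E.toPre7.line_rot (E.toPre7.line_swap a2))) (by decide)
    · exact absurd (E.toPre7.line_unique (E.toPre7.line_rot hr) E.line) (by decide)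
    · exact absurd rfl hr.2.2.2.2.2.1
    · rfl
    · exact absurd (E.toPre7.line_unique (E.toPre7.line_rot hr) (E.toPre7.line_rot E.line)) (by decide)
  subst h1
  obtain ⟨r, hr3⟩ := E.toPre7.exists_line (p := 3) (q := 8) (by decide) (by decide) (by decide)
  have h2 : r = 32 := by
    rcases seven_list r hr3.2.2.1 with e | e | e | e | e | e | e <;> subst e
    · exact absurd (E.toPre7.line_unique (E.toPre7.line_rot (E.toPre7.line_swap hr3))
        (E.toPre7.line_swap a8)) (by decide)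
    · exact absurd (E.toPre7.line_unique (E.toPre7.line_rot (E.toPre7.line_swap hr3))
        (E.toPre7.line_swap E.line)) (by decide)
    · exact absurd rfl hr3.2.2.2.2.1
    · exact absurd rfl hr3.2.2.2.2.2.1
    · exact absurd (E.toPre7.line_unique (E.toPre7.line_rot (E.toPre7.line_swap hr3))
        (E.toPre7.line_rot (E.toPre7.line_swap a8))) (by decide)
    · rfl
    · exact absurd (E.toPre7.line_unique (E.toPre7.line_rot (E.toPre7.line_swap hr3))
        (E.toPre7.line_rot (E.toPre7.line_swap E.line))) (by decide)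
  subst h2
  obtain ⟨r, hr4⟩ := E.toPre7.exists_line (p := 3) (q := 12) (by decide) (by decide) (by decide)
  have h3 : r = 48 := by
    rcases seven_list r hr4.2.2.1 with e | e | e | e | e | e | e <;> subst e
    · exact absurd (E.toPre7.line_unique (E.toPre7.line_rot hr4)
        (E.toPre7.line_swap (E.toPre7.line_rot a2))) (by decide)
    · exact absurd (E.toPre7.line_unique (E.toPre7.line_rot hr4)
        (E.toPre7.line_rot (E.toPre7.line_swap (E.toPre7.line_rot a2)))) (by decide)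
    · exact absurd rfl hr4.2.2.2.2.1
    · exact absurd (E.toPre7.line_unique (E.toPre7.line_rot hr4) hr3) (by decide)
    · exact absurd rfl hr4.2.2.2.2.2.1
    · exact absurd (E.toPre7.line_unique (E.toPre7.line_rot hr4) (E.toPre7.line_rot hr3)) (by decide)
    · rfl
  subst h3
  exact ⟨hr, hr3, hr4⟩

end Data7

end Cfsg.Agent.Spor.Yamaki
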