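import Cfsg.Agent.Lib.Spor.Yamaki.Lift

/-!
Kernel tables for the orbit of length seven.
-/

set_option autoImplicit false
set_option maxRecDepth 100000
set_option Elab.async false

namespace Cfsg.Agent.Spor.Yamaki

open Equiv

/-- the seven translations -/
def seven7 : List ℕ := [21, 2, 3, 8, 12, 32, 48]

/-- the six moving four points -/
def six6 : List ℕ := [2, 3, 8, 12, 32, 48]

/-- the partner of a translation moving four points -/
def prt (p : ℕ) : ℕ := if Nat.blt p 4 then p ^^^ 1 else if Nat.blt p 16 then p ^^^ 4 else p ^^^ 16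

theorem seven_mask : ∀ v : Fin 64, seven.testBit v.val = seven7.contains v.val := by decide +kernel

/-- codes of the fixed-point-free transvection kind -/
def tcN (a : ℕ) : Bool := Nat.beq (moved a) 4 && Nat.beq (moved (mN a tpN)) 12

theorem six_tc : (six6.all fun p => tcN (avN p)) = true := by decide +kernel

/-- all of them -/
def tl : List ℕ := [
    0x0198765432ab, 0x1098765432ba, 0x23987654ab10, 0x32987654ba10, 0x459876ab3210, 0x549876ba3210,
    0x6798ab543210, 0x7698ba543210, 0x89ab76543210, 0x98ba76543210, 0xba0176543289, 0xba1076543298,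
    0xba2376548910, 0xba3276549810, 0xba4576893210, 0xba5476983210, 0xba6789543210, 0xba7698543210,
    0xba9801543267, 0xba9810543276, 0xba9823546710, 0xba9832547610, 0xba9845673210, 0xba9854763210,
    0xba9876013245, 0xba9876103254, 0xba9876234510, 0xba9876325410, 0xba9876540123, 0xba9876541032]

theorem tl_complete : ((List.range 12).all fun a => (List.range 12).all fun b => (List.range 12).all fun c =>
    (List.range 12).all fun d =>
    !(Nat.blt a b && Nat.blt c d && Nat.blt a c && Nat.beq (mN (dbl a b c d) (dbl a b c d)) idN &&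
      cm (dbl a b c d) tpN && tcN (dbl a b c d)) || tl.contains (dbl a b c d)) = true := by decide +kernel

theorem line_witness : (six6.all fun p => seven7.all fun r =>
    Nat.beq r 21 || Nat.beq r p || Nat.beq r (prt p) || SL.any fun a => cm a (avN p) && !(cm a (avN r))) = true := by
  decide +kernel

theorem pair_flip : ∀ p : Fin 64, p.val ∈ six6 → ∀ i : Fin 12,
    av ⟨(p.val ^^^ prt p.val) % 64, Nat.mod_lt _ (by norm_num)⟩ i = if av p i = i then i else tp i := by decide +kernel

/-- the first translations of the nodes -/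
def a4P : P12 := swap 6 8 * swap 7 9

/-- the node varying -/
def a6P : P12 := swap 2 4 * swap 3 5

/-- the seed of the seventh node -/
def r0P : P12 := swap 0 10 * swap 1 11

/-- auxiliary conjugators -/
def kP : List P12 :=
  [1, swap 4 6 * swap 5 7 * (swap 6 8 * swap 7 9), swap 4 5 * swap 8 9,
    swap 4 8 * swap 5 9 * (swap 6 10 * swap 7 11), swap 4 5 * swap 8 9 * (swap 4 8 * swap 5 9 * (swap 6 10 * swap 7 11))]

/-- their codes -/
def kN : List ℕ := [0xba9876543210, 0xba5498763210, 0xba8976453210, 0x7654ba983210, 0x7645ba893210]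

/-- code of the fourth node -/
def a4N : ℕ := 0xba7698543210

/-- code of the sixth node -/
def a6N : ℕ := 0xba9876325410

/-- code of the seed -/
def r0N : ℕ := 0x1098765432ba

theorem enc_seven : enc a4P = a4N ∧ enc a6P = a6N ∧ enc r0P = r0N ∧ kP.map enc = kN := by decide +kernel

/-- the braid condition -/
def brN (a b : ℕ) : Bool := Nat.beq (mN (mN (mN a b) (mN a b)) (mN a b)) idN

/-- conjugate by a translation -/
def cjA (v a : ℕ) : ℕ := mN (mN (avN v) a) (avN v)

theorem c0_table : (tl.all fun c => !(cm c (avN 2) && cm c (avN 3) &&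
    brN c (avN 8) && brN c (avN 12) && brN c (avN 32) && brN c (avN 48)) ||
    (List.range 64).any fun v => Nat.beq (cjA v c) a4N) = true := by decide +kernel

theorem c1_table : (tl.all fun c => !(cm c (avN 8) && cm c (avN 12) && brN c (avN 2) && brN c (avN 3)) ||
    [0, 8, 48, 56].any fun v => cm c (cjA v a4N)) = true := by decide +kernel

theorem node_facts : (tcN a4N && tcN a6N && tcN r0N && Nat.beq (mN a4N a4N) idN && Nat.beq (mN a6N a6N) idN &&
    Nat.beq (mN r0N r0N) idN && cm a4N tpN && cm a6N tpN && cm r0N tpN &&
    brN r0N (avN 2) && cm r0N (avN 8) && cm r0N (avN 12) && cm r0N a4N && brN r0N (avN 32) &&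
    cm a4N (avN 2) && cm a4N (avN 3) && brN a4N (avN 8) && brN a4N (avN 12) && brN a4N (avN 32) && brN a4N (avN 48) &&
    cm a6N (avN 32) && cm a6N (avN 48) && brN a6N (avN 2) && brN a6N (avN 3) && brN a6N (avN 8) &&
    brN a6N (avN 12)) = true := by decide +kernel

theorem six_facts : ([0, 2, 3, 1].all fun v => let a := cjA v a6N
    cm a tpN && brN a (avN 2) && brN a (avN 8) && cm a a4N && cm a (avN 32) && cm a (avN 48)) = true := by
  decide +kernel

theorem conj_eight : (tl.all fun c => !(cm c (avN 1)) || Nat.beq c (avN 2) || Nat.beq c (avN 3) ||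
    kN.any fun k => (List.range 64).any fun y =>
      let g := mN k (avN y)
      cm g tpN && cm g (avN 1) && Nat.beq (mN g c) (mN (avN 8) g)) = true := by decide +kernel

theorem model_pairs : (six6.all fun a => six6.all fun b => Nat.beq a b || Nat.beq (prt a) b ||
    tl.all fun c => !(cm c (avN (a ^^^ b))) || six6.any fun q => Nat.beq c (avN q)) = true := by decide +kernel

/-- the classes told apart -/
def clN (v : ℕ) : ℕ :=
  if seven7.contains v then 0 else
    if seven7.any (fun p => seven7.any fun q => !(Nat.beq p q) && Nat.beq (p ^^^ q) v) then 1 else 2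

theorem two_types : ((List.range 64).all fun v => Nat.beq v 0 || seven7.contains v ||
    seven7.any fun p => seven7.any fun q => !(Nat.beq (clN (v ^^^ p)) (clN (v ^^^ q)))) = true := by decide +kernel

/-- spans -/
def spanN (l : List ℕ) : List ℕ := l.foldl (fun acc a => acc ++ acc.map (fun b => b ^^^ a)) [0]

theorem span_hit : ([2, 3].all fun s => six6.all fun a => six6.all fun b => six6.all fun c => six6.all fun d =>
    Nat.beq a 8 || Nat.beq b 12 || Nat.beq c 32 || Nat.beq d 48 ||
      (spanN [1, 21 ^^^ s, 8 ^^^ a, 12 ^^^ b, 32 ^^^ c, 48 ^^^ d]).any fun x => seven7.contains x) = true := by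
  decide +kernel

end Cfsg.Agent.Spor.Yamaki
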