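import Cfsg.Agent.Lib.Spor.Yamaki.SevenData

/-!
Words in the six nodes inside the model, for generation of the model.
-/

set_option autoImplicit false
set_option maxRecDepth 100000
set_option Elab.async false

namespace Cfsg.Agent.Spor.Yamaki

open Equiv

/-- the possible translations varying the sixth node -/
def varV : List ℕ := [0, 2, 3, 1]

/-- codes of the six nodes -/
def nodeN (v : ℕ) : List ℕ := [avN 48, avN 32, a4N, avN 8, cjA v a6N, avN 2]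

/-- words for the Sylow generators and three elements of odd order -/
def nodeW : List (List (List ℕ)) := [
    [[4, 3, 2, 0, 1, 2, 3, 4, 5, 4, 3, 2, 0, 1, 2, 3, 4, 5],
     [5],
     [2, 0, 1, 2, 3, 2, 0, 1, 2, 3],
     [3],
     [0, 1],
     [1],
     [3, 2, 0, 1, 2, 3, 5, 4, 3, 2, 0, 1, 2, 3, 4, 5],
     [0, 1, 3, 2, 0, 1, 2, 3],
     [4, 3, 5, 4],
     [5, 4, 3, 2],
     [5, 4],
     [2, 1]],
    [[4, 3, 2, 0, 1, 2, 3, 4, 5, 4, 3, 2, 0, 1, 2, 3, 4, 5],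
     [5],
     [2, 0, 1, 2, 3, 2, 0, 1, 2, 3],
     [3],
     [0, 1],
     [1],
     [3, 2, 0, 1, 2, 3, 4, 3, 2, 0, 1, 2, 3, 4],
     [0, 1, 3, 2, 0, 1, 2, 3],
     [3, 4, 3, 5, 4, 3],
     [4, 3, 2, 5],
     [4, 5],
     [2, 1]],
    [[4, 3, 2, 0, 1, 2, 3, 4, 5, 4, 3, 2, 0, 1, 2, 3, 4, 5],
     [5],
     [2, 0, 1, 2, 3, 2, 0, 1, 2, 3],
     [3],
     [0, 1],
     [1],
     [3, 2, 0, 1, 2, 3, 4, 3, 2, 0, 1, 2, 3, 4],
     [0, 1, 3, 2, 0, 1, 2, 3],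
     [2, 0, 1, 2, 3, 2, 0, 1, 2, 4, 3, 2, 0, 1, 2, 5, 4, 3, 2, 0, 1, 2],
     [3, 2, 0, 1, 2, 3, 4, 3, 2, 0, 1, 5],
     [3, 2, 0, 1, 2, 3, 4, 3, 2, 0, 1, 2, 3, 5],
     [2, 1]],
    [[4, 3, 2, 0, 1, 2, 3, 4, 5, 4, 3, 2, 0, 1, 2, 3, 4, 5],
     [5],
     [2, 0, 1, 2, 3, 2, 0, 1, 2, 3],
     [3],
     [0, 1],
     [1],
     [3, 2, 0, 1, 2, 3, 5, 4, 3, 2, 0, 1, 2, 3, 4, 5],
     [0, 1, 3, 2, 0, 1, 2, 3],
     [2, 0, 1, 2, 3, 2, 0, 1, 2, 3, 4, 3, 2, 0, 1, 2, 5, 4, 3, 2, 0, 1, 2, 3],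
     [3, 2, 0, 1, 2, 3, 5, 4, 3, 2, 0, 1],
     [3, 2, 0, 1, 2, 3, 5, 4, 3, 2, 0, 1, 2, 3],
     [2, 1]]]

/-- powers of codes -/
def powN (a : ℕ) : ℕ → ℕ
  | 0 => idN
  | k + 1 => mN (powN a k) a

/-- evaluation of a word -/
def wordN (v : ℕ) (w : List ℕ) : ℕ := w.foldl (fun acc i => mN acc ((nodeN v).getD i 0)) idN

/-- elements of orders five, three and three -/
def oddP : List P12 :=
  [swap 0 2 * swap 1 3 * (swap 2 4 * swap 3 5) * (swap 4 6 * swap 5 7 * (swap 6 8 * swap 7 9)),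
    swap 0 2 * swap 1 3 * (swap 2 4 * swap 3 5), swap 6 8 * swap 7 9 * (swap 8 10 * swap 9 11)]

/-- their codes -/
def oddN : List ℕ := [0xba1098765432, 0xba9876105432, 0x76ba98543210]

theorem odd_enc : oddP.map enc = oddN := by decide +kernel

theorem node_words : ((List.range 4).all fun k => (List.range 12).all fun i =>
    Nat.beq (wordN (varV.getD k 0) ((nodeW.getD k []).getD i []))
      (if Nat.blt i 9 then gL.getD i 0 else oddN.getD (i - 9) 0)) = true := by decide +kernel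

theorem odd_orders : (Nat.beq (powN (oddN.getD 0 0) 5) idN && !(Nat.beq (oddN.getD 0 0) idN) &&
    Nat.beq (powN (oddN.getD 1 0) 3) idN && Nat.beq (powN (oddN.getD 2 0) 3) idN &&
    cm (oddN.getD 1 0) (oddN.getD 2 0) &&
    (List.range 9).all fun i => Nat.beq i 0 ||
      !(Nat.beq (mN (powN (oddN.getD 1 0) (i % 3)) (powN (oddN.getD 2 0) (i / 3))) idN)) = true := by decide +kernel

theorem node_rel : ((List.range 4).all fun k => (List.finRange 6).all fun i => (List.finRange 6).all fun j =>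
    Nat.beq (powN (mN ((nodeN (varV.getD k 0)).getD i.val 0) ((nodeN (varV.getD k 0)).getD j.val 0))
      ((CoxeterMatrix.E₇).M i.succ j.succ)) idN) = true := by decide +kernel

theorem node_zero : ((List.finRange 6).map fun j => (CoxeterMatrix.E₇).M 0 j.succ) = [2, 3, 2, 2, 2, 2] ∧
    ((List.finRange 6).map fun j => (CoxeterMatrix.E₇).M j.succ 0) = [2, 3, 2, 2, 2, 2] := by decide +kernel

end Cfsg.Agent.Spor.Yamaki
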