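import Cfsg.Agent.Lib.Spor.Yamaki.Seven
import Cfsg.Agent.Lib.Spor.Yamaki.SevenNodes

/-!
Seven elements satisfying the relations of type E7 for the orbit of length seven.
-/

set_option autoImplicit false
set_option maxRecDepth 100000
set_option Elab.async false
set_option linter.style.haveILetI false

universe u

namespace Cfsg.Agent.Spor.Yamaki

open Equiv Subgroup

attribute [local irreducible] mN enc tab avN slAt gN idxN moved

/-- An element of order three in the product makes two involutions conjugate. -/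
theorem conj_of_braid {H : Type*} [Group H] {a b : H} (ha : a * a = 1) (hb : b * b = 1) (h : (a * b) ^ 3 = 1) :
    a * b * a * (a * b)⁻¹ = b := by
  rw [mul_inv_rev, inv_eq_of_mul_eq_one_right ha, inv_eq_of_mul_eq_one_right hb]
  rw [pow_succ, pow_two] at h
  have h1 : a * b * a * (b * a) = b⁻¹ := by
    refine eq_inv_of_mul_eq_one_left ?_
    rw [← h]
    group
  rw [h1, inv_eq_of_mul_eq_one_right hb]

theorem pow_flip {H : Type*} [Group H] {a b : H} {k : ℕ} (h : (a * b) ^ k = 1) : (b * a) ^ k = 1 := by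
  rw [show b * a = b * (a * b) * b⁻¹ by group, conj_pow, h, mul_one, mul_inv_cancel]

theorem pow_enc (x : C0) : ∀ k : ℕ, enc (x ^ k : C0).1 = powN (enc x.1) k
  | 0 => by rw [pow_zero, powN, Subgroup.coe_one, enc_one]
  | k + 1 => by rw [pow_succ, powN, ← pow_enc x k, Subgroup.coe_mul, enc_mul]

theorem mem_of_code {p : P12} (hs : Perm.sign p = 1) (hc : cm (enc p) tpN = true) : p ∈ C0 :=
  mem_C0.2 ⟨hs, cm_iff.1 (by rw [probe_enc.2.1]; exact hc)⟩

theorem node_codes : cm a4N tpN = true ∧ cm a6N tpN = true ∧ cm r0N tpN = true := by decide +kernel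

/-- the fourth node -/
def a4C : C0 := ⟨a4P, mem_of_code (by simp [a4P]) (enc_seven.1 ▸ node_codes.1)⟩

/-- the sixth node before variation -/
def a6C : C0 := ⟨a6P, mem_of_code (by simp [a6P]) (enc_seven.2.1 ▸ node_codes.2.1)⟩

/-- the seed of the first node -/
def r0C : C0 := ⟨r0P, mem_of_code (by simp [r0P]) (enc_seven.2.2.1 ▸ node_codes.2.2)⟩

theorem enc_a0 (v : Fin 64) : enc (a0 v).1 = avN v.val := enc_av v

theorem enc_cjA (v : Fin 64) (c : C0) : enc (a0 v * c * a0 v : C0).1 = cjA v.val (enc c.1) := by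
  rw [Subgroup.coe_mul, Subgroup.coe_mul, enc_mul, enc_mul, enc_a0]
  rfl

theorem a0_sq (v : Fin 64) : a0 v * a0 v = 1 := Subtype.ext (av_sq v)

namespace Ctx

variable {G : Type u} [Group G] (D : Ctx G)

/-- conjugate to the central involution -/
def IsT (x : G) : Prop := ∃ g : G, g * D.α * g⁻¹ = x

theorem isT_conj {x : G} (h : D.IsT x) (g : G) : D.IsT (g * x * g⁻¹) := by
  obtain ⟨a, rfl⟩ := h
  exact ⟨g * a, by group⟩

theorem isT_sq {x : G} (h : D.IsT x) : x * x = 1 := by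
  obtain ⟨a, rfl⟩ := h
  rw [conj_mul, D.alpha_sq, mul_one, mul_inv_cancel]

theorem isT_braid {x y : G} (h : D.IsT x) (hy : y * y = 1) (hb : (x * y) ^ 3 = 1) : D.IsT y := by
  have := D.isT_conj h (x * y)
  rwa [conj_of_braid (D.isT_sq h) hy hb] at this

theorem g_comm {a b : C0} : cm (enc a.1) (enc b.1) = true ↔ D.φ a * D.φ b = D.φ b * D.φ a := by
  rw [cm_iff, ← map_mul, ← map_mul]
  exact ⟨fun h => congrArg D.φ (Subtype.ext h), fun h => congrArg Subtype.val (D.inj h)⟩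

theorem g_pow {a b : C0} {k : ℕ} : Nat.beq (powN (mN (enc a.1) (enc b.1)) k) idN = true ↔
    (D.φ a * D.φ b) ^ k = 1 := by
  rw [← map_mul, ← map_pow, Nat.beq_eq, ← enc_mul, ← Subgroup.coe_mul, ← pow_enc, ← enc_one]
  exact ⟨fun h => by rw [show (a * b) ^ k = 1 from Subtype.ext (enc_inj h), map_one],
    fun h => by rw [show (a * b) ^ k = 1 from D.inj (h.trans D.φ.map_one.symm)]; rfl⟩

theorem g_braid {a b : C0} : brN (enc a.1) (enc b.1) = true ↔ (D.φ a * D.φ b) ^ 3 = 1 := by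
  have h : brN (enc a.1) (enc b.1) = Nat.beq (powN (mN (enc a.1) (enc b.1)) 3) idN := by
    have h1 : powN (mN (enc a.1) (enc b.1)) 1 = mN (enc a.1) (enc b.1) := by
      rw [← enc_mul, ← Subgroup.coe_mul, ← pow_enc, pow_one]
    show Nat.beq _ idN = Nat.beq (mN (mN (powN (mN (enc a.1) (enc b.1)) 1) _) _) idN
    rw [h1]
  rw [h]
  exact D.g_pow

theorem el_sq (v : Fin 64) : D.el v * D.el v = 1 := by rw [Ctx.el, ← map_mul, a0_sq, map_one]

theorem phi_twentyone : D.φ (a0 21) = D.α := D.el_alpha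

end Ctx

namespace Data7

variable {G : Type u} [Group G] [Finite G] (E : Data7 G)

theorem isT_el (v : Fin 64) : E.D.IsT (E.D.el v) ↔ v.val ∈ seven7 := E.hO v

theorem T_C0 {c : C0} (h : E.D.IsT (E.D.φ c)) :
    c = tp0 ∨ (enc c.1 ∈ tl ∧ ∃ (d : C0) (v : Fin 64), v.val ∈ six6 ∧ d * c * d⁻¹ = a0 v) := by
  have h2 : c * c = 1 := E.D.inj (by rw [map_mul, map_one]; exact E.D.isT_sq h)
  obtain ⟨d, v, hv⟩ := conj_into_A0 h2
  have hv' : d * c * d⁻¹ = a0 v := Subtype.ext hv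
  have hT : v.val ∈ seven7 := (E.isT_el v).1 (by
    rw [Ctx.el, ← hv', map_mul, map_mul, map_inv]
    exact E.D.isT_conj h _)
  rcases seven_cases v hT with rfl | hv6
  · left
    rw [show c = d⁻¹ * (d * c * d⁻¹) * d by group, hv', a0_twentyone, mul_assoc, ← tp0_comm, ← mul_assoc,
      inv_mul_cancel, one_mul]
  · right
    have htc := List.all_eq_true.1 six_tc _ hv6
    rw [tcN, ← enc_a0, ← probe_enc.2.1, ← enc_mul, Bool.and_eq_true, Nat.beq_eq, Nat.beq_eq, moved_enc,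
      moved_enc] at htc
    have hconj : ∀ x : C0, (d * x * d⁻¹).1.support.card = x.1.support.card := fun x => by
      rw [Subgroup.coe_mul, Subgroup.coe_mul, Subgroup.coe_inv, Perm.card_support_conj]
    have h4 : c.1.support.card = 4 := by rw [← hconj, hv']; exact htc.1
    have h12 : (c.1 * tp).support.card = 12 := by
      rw [show c.1 * tp = (c * tp0 : C0).1 from rfl, ← hconj,
        show d * (c * tp0) * d⁻¹ = d * c * d⁻¹ * (d * tp0 * d⁻¹) by group,
        show d * tp0 * d⁻¹ = tp0 by rw [tp0_comm, mul_inv_cancel_right], hv']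
      exact htc.2
    refine ⟨?_, d, v, hv6, hv'⟩
    obtain ⟨a, b, c', d', hab, hcd, hac, he⟩ := dbl_of_moved (congrArg Subtype.val h2) h4
    have ht := List.all_eq_true.1 (List.all_eq_true.1 (List.all_eq_true.1 (List.all_eq_true.1 tl_complete
      a.val (List.mem_range.2 a.isLt)) b.val (List.mem_range.2 b.isLt)) c'.val (List.mem_range.2 c'.isLt))
      d'.val (List.mem_range.2 d'.isLt)
    rw [← he, show Nat.blt a.val b.val = true from Nat.ble_eq.mpr hab,
      show Nat.blt c'.val d'.val = true from Nat.ble_eq.mpr hcd,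
      show Nat.blt a.val c'.val = true from Nat.ble_eq.mpr hac, ← enc_mul,
      show c.1 * c.1 = 1 from congrArg Subtype.val h2, enc_one, tcN, ← probe_enc.2.1, ← enc_mul,
      moved_enc, moved_enc, h4, h12, cm_iff.2 (mem_C0.1 c.2).2] at ht
    simpa [List.contains_iff_mem] using ht

theorem act_line (h : normalizer (E.D.A : Set G)) {p q r P Q R : Fin 64} (hl : E.TL p q r)
    (hp : E.D.act h p = P) (hq : E.D.act h q = Q) (hL : E.TL P Q R) : E.D.act h r = R := by
  have := E.toPre7.tl_act h hl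
  rw [hp, hq] at this
  exact E.toPre7.line_unique this hL

/-- pulling back an element -/
theorem pull_T (h : normalizer (E.D.A : Set G)) {a : G} (ha : E.D.IsT a)
    (hc : a * E.D.el (E.D.act h 21) = E.D.el (E.D.act h 21) * a) :
    ∃ x : C0, E.D.φ x = h.1⁻¹ * a * h.1 ∧ E.D.IsT (E.D.φ x) ∧
      (∀ v, E.D.φ x * E.D.el v = E.D.el v * E.D.φ x ↔
        a * E.D.el (E.D.act h v) = E.D.el (E.D.act h v) * a) ∧
      ∀ v, (E.D.φ x * E.D.el v) ^ 3 = 1 ↔ (a * E.D.el (E.D.act h v)) ^ 3 = 1 := by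
  obtain ⟨x, hx⟩ := E.D.exists_pre (g := h.1⁻¹ * a * h.1) (by
    rw [E.D.el_act, E.D.el_alpha] at hc
    calc h.1⁻¹ * a * h.1 * E.D.α = h.1⁻¹ * (a * (h.1 * E.D.α * h.1⁻¹)) * h.1 := by group
      _ = _ := by rw [hc]; group)
  refine ⟨x, hx, by rw [hx]; simpa using E.D.isT_conj ha h.1⁻¹, fun v => ?_, fun v => ?_⟩
  · rw [hx, E.D.el_act]
    constructor <;> intro e
    · calc a * (h.1 * E.D.el v * h.1⁻¹) = h.1 * (h.1⁻¹ * a * h.1 * E.D.el v) * h.1⁻¹ := by group
        _ = _ := by rw [e]; group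
    · calc h.1⁻¹ * a * h.1 * E.D.el v = h.1⁻¹ * (a * (h.1 * E.D.el v * h.1⁻¹)) * h.1 := by group
        _ = _ := by rw [e]; group
  · rw [hx, show a * E.D.el (E.D.act h v) = h.1 * (h.1⁻¹ * a * h.1 * E.D.el v) * h.1⁻¹ by
      rw [E.D.el_act]; group, conj_pow, conj_eq_one_iff]

/-- the translations as normalising elements -/
def elN (v : Fin 64) : normalizer (E.D.A : Set G) :=
  ⟨E.D.el v, le_normalizer (E.D.mem_A.2 ⟨v, rfl⟩)⟩

theorem act_elN (v w : Fin 64) : E.D.act (E.elN v) w = w := by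
  refine E.D.el_inj ?_
  rw [E.D.el_act]
  show E.D.el v * E.D.el w * (E.D.el v)⁻¹ = _
  rw [E.D.A_comm (E.D.mem_A.2 ⟨v, rfl⟩) (E.D.mem_A.2 ⟨w, rfl⟩), mul_inv_cancel_right]

theorem isT_a4 : E.D.IsT (E.D.φ a4C) := by
  refine E.D.isT_braid ((E.isT_el 8).2 (by decide)) ?_ (pow_flip ?_)
  · rw [← map_mul, show a4C * a4C = 1 from Subtype.ext (enc_inj (by
      rw [Subgroup.coe_mul, enc_mul, show enc a4C.1 = a4N from enc_seven.1, Subgroup.coe_one, enc_one]
      decide +kernel)), map_one]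
  · refine E.D.g_braid.1 ?_
    rw [show enc a4C.1 = a4N from enc_seven.1, enc_a0]
    decide +kernel

/-- Correcting by a translation so that a given element corresponds to the fourth node. -/
theorem align (h : normalizer (E.D.A : Set G)) {a : G} (ha : E.D.IsT a)
    (hc : ∀ v : Fin 64, v = 21 ∨ v = 2 ∨ v = 3 → a * E.D.el (E.D.act h v) = E.D.el (E.D.act h v) * a)
    (hb : ∀ v : Fin 64, v = 8 ∨ v = 12 ∨ v = 32 ∨ v = 48 → (a * E.D.el (E.D.act h v)) ^ 3 = 1) :
    ∃ h' : normalizer (E.D.A : Set G), (∀ v, E.D.act h' v = E.D.act h v) ∧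
      h'.1 * E.D.φ a4C * h'.1⁻¹ = a := by
  obtain ⟨x, hx, hxT, hxc, hxb⟩ := E.pull_T h ha (hc 21 (Or.inl rfl))
  rcases E.T_C0 hxT with rfl | ⟨htl, -⟩
  · exfalso
    have h1 := (hxb 8).2 (hb 8 (Or.inl rfl))
    rw [Ctx.el, ← E.D.g_braid, enc_a0, show enc tp0.1 = tpN from probe_enc.2.1] at h1
    revert h1
    decide +kernel
  have ht := List.all_eq_true.1 c0_table _ htl
  have e2 : ∀ v : Fin 64, v = 21 ∨ v = 2 ∨ v = 3 → cm (enc x.1) (avN v.val) = true := fun v hv =>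
    enc_a0 v ▸ E.D.g_comm.2 ((hxc v).2 (hc v hv))
  have e3 : ∀ v : Fin 64, v = 8 ∨ v = 12 ∨ v = 32 ∨ v = 48 → brN (enc x.1) (avN v.val) = true := fun v hv =>
    enc_a0 v ▸ E.D.g_braid.2 ((hxb v).2 (hb v hv))
  rw [show cm (enc x.1) (avN 2) = true from e2 2 (by simp), show cm (enc x.1) (avN 3) = true from e2 3 (by simp),
    show brN (enc x.1) (avN 8) = true from e3 8 (by simp), show brN (enc x.1) (avN 12) = true from e3 12 (by simp),
    show brN (enc x.1) (avN 32) = true from e3 32 (by simp),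
    show brN (enc x.1) (avN 48) = true from e3 48 (by simp)] at ht
  simp only [Bool.and_self, Bool.not_true, Bool.false_or, List.any_eq_true, List.mem_range, Nat.beq_eq] at ht
  obtain ⟨v, hv, he⟩ := ht
  have he' : a0 ⟨v, hv⟩ * x * a0 ⟨v, hv⟩ = a4C := Subtype.ext (enc_inj (by
    rw [enc_cjA, he]; exact enc_seven.1.symm))
  refine ⟨h * E.elN ⟨v, hv⟩, fun w => by rw [E.D.act_mul, E.act_elN], ?_⟩
  rw [← he', map_mul, map_mul, hx, Subgroup.coe_mul]
  show h.1 * E.D.el ⟨v, hv⟩ * (E.D.el ⟨v, hv⟩ * (h.1⁻¹ * a * h.1) * E.D.el ⟨v, hv⟩) *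
    (h.1 * E.D.el ⟨v, hv⟩)⁻¹ = a
  have hsq := E.D.el_sq ⟨v, hv⟩
  simp only [mul_assoc, mul_inv_rev]
  simp only [← mul_assoc (E.D.el ⟨v, hv⟩) (E.D.el ⟨v, hv⟩), hsq, one_mul, mul_inv_cancel_left,
    mul_inv_cancel, mul_one]

/-- the six nodes in the model -/
def nodeC (v : Fin 64) : Fin 6 → C0 :=
  ![a0 48, a0 32, a4C, a0 8, a0 v * a6C * a0 v, a0 2]

theorem enc_nodeC (v : Fin 64) : ∀ j : Fin 6, enc (nodeC v j).1 = (nodeN v.val).getD j.val 0 := by
  intro j
  have e6 := enc_cjA v a6C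
  rw [show enc a6C.1 = a6N from enc_seven.2.1] at e6
  have e48 : enc (a0 48).1 = avN 48 := enc_a0 48
  have e32 : enc (a0 32).1 = avN 32 := enc_a0 32
  have e4 : enc a4C.1 = a4N := enc_seven.1
  have e8 : enc (a0 8).1 = avN 8 := enc_a0 8
  have e2 : enc (a0 2).1 = avN 2 := enc_a0 2
  rw [Subgroup.coe_mul, Subgroup.coe_mul] at e6
  fin_cases j <;> simp [nodeC, nodeN, e48, e32, e4, e8, e2, e6]

theorem exists_nodes : ∃ (v : Fin 64) (r : G), v.val ∈ varV ∧ E.D.IsT r ∧ r * E.D.el 2 = E.D.el 2 * r ∧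
    (r * E.D.α) ^ 3 = 1 ∧
    ∀ j : Fin 6, (r * E.D.φ (nodeC v j)) ^ ((CoxeterMatrix.E₇).M 0 j.succ) = 1 := by
  have a2 := E.toPre7.line_alpha (p := 2) (by decide)
  have a8 := E.toPre7.line_alpha (p := 8) (by decide)
  have a32 := E.toPre7.line_alpha (p := 32) (by decide)
  have a48 := E.toPre7.line_alpha (p := 48) (by decide)
  obtain ⟨L1, L2, L3⟩ := E.lines
  have nr : brN r0N (avN 2) = true ∧ cm r0N (avN 8) = true ∧ cm r0N (avN 12) = true ∧ cm r0N a4N = true ∧
      brN r0N (avN 32) = true := by decide +kernel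
  obtain ⟨nr2, nr8, nr12, nr4, nr32⟩ := nr
  have n4 : cm a4N (avN 2) = true ∧ cm a4N (avN 3) = true ∧ brN a4N (avN 8) = true ∧ brN a4N (avN 12) = true ∧
      brN a4N (avN 32) = true ∧ brN a4N (avN 48) = true := by decide +kernel
  obtain ⟨n42, n43, n48, n412, n432, n448⟩ := n4
  have n6 : cm a6N (avN 32) = true ∧ cm a6N (avN 48) = true ∧ brN a6N (avN 2) = true ∧ brN a6N (avN 3) = true ∧
      brN a6N (avN 8) = true ∧ brN a6N (avN 12) = true := by decide +kernel
  obtain ⟨n632, n648, n62, n63, n68, n612⟩ := n6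
  have ea4 : enc a4C.1 = a4N := enc_seven.1
  have ea6 : enc a6C.1 = a6N := enc_seven.2.1
  have er0 : enc r0C.1 = r0N := enc_seven.2.2.1
  have gc : ∀ {c : C0} {n : ℕ} (v : Fin 64), enc c.1 = n → cm n (avN v.val) = true →
      E.D.φ c * E.D.el v = E.D.el v * E.D.φ c := fun v he h => E.D.g_comm.1 (by rw [he, enc_a0]; exact h)
  have gb : ∀ {c : C0} {n : ℕ} (v : Fin 64), enc c.1 = n → brN n (avN v.val) = true →
      (E.D.φ c * E.D.el v) ^ 3 = 1 := fun v he h => E.D.g_braid.1 (by rw [he, enc_a0]; exact h)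
  -- the model at the last node
  obtain ⟨h1, p21, p2, p8⟩ := E.exists_three (p := 2) (q := 21) (r := 8) (by decide) (by decide) (by decide)
    (by decide) (by decide) (by decide)
    (fun h => absurd (E.toPre7.line_unique (E.toPre7.line_swap h) a2) (by decide))
  have p3 : E.D.act h1 3 = 3 := E.act_line h1 a2 p21 p2 (E.toPre7.line_swap a2)
  have p12 : E.D.act h1 12 = 48 := E.act_line h1 a8 p21 p8 E.line
  have p48 : E.D.act h1 48 = 12 := E.act_line h1 E.line p2 p8 a8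
  have p32 : E.D.act h1 32 = 32 := E.act_line h1 (E.toPre7.line_rot a32) p21 p48 L1
  obtain ⟨g, gact, ga4⟩ := E.align h1 E.isT_a4
    (by
      rintro v (rfl | rfl | rfl)
      · rw [p21]; exact gc 2 ea4 n42
      · rw [p2, E.D.el_alpha]; exact E.D.comm _
      · rw [p3]; exact gc 3 ea4 n43)
    (by
      rintro v (rfl | rfl | rfl | rfl)
      · rw [p8]; exact gb 8 ea4 n48
      · rw [p12]; exact gb 48 ea4 n448
      · rw [p32]; exact gb 32 ea4 n432
      · rw [p48]; exact gb 12 ea4 n412)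
  set r := g.1 * E.D.φ r0C * g.1⁻¹ with hr
  have hel : ∀ v w : Fin 64, E.D.act h1 v = w → E.D.el w = g.1 * E.D.el v * g.1⁻¹ := fun v w h => by
    rw [← E.D.el_act, gact, h]
  have htr : ∀ (v : Fin 64) {k : ℕ}, (E.D.φ r0C * E.D.el v) ^ k = 1 → ∀ w, E.D.act h1 v = w →
      (r * E.D.el w) ^ k = 1 := fun v k h w hw => by
    rw [hel v w hw, hr, conj_mul, conj_pow, h, mul_one, mul_inv_cancel]
  have htc : ∀ (v : Fin 64), cm r0N (avN v.val) = true → ∀ w, E.D.act h1 v = w →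
      r * E.D.el w = E.D.el w * r := fun v h w hw => by
    rw [hel v w hw, hr, conj_mul, conj_mul, gc v er0 h]
  have hrT : E.D.IsT r := by
    refine E.D.isT_conj (E.D.isT_braid ((E.isT_el 2).2 (by decide)) ?_ (pow_flip (gb 2 er0 nr2))) _
    rw [← map_mul, show r0C * r0C = 1 from Subtype.ext (enc_inj (by
      rw [Subgroup.coe_mul, enc_mul, er0, Subgroup.coe_one, enc_one]; decide +kernel)), map_one]
  have rα : (r * E.D.α) ^ 3 = 1 := E.D.el_alpha ▸ htr 2 (gb 2 er0 nr2) 21 p2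
  have r2 : r * E.D.el 2 = E.D.el 2 * r := htc 21 (by decide +kernel) 2 p21
  have r8 : r * E.D.el 8 = E.D.el 8 * r := htc 8 nr8 8 p8
  have r48 : r * E.D.el 48 = E.D.el 48 * r := htc 12 nr12 48 p12
  have r32 : (r * E.D.el 32) ^ 3 = 1 := htr 32 (gb 32 er0 nr32) 32 p32
  have r4 : r * E.D.φ a4C = E.D.φ a4C * r := by
    have : E.D.φ r0C * E.D.φ a4C = E.D.φ a4C * E.D.φ r0C := E.D.g_comm.1 (by rw [er0, ea4]; exact nr4)
    calc r * E.D.φ a4C = g.1 * (E.D.φ r0C * E.D.φ a4C) * g.1⁻¹ := by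
          conv_lhs => rw [← ga4]
          rw [hr, conj_mul]
      _ = g.1 * E.D.φ a4C * g.1⁻¹ * r := by rw [this, hr, conj_mul]
      _ = _ := by rw [ga4]
  -- the model at the fork
  obtain ⟨h2, q21, q2, q8⟩ := E.exists_three (p := 48) (q := 21) (r := 2) (by decide) (by decide) (by decide)
    (by decide) (by decide) (by decide)
    (fun h => absurd (E.toPre7.line_unique (E.toPre7.line_swap h) a48) (by decide))
  have q3 : E.D.act h2 3 = 32 := E.act_line h2 a2 q21 q2 (E.toPre7.line_swap a48)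
  have q12 : E.D.act h2 12 = 8 := E.act_line h2 a8 q21 q8 (E.toPre7.line_swap (E.toPre7.line_rot E.line))
  have q48 : E.D.act h2 48 = 3 := E.act_line h2 E.line q2 q8 a2
  have q32 : E.D.act h2 32 = 12 := E.act_line h2 (E.toPre7.line_rot a32) q21 q48
    (E.toPre7.line_swap (E.toPre7.line_rot L3))
  have a6T : E.D.IsT (E.D.φ a6C) := by
    refine E.D.isT_braid ((E.isT_el 2).2 (by decide)) ?_ (pow_flip (gb 2 ea6 n62))
    rw [← map_mul, show a6C * a6C = 1 from Subtype.ext (enc_inj (by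
      rw [Subgroup.coe_mul, enc_mul, ea6, Subgroup.coe_one, enc_one]; decide +kernel)), map_one]
  obtain ⟨f, fact, fa4⟩ := E.align h2 a6T
    (by
      rintro v (rfl | rfl | rfl)
      · rw [q21]; exact gc 48 ea6 n648
      · rw [q2, E.D.el_alpha]; exact E.D.comm _
      · rw [q3]; exact gc 32 ea6 n632)
    (by
      rintro v (rfl | rfl | rfl | rfl)
      · rw [q8]; exact gb 2 ea6 n62
      · rw [q12]; exact gb 8 ea6 n68
      · rw [q32]; exact gb 12 ea6 n612
      · rw [q48]; exact gb 3 ea6 n63)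
  obtain ⟨x, hx, hxT, hxc, hxb⟩ := E.pull_T f hrT (by rw [fact, q21]; exact r48)
  have hxtl : enc x.1 ∈ tl := by
    rcases E.T_C0 hxT with rfl | ⟨h, -⟩
    · exfalso
      have h1 := (hxb 2).2 (by rw [fact, q2, E.D.el_alpha]; exact rα)
      rw [Ctx.el, ← E.D.g_braid, enc_a0, show enc tp0.1 = tpN from probe_enc.2.1] at h1
      revert h1
      decide +kernel
    · exact h
  have ht := List.all_eq_true.1 c1_table _ hxtl
  rw [show cm (enc x.1) (avN 8) = true from enc_a0 8 ▸ E.D.g_comm.2 ((hxc 8).2 (by rw [fact, q8]; exact r2)),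
    show cm (enc x.1) (avN 12) = true from enc_a0 12 ▸ E.D.g_comm.2 ((hxc 12).2 (by rw [fact, q12]; exact r8)),
    show brN (enc x.1) (avN 2) = true from
      enc_a0 2 ▸ E.D.g_braid.2 ((hxb 2).2 (by rw [fact, q2, E.D.el_alpha]; exact rα)),
    show brN (enc x.1) (avN 3) = true from
      enc_a0 3 ▸ E.D.g_braid.2 ((hxb 3).2 (by rw [fact, q3]; exact r32))] at ht
  simp only [Bool.and_self, Bool.not_true, Bool.false_or, List.any_eq_true] at ht
  obtain ⟨v', hv', hcm⟩ := ht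
  obtain ⟨vf, hvf, hvv⟩ : ∃ vf : Fin 64, vf.val = v' ∧ (E.D.act h2 vf).val ∈ varV := by
    have e56 : E.D.act h2 56 = 1 := by
      rw [show (56 : Fin 64) = vx 8 48 by decide, E.D.act_add, q8, q48]; decide
    have e0 : E.D.act h2 0 = 0 := by
      rw [show (0 : Fin 64) = vx 2 2 by decide, E.D.act_add, vx_self]; decide
    simp only [List.mem_cons, List.not_mem_nil, or_false] at hv'
    rcases hv' with rfl | rfl | rfl | rfl
    exacts [⟨0, rfl, by rw [e0]; decide⟩, ⟨8, rfl, by rw [q8]; decide⟩, ⟨48, rfl, by rw [q48]; decide⟩,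
      ⟨56, rfl, by rw [e56]; decide⟩]
  subst hvf
  set v := E.D.act h2 vf with hv
  have r6 : r * E.D.φ (a0 v * a6C * a0 v) = E.D.φ (a0 v * a6C * a0 v) * r := by
    have h1 : E.D.φ x * E.D.φ (a0 vf * a4C * a0 vf) = E.D.φ (a0 vf * a4C * a0 vf) * E.D.φ x :=
      E.D.g_comm.1 (by rw [enc_cjA, ea4]; exact hcm)
    have h2' : f.1 * E.D.φ (a0 vf * a4C * a0 vf) * f.1⁻¹ = E.D.φ (a0 v * a6C * a0 v) := by
      rw [map_mul, map_mul, map_mul, map_mul, ← fa4, show E.D.φ (a0 v) = E.D.el v from rfl, hv, ← fact,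
        E.D.el_act, Ctx.el]
      group
    have h3 : f.1 * E.D.φ x * f.1⁻¹ = r := by rw [hx]; group
    rw [← h2', ← h3, conj_mul, conj_mul, h1]
  refine ⟨v, r, hvv, hrT, r2, rα, fun j => ?_⟩
  have hcomm2 : ∀ {y : G}, y * y = 1 → r * y = y * r → (r * y) ^ 2 = 1 := fun hy e => by
    rw [pow_two]; nth_rewrite 2 [e]; rw [mul_assoc, ← mul_assoc _ _ r, hy, one_mul, E.D.isT_sq hrT]
  have hsq : ∀ c : C0, c * c = 1 → E.D.φ c * E.D.φ c = 1 := fun c h => by rw [← map_mul, h, map_one]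
  fin_cases j
  · show (r * E.D.el 48) ^ ((CoxeterMatrix.E₇).M 0 1) = 1
    rw [show (CoxeterMatrix.E₇).M 0 1 = 2 by decide]
    exact hcomm2 (E.D.el_sq 48) r48
  · show (r * E.D.el 32) ^ ((CoxeterMatrix.E₇).M 0 2) = 1
    rw [show (CoxeterMatrix.E₇).M 0 2 = 3 by decide]
    exact r32
  · show (r * E.D.φ a4C) ^ ((CoxeterMatrix.E₇).M 0 3) = 1
    rw [show (CoxeterMatrix.E₇).M 0 3 = 2 by decide]
    exact hcomm2 (E.D.isT_sq E.isT_a4) r4
  · show (r * E.D.el 8) ^ ((CoxeterMatrix.E₇).M 0 4) = 1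
    rw [show (CoxeterMatrix.E₇).M 0 4 = 2 by decide]
    exact hcomm2 (E.D.el_sq 8) r8
  · show (r * E.D.φ (a0 v * a6C * a0 v)) ^ ((CoxeterMatrix.E₇).M 0 5) = 1
    rw [show (CoxeterMatrix.E₇).M 0 5 = 2 by decide]
    refine hcomm2 (hsq _ ?_) r6
    have h6 : a6C * a6C = 1 := E.D.inj (by rw [map_mul, map_one]; exact E.D.isT_sq a6T)
    rw [show a0 v * a6C * a0 v * (a0 v * a6C * a0 v) = a0 v * (a6C * (a0 v * a0 v) * a6C) * a0 v by group,
      a0_sq, mul_one, h6, mul_one, a0_sq]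
  · show (r * E.D.el 2) ^ ((CoxeterMatrix.E₇).M 0 6) = 1
    rw [show (CoxeterMatrix.E₇).M 0 6 = 2 by decide]
    exact hcomm2 (E.D.el_sq 2) r2

end Data7

end Cfsg.Agent.Spor.Yamaki
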