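import Cfsg.Agent.Lib.Spor.Yamaki.SevenGen
import Cfsg.Agent.Lib.Lie.PSpFourThreeFull.SpSixEmbed

/-!
The subgroup generated by the seven nodes is symplectic and contains the centraliser.
-/

set_option autoImplicit false
set_option maxRecDepth 100000
set_option Elab.async false
set_option linter.style.haveILetI false

universe u

namespace Cfsg.Agent.Spor.Yamaki

open Equiv Subgroup Cfsg.Agent.Lie.PSpFourThreeFull

theorem nodeW_small : (nodeW.all fun ws => ws.all fun w => w.all fun i => Nat.blt i 6) = true := by decide +kernel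

theorem varV_get : ∀ v : Fin 64, v.val ∈ varV → ∃ k : Fin 4, varV.getD k.val 0 = v.val := by decide +kernel

attribute [local irreducible] mN enc tab avN slAt gN idxN moved

/-- the subgroup found for the orbit of length seven -/
structure Whole7 {G : Type u} [Group G] [Finite G] (E : Data7 G) where
  K : Subgroup G
  range_le : ∀ c : C0, E.D.φ c ∈ K
  alpha_two : ∃ k ∈ K, k * E.D.α * k⁻¹ = E.D.el 2
  iso : Nonempty (K ≃* Matrix.symplecticGroup (Fin 3) (ZMod 2))

theorem wordN_nil (v : ℕ) : wordN v [] = idN := by unfold wordN; exact List.foldl_nil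

theorem exists_enc_nil (H : Subgroup C0) (v : ℕ) : ∃ x ∈ H, enc x.1 = wordN v [] :=
  ⟨1, one_mem _, (congrArg enc (Subgroup.coe_one C0)).trans (enc_one.trans (wordN_nil v).symm)⟩

theorem word_mem (H : Subgroup C0) (v : Fin 64) (hH : ∀ j : Fin 6, Data7.nodeC v j ∈ H) :
    ∀ w : List ℕ, (∀ i ∈ w, i < 6) → ∃ x ∈ H, enc x.1 = wordN v.val w := by
  intro w
  induction w using List.reverseRecOn with
  | nil => exact fun _ => exists_enc_nil H v.val
  | append_singleton w i ih =>
    intro hw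
    obtain ⟨x, hx, he⟩ := ih fun j hj => hw j (List.mem_append_left _ hj)
    have hi := hw i (List.mem_append_right _ (List.mem_singleton_self i))
    refine ⟨x * Data7.nodeC v ⟨i, hi⟩, mul_mem hx (hH _), ?_⟩
    have e := Data7.enc_nodeC v ⟨i, hi⟩
    simp only at e
    rw [Subgroup.coe_mul, enc_mul, he, e]
    simp only [wordN, List.foldl_append, List.foldl_cons, List.foldl_nil]

/-- The six nodes generate the model. -/
theorem nodes_top (v : Fin 64) (hv : v.val ∈ varV) (H : Subgroup C0) (hH : ∀ j : Fin 6, Data7.nodeC v j ∈ H) :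
    H = ⊤ := by
  obtain ⟨k, hk⟩ := varV_get v hv
  have hget : ∀ i < 12, ∃ x ∈ H, enc x.1 = if Nat.blt i 9 then gL.getD i 0 else oddN.getD (i - 9) 0 := by
    intro i hi
    have h := List.all_eq_true.1 (List.all_eq_true.1 node_words k.val (List.mem_range.2 k.isLt)) i
      (List.mem_range.2 hi)
    rw [hk, Nat.beq_eq] at h
    rw [← h]
    refine word_mem H v hH _ fun j hj => ?_
    have hl : k.val < nodeW.length := k.isLt
    rw [List.getD_eq_getElem _ _ hl] at hj
    have h1 := List.all_eq_true.1 nodeW_small _ (List.getElem_mem hl)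
    rcases Nat.lt_or_ge i (nodeW[k.val].length) with hil | hil
    · rw [List.getD_eq_getElem _ _ hil] at hj
      exact Nat.ble_eq.mp (List.all_eq_true.1 (List.all_eq_true.1 h1 _ (List.getElem_mem hil)) j hj)
    · rw [List.getD_eq_default _ _ hil] at hj
      simp at hj
  have hS : S0' ≤ H := by
    intro x hx
    have h : ∀ p (hp : p ∈ S0), (⟨p, S0_le hp⟩ : C0) ∈ H := by
      intro p hp
      induction hp using closure_induction with
      | mem p hp =>
        obtain ⟨i, rfl⟩ := hp
        obtain ⟨y, hy, he⟩ := hget i.val (by omega)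
        rw [show Nat.blt i.val 9 = true from Nat.ble_eq.mpr i.isLt, if_pos rfl] at he
        have : y = (⟨gP i, gP_mem i⟩ : C0) := Subtype.ext (enc_inj (by rw [he, enc_gP, gN]))
        exact this ▸ hy
      | one => exact one_mem H
      | mul a b ha hb iha ihb => exact mul_mem iha ihb
      | inv a _ iha => exact inv_mem iha
    exact h x.1 hx
  obtain ⟨x5, h5, e5⟩ := hget 9 (by omega)
  obtain ⟨xa, ha, ea⟩ := hget 10 (by omega)
  obtain ⟨xb, hb, eb⟩ := hget 11 (by omega)
  replace e5 : enc x5.1 = oddN.getD 0 0 := e5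
  replace ea : enc xa.1 = oddN.getD 1 0 := ea
  replace eb : enc xb.1 = oddN.getD 2 0 := eb
  have ho := odd_orders
  simp only [Bool.and_eq_true, Nat.beq_eq, Bool.not_eq_true', ← Bool.not_eq_true, List.all_eq_true,
    Bool.or_eq_true] at ho
  obtain ⟨⟨⟨⟨⟨o5, n5⟩, o3a⟩, o3b⟩, hcm⟩, hne⟩ := ho
  have hone : ∀ {x : C0}, enc x.1 = idN ↔ x = 1 := fun {x} =>
    ⟨fun h => Subtype.ext (enc_inj (h.trans enc_one.symm)), fun h => by rw [h, Subgroup.coe_one, enc_one]⟩
  have d5 : 5 ∣ Nat.card H := by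
    have h1 : orderOf x5 = 5 := by
      haveI : Fact (Nat.Prime 5) := ⟨by norm_num⟩
      exact orderOf_eq_prime (hone.1 (by rw [pow_enc, e5, o5])) fun h => n5 (by rw [← e5, hone.2 h])
    have h2 := orderOf_dvd_natCard (⟨x5, h5⟩ : H)
    rwa [Subgroup.orderOf_mk, h1] at h2
  have d9 : 9 ∣ Nat.card H := by
    haveI : Fact (Nat.Prime 3) := ⟨Nat.prime_three⟩
    have hab : xa * xb = xb * xa := Subtype.ext (cm_iff.1 (by rw [ea, eb]; exact hcm))
    set M := closure ({xa, xb} : Set C0)
    have hMH : M ≤ H := (closure_le _).2 (by rintro a (rfl | rfl) <;> assumption)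
    haveI := isMulCommutative_closure (k := ({xa, xb} : Set C0))
      (by rintro a (rfl | rfl) b (rfl | rfl) <;> first | rfl | exact hab | exact hab.symm)
    have h3 : ∀ m ∈ M, m ^ 3 = 1 := by
      intro m hm
      induction hm using closure_induction with
      | mem a ha =>
        rcases ha with rfl | rfl
        · exact hone.1 (by rw [pow_enc, ea, o3a])
        · exact hone.1 (by rw [pow_enc, eb, o3b])
      | one => exact one_pow 3
      | mul a b ha hb iha ihb =>
        have h : a * b = b * a := congrArg Subtype.val (mul_comm' (⟨a, ha⟩ : M) ⟨b, hb⟩)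
        rw [(show Commute a b from h).mul_pow, iha, ihb, one_mul]
      | inv a _ iha => rw [inv_pow, iha, inv_one]
    obtain ⟨n, hn⟩ := IsPGroup.iff_card.1
      (show IsPGroup 3 M from fun m => ⟨1, Subtype.ext (by rw [pow_one, SubgroupClass.coe_pow]; exact h3 m.1 m.2)⟩)
    have hinj : Function.Injective fun ij : Fin 3 × Fin 3 => (⟨xa ^ ij.1.val * xb ^ ij.2.val,
        mul_mem (pow_mem (Subgroup.subset_closure (k := ({xa, xb} : Set C0)) (Or.inl rfl)) _) (pow_mem (Subgroup.subset_closure (k := ({xa, xb} : Set C0)) (Or.inr rfl)) _)⟩ : M) := by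
      rintro ⟨i, j⟩ ⟨i', j'⟩ h
      have h' : xa ^ i.val * xb ^ j.val = xa ^ i'.val * xb ^ j'.val := congrArg Subtype.val h
      have hc : Commute xa xb := hab
      have key : xa ^ ((i.val + 3 - i'.val) % 3) * xb ^ ((j.val + 3 - j'.val) % 3) = 1 := by
        have ha3 : xa ^ 3 = 1 := h3 _ (Subgroup.subset_closure (k := ({xa, xb} : Set C0)) (Or.inl rfl))
        have hb3 : xb ^ 3 = 1 := h3 _ (Subgroup.subset_closure (k := ({xa, xb} : Set C0)) (Or.inr rfl))
        rw [← pow_eq_pow_mod _ ha3, ← pow_eq_pow_mod _ hb3]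
        have e1 : xa ^ (i.val + 3 - i'.val) * xa ^ i'.val = xa ^ i.val := by
          rw [← pow_add, show i.val + 3 - i'.val + i'.val = i.val + 3 by omega, pow_add, ha3, mul_one]
        have e2 : xb ^ (j.val + 3 - j'.val) * xb ^ j'.val = xb ^ j.val := by
          rw [← pow_add, show j.val + 3 - j'.val + j'.val = j.val + 3 by omega, pow_add, hb3, mul_one]
        refine mul_right_cancel (b := xa ^ i'.val * xb ^ j'.val) ?_
        rw [one_mul, mul_assoc, ← mul_assoc (xb ^ _) (xa ^ _), ((hc.pow_pow i'.val _).eq).symm, ← h', ← e1, ← e2]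
        simp only [mul_assoc]
      have := hne ((i.val + 3 - i'.val) % 3 + 3 * ((j.val + 3 - j'.val) % 3))
        (List.mem_range.2 (by omega))
      rcases this with h0 | h0
      · exact Prod.ext (Fin.ext (by simp only; omega)) (Fin.ext (by simp only; omega))
      · refine absurd ?_ h0
        rw [← ea, ← eb, ← pow_enc, ← pow_enc, ← enc_mul, ← Subgroup.coe_mul, hone]
        rw [show ((i.val + 3 - i'.val) % 3 + 3 * ((j.val + 3 - j'.val) % 3)) % 3 = (i.val + 3 - i'.val) % 3
          by omega, show ((i.val + 3 - i'.val) % 3 + 3 * ((j.val + 3 - j'.val) % 3)) / 3 =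
            (j.val + 3 - j'.val) % 3 by omega]
        exact key
    have h9 := Nat.card_le_card_of_injective _ hinj
    rw [Nat.card_prod, Nat.card_fin, hn] at h9
    refine dvd_trans ?_ (card_dvd_of_le hMH)
    rw [hn]
    have : 2 ≤ n := by
      by_contra hlt
      have : 3 ^ n ≤ 3 ^ 1 := Nat.pow_le_pow_right (by norm_num) (by omega)
      omega
    exact (show 9 = 3 ^ 2 by norm_num) ▸ pow_dvd_pow 3 this
  have d512 : 512 ∣ Nat.card H := card_S0' ▸ card_dvd_of_le hS
  refine eq_top_of_le_card _ ?_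
  rw [card_C0]
  refine Nat.le_of_dvd Nat.card_pos ?_
  have := Nat.Coprime.mul_dvd_of_dvd_of_dvd (by norm_num : Nat.Coprime 512 45) d512
    (Nat.Coprime.mul_dvd_of_dvd_of_dvd (by norm_num : Nat.Coprime 5 9) d5 d9)
  exact this

namespace Data7

variable {G : Type u} [Group G] [Finite G] (E : Data7 G)

theorem exists_whole : Nonempty (Whole7 E) := by
  obtain ⟨v, r, hv, hrT, -, hrα, hr⟩ := E.exists_nodes
  let f : Fin 7 → G := Fin.cons r fun j => E.D.φ (nodeC v j)
  obtain ⟨k, hk⟩ := varV_get v hv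
  have hrel : ∀ i j : Fin 6, (E.D.φ (nodeC v i) * E.D.φ (nodeC v j)) ^
      ((CoxeterMatrix.E₇).M i.succ j.succ) = 1 := fun i j => by
    refine E.D.g_pow.1 ?_
    rw [enc_nodeC, enc_nodeC, ← hk]
    exact List.all_eq_true.1 (List.all_eq_true.1 (List.all_eq_true.1 node_rel k.val
      (List.mem_range.2 k.isLt)) i (List.mem_finRange i)) j (List.mem_finRange j)
  have hl : (CoxeterMatrix.E₇ : CoxeterMatrix (Fin 7)).IsLiftable f := by
    intro i j
    induction i using Fin.cases with
    | zero =>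
      induction j using Fin.cases with
      | zero =>
        rw [(CoxeterMatrix.E₇ : CoxeterMatrix (Fin 7)).diagonal, pow_one]
        exact E.D.isT_sq hrT
      | succ j => exact hr j
    | succ i =>
      induction j using Fin.cases with
      | zero =>
        rw [(CoxeterMatrix.E₇ : CoxeterMatrix (Fin 7)).symmetric]
        exact pow_flip (hr i)
      | succ j => exact hrel i j
  set K := closure (Set.range f)
  have hle : ∀ c, E.D.φ c ∈ K := by
    have := nodes_top v hv (K.comap E.D.φ) fun j => Subgroup.subset_closure ⟨j.succ, Fin.cons_succ _ _ j⟩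
    exact fun c => (show c ∈ K.comap E.D.φ from this ▸ mem_top c)
  have hr1 : (r * E.D.el 32) ^ 3 = 1 := hr 1
  have hbad : r ≠ E.D.α := by
    intro e
    have h1 : (E.D.α * E.D.el 32) ^ 2 = 1 := by
      have hc : E.D.el 32 * E.D.α = E.D.α * E.D.el 32 := E.D.comm _
      rw [pow_two, mul_assoc, ← mul_assoc (E.D.el 32), hc, mul_assoc E.D.α (E.D.el 32), E.D.el_sq, mul_one,
        E.D.alpha_sq]
    rw [e, pow_succ, h1, one_mul, mul_eq_one_iff_eq_inv, inv_eq_of_mul_eq_one_right (E.D.el_sq 32),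
      ← E.D.el_alpha] at hr1
    exact absurd (E.D.el_inj hr1) (by decide)
  have hcen : ∀ x ∈ K, x * x = 1 → (∀ i, x * f i = f i * x) → x = 1 := by
    intro x _ hx2 hxf
    have hxK : x ∈ centralizer (K : Set G) := by
      rw [centralizer_closure, mem_centralizer_iff]
      rintro _ ⟨i, rfl⟩
      exact (hxf i).symm
    have hxc : ∀ c, E.D.φ c * x = x * E.D.φ c := fun c => mem_centralizer_iff.1 hxK _ (hle c)
    obtain ⟨c, rfl⟩ := E.D.exists_pre (g := x) (hxc tp0).symm
    have hc : ∀ d, d * c = c * d := fun d => E.D.inj (by rw [map_mul, map_mul]; exact hxc d)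
    have hc2 : c * c = 1 := E.D.inj (by rw [map_mul, map_one]; exact hx2)
    obtain ⟨d, w, hw⟩ := conj_into_A0 hc2
    rw [hc, mul_inv_cancel_right] at hw
    rcases central_S0 (hw ▸ av_mem w) (fun q hq => congrArg Subtype.val (hc ⟨q, hq⟩).symm) with h | h
    · rw [show c = 1 from Subtype.ext h, map_one]
    · exfalso
      have hc' : c = tp0 := Subtype.ext h
      subst hc'
      have h1 : E.D.α * r = r * E.D.α := hxf 0
      have h2 : (r * E.D.α) ^ 2 = 1 := by
        rw [pow_two, mul_assoc, ← mul_assoc E.D.α, h1, mul_assoc r, E.D.alpha_sq, mul_one, E.D.isT_sq hrT]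
      rw [pow_succ, h2, one_mul, mul_eq_one_iff_eq_inv, inv_eq_of_mul_eq_one_right E.D.alpha_sq] at hrα
      exact hbad hrα
  have hne : f 0 * f 2 ≠ 1 := by
    intro h
    rw [mul_eq_one_iff_eq_inv, show f 2 = E.D.el 32 from rfl, inv_eq_of_mul_eq_one_right (E.D.el_sq 32)] at h
    change r = E.D.el 32 at h
    have h2 : (r * E.D.α) ^ 2 = 1 := by
      rw [h, pow_two, mul_assoc, ← mul_assoc E.D.α, ← show E.D.el 32 * E.D.α = E.D.α * E.D.el 32 from E.D.comm _,
        mul_assoc (E.D.el 32) E.D.α, E.D.alpha_sq, mul_one, E.D.el_sq]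
    rw [pow_succ, h2, one_mul, mul_eq_one_iff_eq_inv, inv_eq_of_mul_eq_one_right E.D.alpha_sq] at hrα
    exact hbad hrα
  refine ⟨⟨K, hle, ?_, symplectic_of_nodes f hl hne hcen⟩⟩
  -- a chain of conjugations inside
  have hf : ∀ i, f i ∈ K := fun i => Subgroup.subset_closure ⟨i, rfl⟩
  have hstep : ∀ {a b : G}, a * a = 1 → b * b = 1 → a ∈ K → b ∈ K → (a * b) ^ 3 = 1 →
      ∃ k ∈ K, k * a * k⁻¹ = b := fun ha hb haK hbK h => ⟨_, mul_mem haK hbK, conj_of_braid ha hb h⟩
  have hsq : ∀ i, f i * f i = 1 := fun i => by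
    have := hl i i
    rwa [(CoxeterMatrix.E₇ : CoxeterMatrix (Fin 7)).diagonal, pow_one] at this
  have hM : ∀ i j : Fin 7, (i, j) ∈ [((0 : Fin 7), (2 : Fin 7)), (2, 3), (3, 4), (4, 5), (5, 6)] →
      (f i * f j) ^ 3 = 1 := fun i j h => by
    have e : (CoxeterMatrix.E₇).M i j = 3 := by
      simp only [List.mem_cons, Prod.mk.injEq, List.not_mem_nil, or_false] at h
      rcases h with ⟨rfl, rfl⟩ | ⟨rfl, rfl⟩ | ⟨rfl, rfl⟩ | ⟨rfl, rfl⟩ | ⟨rfl, rfl⟩ <;> decide
    exact e ▸ hl i j
  have htrans : ∀ {a b c : G}, (∃ k ∈ K, k * a * k⁻¹ = b) → (∃ k ∈ K, k * b * k⁻¹ = c) →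
      ∃ k ∈ K, k * a * k⁻¹ = c := by
    rintro a b c ⟨k, hk, rfl⟩ ⟨l, hl', rfl⟩
    exact ⟨l * k, mul_mem hl' hk, by group⟩
  have hedge : ∀ i j : Fin 7, (i, j) ∈ [((0 : Fin 7), (2 : Fin 7)), (2, 3), (3, 4), (4, 5), (5, 6)] →
      ∃ k ∈ K, k * f i * k⁻¹ = f j := fun i j h => hstep (hsq i) (hsq j) (hf i) (hf j) (hM i j h)
  have h0 : ∃ k ∈ K, k * E.D.α * k⁻¹ = f 0 :=
    hstep E.D.alpha_sq (hsq 0) (hle tp0) (hf 0) (pow_flip hrα)
  exact htrans h0 (htrans (hedge 0 2 (by decide)) (htrans (hedge 2 3 (by decide)) (htrans (hedge 3 4 (by decide))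
    (htrans (hedge 4 5 (by decide)) (hedge 5 6 (by decide))))))

end Data7

end Cfsg.Agent.Spor.Yamaki
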