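import Cfsg.Agent.Lib.Spor.Yamaki.Big
import Cfsg.Agent.Lib.Spor.Yamaki.PureData

/-!
The alternating subgroup of degree twelve or thirteen is the whole group.
-/

set_option autoImplicit false
set_option maxRecDepth 100000
set_option Elab.async false
set_option linter.style.haveILetI false

universe u

namespace Cfsg.Agent.Spor.Yamaki

open Equiv Subgroup Cfsg.Agent.Small.BoundedPres Cfsg.Agent.Small.AltDeg

attribute [local irreducible] mN enc tab avN slAt gN idxN fixTop moved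

/-- Two involutions generate a dihedral group. -/
theorem dih {H : Type*} [Group H] [Finite H] {U V : H} (hU : U * U = 1) (hV : V * V = 1) :
    (∃ c ∈ zpowers (U * V), c * U * c⁻¹ = V) ∨
    ∃ z ∈ zpowers (U * V), z * z = 1 ∧ z ≠ 1 ∧ z * U = U * z ∧ z * V = V * z ∧
      ((∃ c ∈ zpowers (U * V), c * (U * z) * c⁻¹ = V) ∨ ∃ c ∈ zpowers (U * V), c * V * c⁻¹ = V * z) := by
  set w := U * V with hw
  have hUi : U⁻¹ = U := inv_eq_of_mul_eq_one_right hU
  have hVi : V⁻¹ = V := inv_eq_of_mul_eq_one_right hV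
  have hwU : U * w * U⁻¹ = w⁻¹ := by rw [hw, mul_inv_rev, hUi, hVi, ← mul_assoc U, hU, one_mul]
  have hwV : V * w * V⁻¹ = w⁻¹ := by
    rw [hw, mul_inv_rev, hUi, hVi, mul_assoc, mul_assoc U, hV, mul_one]
  have hUc : ∀ i : ℕ, U * w ^ i * U⁻¹ = (w ^ i)⁻¹ := fun i => by rw [← conj_pow, hwU, inv_pow]
  have hVc : ∀ i : ℕ, V * w ^ i * V⁻¹ = (w ^ i)⁻¹ := fun i => by rw [← conj_pow, hwV, inv_pow]
  have hCU : ∀ i : ℕ, w ^ i * U * (w ^ i)⁻¹ = w ^ i * w ^ i * U := fun i => by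
    rw [← hUc, show w ^ i * U * (U * w ^ i * U⁻¹) = w ^ i * (U * U) * w ^ i * U⁻¹ by group, hU, mul_one, hUi]
  have hCV : ∀ i : ℕ, w ^ i * V * (w ^ i)⁻¹ = w ^ i * w ^ i * V := fun i => by
    rw [← hVc, show w ^ i * V * (V * w ^ i * V⁻¹) = w ^ i * (V * V) * w ^ i * V⁻¹ by group, hV, mul_one, hVi]
  have hm : 0 < orderOf w := orderOf_pos w
  have hVw : V = w⁻¹ * U := by rw [hw, mul_inv_rev, hUi, hVi, mul_assoc, hU, mul_one]
  rcases Nat.even_or_odd' (orderOf w) with ⟨l, hl | hl⟩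
  · right
    set z := w ^ l with hz
    have hz2 : z * z = 1 := by rw [hz, ← pow_add, show l + l = orderOf w by omega, pow_orderOf_eq_one]
    have hz1 : z ≠ 1 := fun h => by
      have := Nat.le_of_dvd (by omega) (orderOf_dvd_of_pow_eq_one (hz ▸ h))
      omega
    have hzi : z⁻¹ = z := inv_eq_of_mul_eq_one_right hz2
    have hzU : z * U = U * z := by
      have := hUc l
      rw [← hz, hzi, mul_inv_eq_iff_eq_mul] at this
      exact this.symm
    have hzV : z * V = V * z := by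
      have := hVc l
      rw [← hz, hzi, mul_inv_eq_iff_eq_mul] at this
      exact this.symm
    refine ⟨z, pow_mem (mem_zpowers w) l, hz2, hz1, hzU, hzV, ?_⟩
    rcases Nat.even_or_odd' l with ⟨a, ha | ha⟩
    · refine Or.inr ⟨w ^ a, pow_mem (mem_zpowers w) a, ?_⟩
      rw [hCV, ← pow_add, show a + a = l by omega, ← hz, hzV]
    · refine Or.inl ⟨w ^ a, pow_mem (mem_zpowers w) a, ?_⟩
      rw [← hzU, show w ^ a * (z * U) * (w ^ a)⁻¹ = w ^ a * z * (w ^ a)⁻¹ * (w ^ a * U * (w ^ a)⁻¹) by group,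
        hCU, hz, ((Commute.refl w).pow_pow a l).eq, mul_inv_cancel_right, ← mul_assoc, ← pow_add, ← pow_add,
        hVw]
      congr 1
      refine eq_inv_of_mul_eq_one_left ?_
      rw [← pow_succ, show l + (a + a) + 1 = orderOf w by omega, pow_orderOf_eq_one]
  · refine Or.inl ⟨w ^ l, pow_mem (mem_zpowers w) l, ?_⟩
    rw [hCU, ← pow_add, hVw]
    congr 1
    refine eq_inv_of_mul_eq_one_left ?_
    rw [← pow_succ, show l + l + 1 = orderOf w by omega, pow_orderOf_eq_one]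

/-- A two-subgroup moves into a given subgroup of order five hundred and twelve. -/
theorem conj_into {G H : Type*} [Group G] [Finite G] [Group H] [Finite H] (f : H →* G) (hf : Function.Injective f)
    (hG : ∀ P : Sylow 2 G, Nat.card P = 512) (S : Subgroup H) (hS : Nat.card S = 512) (Q : Subgroup H)
    (hQ : IsPGroup 2 Q) : ∃ h : H, ∀ q ∈ Q, h * q * h⁻¹ ∈ S := by
  haveI : Fact (Nat.Prime 2) := ⟨Nat.prime_two⟩
  obtain ⟨R0, hR0⟩ := (IsPGroup.of_card (n := 9) (by rw [hS]; norm_num) : IsPGroup 2 S).exists_le_sylow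
  have h512 : Nat.card R0 ≤ 512 := by
    obtain ⟨P, hP⟩ := (R0.2.map f).exists_le_sylow
    have := card_le_of_le hP
    rwa [card_map_of_injective hf, hG] at this
  have hSR : S = R0 := eq_of_le_of_card_ge hR0 (by rw [hS]; exact h512)
  obtain ⟨R, hR⟩ := hQ.exists_le_sylow
  obtain ⟨h, hh⟩ := MulAction.exists_smul_eq H R R0
  refine ⟨h, fun q hq => ?_⟩
  rw [hSR, ← hh]
  exact Subgroup.smul_mem_pointwise_smul q (MulAut.conj h) (R : Subgroup H) (hR hq)

/-- A set of commuting involutions generates an elementary abelian group. -/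
theorem elem_closure {H : Type*} [Group H] {X : Set H} (hs : ∀ x ∈ X, x * x = 1)
    (hc : ∀ x ∈ X, ∀ y ∈ X, x * y = y * x) : ∀ x ∈ closure X, x * x = 1 := by
  haveI := isMulCommutative_closure hc
  intro x hx
  induction hx using closure_induction with
  | mem x hx => exact hs x hx
  | one => exact one_mul 1
  | mul a b ha hb iha ihb =>
    have h : a * b = b * a := congrArg Subtype.val (mul_comm' (⟨a, ha⟩ : closure X) ⟨b, hb⟩)
    rw [show a * b * (a * b) = a * (b * a) * b by group, ← h, show a * (a * b) * b = a * a * (b * b) by group,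
      iha, ihb, one_mul]
  | inv a _ iha => rw [← mul_inv_rev, iha, inv_one]

theorem isPGroup_of_sq {H : Type*} [Group H] {Q : Subgroup H} (hs : ∀ x ∈ Q, x * x = 1) : IsPGroup 2 Q :=
  fun x => ⟨1, Subtype.ext (by rw [pow_one, SubgroupClass.coe_pow, pow_two]; exact hs x.1 x.2)⟩

theorem comm_of_sq {H : Type*} [Group H] {a b : H} (ha : a * a = 1) (hb : b * b = 1) (hab : a * b * (a * b) = 1) :
    a * b = b * a := by
  have h := (inv_eq_of_mul_eq_one_right hab).symm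
  rwa [mul_inv_rev, inv_eq_of_mul_eq_one_right ha, inv_eq_of_mul_eq_one_right hb] at h

/-- moved points -/
abbrev mv {r : ℕ} (p : A r) : ℕ := p.1.support.card

theorem mv_emb {k r : ℕ} (ι : Fin k ↪ Fin r) (x : A k) : mv (emb ι x) = mv x := by
  show (Perm.viaEmbedding x.1 ι).support.card = _
  rw [Perm.viaEmbedding]
  convert Perm.card_support_extend_domain _

theorem mv_conj_self {r : ℕ} (k p : A r) : mv (k * p * k⁻¹) = mv p := by
  show (k.1 * p.1 * k.1⁻¹).support.card = _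
  rw [Perm.card_support_conj]

theorem mv_one_iff {r : ℕ} {p : A r} : mv p = 0 ↔ p = 1 := by
  rw [mv, Finset.card_eq_zero, Perm.support_eq_empty_iff]
  exact ⟨fun h => Subtype.ext h, fun h => congrArg Subtype.val h⟩

/-- Involutions moving equally many points are conjugate. -/
theorem conj_of_mv {r : ℕ} {p q : A r} (hp : p * p = 1) (hp1 : p ≠ 1) (hq : q * q = 1) (hq1 : q ≠ 1)
    (h : mv p = mv q) : ∃ g : A r, g * p * g⁻¹ = q := by
  have hty : ∀ {x : A r}, x * x = 1 → x ≠ 1 → ∃ m, x.1.cycleType = Multiset.replicate m 2 ∧ mv x = 2 * m := by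
    intro x h2 h1
    have ho : orderOf x.1 = 2 := orderOf_eq_prime (by rw [pow_two]; exact congrArg Subtype.val h2)
      fun e => h1 (Subtype.ext e)
    obtain ⟨m, hm⟩ := Equiv.Perm.cycleType_prime_order (σ := x.1) (by rw [ho]; exact Nat.prime_two)
    rw [ho] at hm
    refine ⟨m + 1, hm, ?_⟩
    have hsum := Equiv.Perm.sum_cycleType x.1
    rw [hm, Multiset.sum_replicate, smul_eq_mul] at hsum
    show x.1.support.card = _
    omega
  obtain ⟨a, ha, ha'⟩ := hty hp hp1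
  obtain ⟨b, hb, hb'⟩ := hty hq hq1
  obtain ⟨g, hg⟩ := isConj_iff.1 (Equiv.Perm.isConj_iff_cycleType_eq.2
    (show p.1.cycleType = q.1.cycleType by rw [ha, hb, show a = b by omega]))
  rcases Int.units_eq_one_or (Perm.sign g) with hg' | hg'
  · exact ⟨⟨g, Perm.mem_alternatingGroup.2 hg'⟩, Subtype.ext hg⟩
  · obtain ⟨i, hi⟩ : ∃ i, p.1 i ≠ i := by
      by_contra hn
      simp only [not_exists, not_not] at hn
      exact hp1 (Subtype.ext (Equiv.ext hn))
    have hsw : swap i (p.1 i) * p.1 * (swap i (p.1 i))⁻¹ = p.1 := by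
      rw [mul_inv_eq_iff_eq_mul, mul_swap_eq_swap_mul, ← Perm.mul_apply,
        show p.1 * p.1 = 1 from congrArg Subtype.val hp, Perm.one_apply, swap_comm]
    refine ⟨⟨g * swap i (p.1 i), Perm.mem_alternatingGroup.2 ?_⟩, Subtype.ext ?_⟩
    · rw [map_mul, hg', Perm.sign_swap (Ne.symm hi)]
      decide
    · show g * swap i (p.1 i) * p.1 * (g * swap i (p.1 i))⁻¹ = q.1
      rw [mul_inv_rev, show g * swap i (p.1 i) * p.1 * ((swap i (p.1 i))⁻¹ * g⁻¹) =
        g * (swap i (p.1 i) * p.1 * (swap i (p.1 i))⁻¹) * g⁻¹ by group, hsw, hg]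

theorem gam_of {x : C0} (hx : x.1 ∈ S0) (h2 : x * x = 1) (h8 : x.1.support.card = 8) : enc x.1 ∈ gamL := by
  have h := List.all_eq_true.1 gamL_complete _ (enc_mem_SL hx)
  rw [invN, ← enc_mul, show x.1 * x.1 = 1 from congrArg Subtype.val h2, enc_one, moved_enc, h8] at h
  simpa [List.contains_iff_mem] using h

/-- The alternating subgroup with its embedding of the model. -/
structure Whole {G : Type u} [Group G] [Finite G] (E : Data27 G) where
  n : ℕ
  h : 12 ≤ n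
  Θ : A n →* G
  inj : Function.Injective Θ
  hφ : ∀ c : C0, Θ (emb (Fin.castLEEmb h) (inclA c)) = E.D.φ c
  hHB : E.HB ≤ Θ.range

namespace Whole

variable {G : Type u} [Group G] [Finite G] {E : Data27 G} (W : Whole E)

/-- the first twelve points -/
noncomputable def j : A 12 →* A W.n := emb (Fin.castLEEmb W.h)

/-- the model inside -/
noncomputable def ι : C0 →* A W.n := (emb (Fin.castLEEmb W.h)).comp inclA

theorem Θι (c : C0) : W.Θ (W.ι c) = E.D.φ c := W.hφ c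

theorem ι_inj : Function.Injective W.ι := fun a b h => E.D.inj (by rw [← W.Θι, ← W.Θι, h])

theorem ι_eq (c : C0) : W.ι c = W.j ⟨c.1, (mem_inf.1 c.2).1⟩ := rfl

theorem mv_ι (c : C0) : mv (W.ι c) = c.1.support.card := by rw [ι_eq, j, mv_emb]

theorem range_ι {w : A W.n} (h : w * W.ι tp0 = W.ι tp0 * w) : ∃ c, W.ι c = w := by
  obtain ⟨c, hc⟩ := E.D.exists_pre (g := W.Θ w) (by
    rw [Ctx.α, ← W.Θι, ← map_mul, ← map_mul, h])
  exact ⟨c, W.inj (by rw [W.Θι, hc])⟩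

/-- conjugating a two-subgroup into the Sylow subgroup of the model -/
theorem exists_S0 (Q : Subgroup (A W.n)) (hQ : IsPGroup 2 Q) :
    ∃ h : A W.n, ∀ q ∈ Q, ∃ x : C0, x.1 ∈ S0 ∧ W.ι x = h * q * h⁻¹ := by
  obtain ⟨h, hh⟩ := conj_into W.Θ W.inj E.D.sylow (S0'.map W.ι)
    (by rw [card_map_of_injective W.ι_inj, card_S0']) Q hQ
  exact ⟨h, fun q hq => by obtain ⟨x, hx, hxe⟩ := hh q hq; exact ⟨x, hx, hxe⟩⟩

theorem exists_one {p : A W.n} (hp : p * p = 1) :
    ∃ (h : A W.n) (x : C0), x.1 ∈ S0 ∧ x * x = 1 ∧ W.ι x = h * p * h⁻¹ ∧ x.1.support.card = mv p := by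
  obtain ⟨h, hh⟩ := W.exists_S0 (closure {p}) (isPGroup_of_sq (elem_closure (by simpa using hp) (by simp)))
  obtain ⟨x, hx, hxe⟩ := hh p (subset_closure rfl)
  refine ⟨h, x, hx, W.ι_inj ?_, hxe, by rw [← W.mv_ι, hxe, mv_conj_self]⟩
  rw [map_mul, map_one, hxe, show h * p * h⁻¹ * (h * p * h⁻¹) = h * (p * p) * h⁻¹ by group, hp, mul_one,
    mul_inv_cancel]

theorem mv_fused {p q : A W.n} (hp : p * p = 1) (hq : q * q = 1) {g : G} (h : g * W.Θ p * g⁻¹ = W.Θ q) :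
    mv p = mv q := by
  obtain ⟨a, x, -, hx, hxe, hxm⟩ := W.exists_one hp
  obtain ⟨b, y, -, hy, hye, hym⟩ := W.exists_one hq
  rw [← hxm, ← hym]
  refine E.moved_conj (g := W.Θ b * g * (W.Θ a)⁻¹) hx hy ?_
  rw [← W.Θι, ← W.Θι, hxe, hye, map_mul, map_mul, map_inv, map_mul, map_mul, map_inv, ← h]
  group

theorem mv_values {p : A W.n} (hp : p * p = 1) (hp1 : p ≠ 1) : mv p = 4 ∨ mv p = 8 ∨ mv p = 12 := by
  obtain ⟨a, x, hx, hx2, -, hxm⟩ := W.exists_one hp
  have h := List.all_eq_true.1 inv_moved _ (enc_mem_SL hx)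
  rw [invN, ← enc_mul, show x.1 * x.1 = 1 from congrArg Subtype.val hx2, enc_one, moved_enc, hxm] at h
  simp only [Nat.beq_refl, Bool.not_true, Bool.false_or, List.contains_iff_mem, List.mem_cons,
    List.not_mem_nil, or_false] at h
  rcases h with h | h
  · exact absurd (mv_one_iff.1 h) hp1
  · exact h

theorem cent_le {p : A W.n} (hp : p * p = 1) (hm : mv p = 4 ∨ mv p = 12) {g : G}
    (hg : g * W.Θ p = W.Θ p * g) : g ∈ W.Θ.range := by
  have hp1 : p ≠ 1 := fun h => by rw [mv_one_iff.2 h] at hm; omega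
  obtain ⟨c, hcv, hc⟩ : ∃ v : Fin 64, mv p = 4 * τn v.val ∧
      ∀ x : G, x * E.D.el v = E.D.el v * x → x ∈ W.Θ.range := by
    rcases hm with hm | hm
    · exact ⟨16, by rw [hm]; decide, fun x hx => W.hHB (E.mem_HB.2 hx)⟩
    · refine ⟨21, by rw [hm]; decide, fun x hx => ?_⟩
      rw [E.D.el_alpha] at hx
      obtain ⟨y, rfl⟩ := E.D.exists_pre hx
      exact ⟨_, W.Θι y⟩
  have hv2 : W.ι (a0 c) * W.ι (a0 c) = 1 := by
    rw [← map_mul, show a0 c * a0 c = 1 from Subtype.ext (av_sq c), map_one]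
  have hvm : mv p = mv (W.ι (a0 c)) := by rw [W.mv_ι, moved_a0, hcv]
  obtain ⟨k, hk⟩ := conj_of_mv hp hp1 hv2 (fun e => hp1 (mv_one_iff.1 (by rw [hvm, mv_one_iff.2 e]))) hvm
  have := hc (W.Θ k * g * (W.Θ k)⁻¹) (by
    rw [Ctx.el, ← W.Θι, ← hk, map_mul, map_mul, map_inv]
    calc W.Θ k * g * (W.Θ k)⁻¹ * (W.Θ k * W.Θ p * (W.Θ k)⁻¹) = W.Θ k * (g * W.Θ p) * (W.Θ k)⁻¹ := by group
      _ = _ := by rw [hg]; group)
  have := mul_mem (mul_mem (inv_mem (⟨k, rfl⟩ : W.Θ k ∈ W.Θ.range)) this) (⟨k, rfl⟩ : W.Θ k ∈ W.Θ.range)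
  rwa [show (W.Θ k)⁻¹ * (W.Θ k * g * (W.Θ k)⁻¹) * W.Θ k = g by group] at this

/-- the elements that also lie in a conjugate -/
def fx (g : G) : Subgroup (A W.n) := (W.Θ.range.map (MulAut.conj g).toMonoidHom).comap W.Θ

theorem mem_fx {g : G} {p : A W.n} : p ∈ W.fx g ↔ ∃ q, g * W.Θ q * g⁻¹ = W.Θ p := by
  constructor
  · rintro ⟨_, ⟨q, rfl⟩, hq⟩; exact ⟨q, hq⟩
  · rintro ⟨q, hq⟩; exact ⟨_, ⟨q, rfl⟩, hq⟩

theorem pre_sq {g : G} {p q : A W.n} (h : g * W.Θ q * g⁻¹ = W.Θ p) (hp : p * p = 1) : q * q = 1 := by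
  refine W.inj ?_
  have h1 : W.Θ q = g⁻¹ * W.Θ p * g := by rw [← h]; group
  rw [map_mul, h1, show g⁻¹ * W.Θ p * g * (g⁻¹ * W.Θ p * g) = g⁻¹ * (W.Θ p * W.Θ p) * g by group, ← map_mul, hp,
    map_one, mul_one, inv_mul_cancel]

theorem fx_mv {g : G} (hg : g ∉ W.Θ.range) {p : A W.n} (hp : p * p = 1) (hp1 : p ≠ 1) (hfx : p ∈ W.fx g) :
    mv p = 8 := by
  rcases W.mv_values hp hp1 with h | h | h
  rotate_left
  · exact h
  all_goals
    exfalso
    obtain ⟨q, hq⟩ := W.mem_fx.1 hfx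
    have hq2 := W.pre_sq hq hp
    have hm := W.mv_fused hq2 hp hq
    obtain ⟨k, hk⟩ := conj_of_mv hq2 (fun e => hp1 (mv_one_iff.1 (by rw [← hm, mv_one_iff.2 e]))) hp hp1 hm
    refine hg ?_
    have hmem := W.cent_le hq2 (by omega) (g := (W.Θ k)⁻¹ * g) (by
      have h1 : g * W.Θ q * g⁻¹ = W.Θ k * W.Θ q * (W.Θ k)⁻¹ := by rw [hq, ← hk, map_mul, map_mul, map_inv]
      calc (W.Θ k)⁻¹ * g * W.Θ q = (W.Θ k)⁻¹ * (g * W.Θ q * g⁻¹) * g := by group
        _ = _ := by rw [h1]; group)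
    have := mul_mem (⟨k, rfl⟩ : W.Θ k ∈ W.Θ.range) hmem
    rwa [mul_inv_cancel_left] at this

/-- The common involutions grow. -/
theorem step {g : G} (X : Set (A W.n)) (hX : ∀ e ∈ X, e ∈ W.fx g ∧ e * e = 1)
    {u v : A W.n} (hu : u * u = 1) (hv : v * v = 1) (hvm : mv v = 4) (huX : ∀ e ∈ X, u * e = e * u)
    (hvX : ∀ e ∈ X, ∀ e', g * W.Θ e' * g⁻¹ = W.Θ e → v * e' = e' * v ∧ mv (v * e') ≠ 4)
    (hcond : (mv u = 12 ∧ ∀ e ∈ X, mv (u * e) ≠ 4) ∨ (mv u = 4 ∧ ∃ e ∈ X, mv (u * e) = 4)) :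
    ∃ z ∈ W.fx g, z * z = 1 ∧ z ≠ 1 ∧ z ∉ X ∧ z * u = u * z ∧ ∀ e ∈ X, z * e = e * z := by
  set V := g * W.Θ v * g⁻¹ with hVdef
  have hU2 : W.Θ u * W.Θ u = 1 := by rw [← map_mul, hu, map_one]
  have hV2 : V * V = 1 := by
    rw [hVdef, show g * W.Θ v * g⁻¹ * (g * W.Θ v * g⁻¹) = g * (W.Θ v * W.Θ v) * g⁻¹ by group, ← map_mul, hv,
      map_one, mul_one, mul_inv_cancel]
  -- the dihedral group centralises the set
  have hcomm : ∀ c ∈ zpowers (W.Θ u * V), ∀ e ∈ X, c * W.Θ e = W.Θ e * c := by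
    intro c hc e he
    obtain ⟨e', he'⟩ := W.mem_fx.1 (hX e he).1
    have hVe : Commute V (W.Θ e) := by
      show V * W.Θ e = W.Θ e * V
      rw [hVdef, ← he', show g * W.Θ v * g⁻¹ * (g * W.Θ e' * g⁻¹) = g * (W.Θ v * W.Θ e') * g⁻¹ by group,
        ← map_mul, (hvX e he e' he').1, map_mul]
      group
    have hUe : Commute (W.Θ u) (W.Θ e) := by
      show W.Θ u * W.Θ e = W.Θ e * W.Θ u
      rw [← map_mul, huX e he, map_mul]
    obtain ⟨k, rfl⟩ := mem_zpowers_iff.1 hc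
    exact ((hUe.mul_left hVe).zpow_left k).eq
  -- the product of the far involution with an element of the set
  have hVe2 : ∀ e ∈ X, ∀ e', g * W.Θ e' * g⁻¹ = W.Θ e → v * e' * (v * e') = 1 ∧
      V * W.Θ e = g * W.Θ (v * e') * g⁻¹ := by
    intro e he e' he'
    refine ⟨?_, by rw [hVdef, ← he', map_mul]; group⟩
    rw [show v * e' * (v * e') = v * (e' * v) * e' by group, ← (hvX e he e' he').1,
      show v * (v * e') * e' = v * v * (e' * e') by group, hv, W.pre_sq he' (hX e he).2, one_mul]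
  have hUe2 : ∀ e ∈ X, u * e * (u * e) = 1 := fun e he => by
    rw [show u * e * (u * e) = u * (e * u) * e by group, ← huX e he,
      show u * (u * e) * e = u * u * (e * e) by group, hu, (hX e he).2, one_mul]
  -- a conjugation of the near involution to the far one is impossible
  have hnot : ∀ c ∈ zpowers (W.Θ u * V), c * W.Θ u * c⁻¹ = V → False := by
    intro c hc h
    rcases hcond with ⟨hu12, -⟩ | ⟨-, e, he, hue⟩
    · have := W.mv_fused hu hv (g := g⁻¹ * c) (by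
        calc g⁻¹ * c * W.Θ u * (g⁻¹ * c)⁻¹ = g⁻¹ * (c * W.Θ u * c⁻¹) * g := by group
          _ = _ := by rw [h, hVdef]; group)
      omega
    · obtain ⟨e', he'⟩ := W.mem_fx.1 (hX e he).1
      refine (hvX e he e' he').2 ((W.mv_fused (hUe2 e he) (hVe2 e he e' he').1 (g := g⁻¹ * c) ?_).symm.trans hue)
      calc g⁻¹ * c * W.Θ (u * e) * (g⁻¹ * c)⁻¹
          = g⁻¹ * ((c * W.Θ u * c⁻¹) * (c * W.Θ e * c⁻¹)) * g := by rw [map_mul]; group
        _ = g⁻¹ * (V * W.Θ e) * g := by rw [h, hcomm c hc e he, mul_inv_cancel_right]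
        _ = _ := by rw [(hVe2 e he e' he').2]; group
  rcases dih hU2 hV2 with ⟨c, hc, h⟩ | ⟨z, hz, hz2, hz1, hzU, hzV, hcase⟩
  · exact (hnot c hc h).elim
  obtain ⟨z0, rfl⟩ := W.cent_le hu (by rcases hcond with h | h <;> omega) hzU
  have hzfx : z0 ∈ W.fx g := by
    obtain ⟨q, hq⟩ := W.cent_le hv (Or.inl hvm) (g := g⁻¹ * W.Θ z0 * g) (by
      calc g⁻¹ * W.Θ z0 * g * W.Θ v = g⁻¹ * (W.Θ z0 * V) * g := by rw [hVdef]; group
        _ = g⁻¹ * (V * W.Θ z0) * g := by rw [hzV]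
        _ = _ := by rw [hVdef]; group)
    exact W.mem_fx.2 ⟨q, by rw [hq]; group⟩
  refine ⟨z0, hzfx, W.inj (by rw [map_mul, hz2, map_one]), fun h => hz1 (by rw [h, map_one]), fun hzX => ?_,
    W.inj (by rw [map_mul, map_mul, hzU]), fun e he => W.inj (by rw [map_mul, map_mul, hcomm _ hz e he])⟩
  obtain ⟨e', he'⟩ := W.mem_fx.1 (hX z0 hzX).1
  obtain ⟨hve2, hve⟩ := hVe2 z0 hzX e' he'
  rcases hcase with ⟨c, hc, h⟩ | ⟨c, hc, h⟩
  · rcases hcond with ⟨-, hall⟩ | ⟨hu4, -⟩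
    · refine hall z0 hzX ((W.mv_fused (hUe2 z0 hzX) hv (g := g⁻¹ * c) ?_).trans hvm)
      calc g⁻¹ * c * W.Θ (u * z0) * (g⁻¹ * c)⁻¹ = g⁻¹ * (c * (W.Θ u * W.Θ z0) * c⁻¹) * g := by
            rw [map_mul]; group
        _ = _ := by rw [h, hVdef]; group
    · refine (hvX z0 hzX e' he').2 ((W.mv_fused hu hve2 (g := g⁻¹ * c) ?_).symm.trans hu4)
      calc g⁻¹ * c * W.Θ u * (g⁻¹ * c)⁻¹
          = g⁻¹ * ((c * (W.Θ u * W.Θ z0) * c⁻¹) * (c * (W.Θ z0)⁻¹ * c⁻¹)) * g := by group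
        _ = g⁻¹ * (V * W.Θ z0) * g := by
            rw [h, inv_eq_of_mul_eq_one_right hz2, hcomm c hc z0 hzX, mul_inv_cancel_right]
        _ = _ := by rw [hve]; group
  · refine (hvX z0 hzX e' he').2 ((W.mv_fused hv hve2 (g := g⁻¹ * c * g) ?_).symm.trans hvm)
    calc g⁻¹ * c * g * W.Θ v * (g⁻¹ * c * g)⁻¹ = g⁻¹ * (c * V * c⁻¹) * g := by rw [hVdef]; group
      _ = _ := by rw [h, hve]; group

end Whole

end Cfsg.Agent.Spor.Yamaki
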