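import Cfsg.Agent.Lib.Spor.Yamaki.SevenK
import Cfsg.Agent.Lib.Spor.Yamaki.Whole

/-!
The symplectic subgroup is the whole group.
-/

set_option autoImplicit false
set_option maxRecDepth 100000
set_option Elab.async false
set_option linter.style.haveILetI false

universe u

namespace Cfsg.Agent.Spor.Yamaki

open Equiv Subgroup

theorem kP_facts : (kN.all fun a => cm a tpN) = true ∧ ∀ p ∈ kP, Perm.sign p = 1 := by
  refine ⟨by decide +kernel, fun p hp => ?_⟩
  simp only [kP, List.mem_cons, List.not_mem_nil, or_false] at hp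
  rcases hp with rfl | rfl | rfl | rfl | rfl <;> simp [Fin.ext_iff]

theorem triple_sum : (seven7.all fun p => seven7.all fun q => seven7.all fun r =>
    !([9, 13, 33, 49].contains ((p ^^^ q) ^^^ r)) || Nat.beq p q || Nat.beq p r || Nat.beq q r ||
      (Nat.beq p 2 && Nat.beq q 3 && !(Nat.beq r 21)) || (Nat.beq p 3 && Nat.beq q 2 && !(Nat.beq r 21)) ||
      (Nat.beq p 2 && Nat.beq r 3 && !(Nat.beq q 21)) || (Nat.beq p 3 && Nat.beq r 2 && !(Nat.beq q 21)) ||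
      (Nat.beq q 2 && Nat.beq r 3 && !(Nat.beq p 21)) || (Nat.beq q 3 && Nat.beq r 2 && !(Nat.beq p 21))) = true := by
  decide +kernel

attribute [local irreducible] mN enc tab avN slAt gN idxN moved

theorem vx_val (p q : Fin 64) : (vx p q).val = p.val ^^^ q.val :=
  Nat.mod_eq_of_lt (Nat.xor_lt_two_pow (n := 6) p.isLt q.isLt)

/-- sums of lines -/
def Data7.IsL {G : Type u} [Group G] [Finite G] (E : Data7 G) (v : Fin 64) : Prop :=
  ∃ p q r, E.TL p q r ∧ vx (vx p q) r = v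

namespace Data7

variable {G : Type u} [Group G] [Finite G] (E : Data7 G)

theorem fused {a b : Fin 64} {g : G} (h : g * E.D.el a * g⁻¹ = E.D.el b) : ∃ n, E.D.act n a = b := by
  obtain ⟨n, hn, he⟩ := E.D.fusion_A (d := E.D.el a) (g := g) (E.D.mem_A.2 ⟨a, rfl⟩) (h ▸ E.D.mem_A.2 ⟨b, rfl⟩)
  exact ⟨⟨n, hn⟩, E.D.el_inj (by rw [E.D.el_act]; exact he.trans h)⟩

theorem seven_iff (n : normalizer (E.D.A : Set G)) (a : Fin 64) :
    (E.D.act n a).val ∈ seven7 ↔ a.val ∈ seven7 := E.toPre7.act_seven n a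

theorem pair_iff {v : Fin 64} : ((seven7.any fun p => seven7.any fun q =>
    !(Nat.beq p q) && Nat.beq (p ^^^ q) v.val) = true) ↔
      ∃ p q : Fin 64, p.val ∈ seven7 ∧ q.val ∈ seven7 ∧ p ≠ q ∧ vx p q = v := by
  have hlt : ∀ x ∈ seven7, x < 64 := by decide
  simp only [List.any_eq_true, Bool.and_eq_true, Bool.not_eq_true', ← Bool.not_eq_true, Nat.beq_eq]
  constructor
  · rintro ⟨p, hp, q, hq, hne, he⟩
    exact ⟨⟨p, hlt p hp⟩, ⟨q, hlt q hq⟩, hp, hq, fun e => hne (congrArg Fin.val e), Fin.ext ((vx_val _ _).trans he)⟩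
  · rintro ⟨p, q, hp, hq, hne, rfl⟩
    exact ⟨p, hp, q, hq, fun e => hne (Fin.ext e), (vx_val p q).symm⟩

theorem cl_act (n : normalizer (E.D.A : Set G)) (a : Fin 64) : clN (E.D.act n a).val = clN a.val := by
  have key : ∀ (n : normalizer (E.D.A : Set G)) (a : Fin 64),
      (∃ p q : Fin 64, p.val ∈ seven7 ∧ q.val ∈ seven7 ∧ p ≠ q ∧ vx p q = a) →
      ∃ p q : Fin 64, p.val ∈ seven7 ∧ q.val ∈ seven7 ∧ p ≠ q ∧ vx p q = E.D.act n a := by
    rintro n a ⟨p, q, hp, hq, hne, rfl⟩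
    exact ⟨_, _, (E.seven_iff n p).2 hp, (E.seven_iff n q).2 hq, fun e => hne (E.toPre7.act_inj n e),
      (E.D.act_add n p q).symm⟩
  have h1 : seven7.contains (E.D.act n a).val = seven7.contains a.val := by
    rw [Bool.eq_iff_iff, List.contains_iff_mem, List.contains_iff_mem]
    exact E.seven_iff n a
  have h2 : (seven7.any fun p => seven7.any fun q => !(Nat.beq p q) && Nat.beq (p ^^^ q) (E.D.act n a).val) =
      seven7.any fun p => seven7.any fun q => !(Nat.beq p q) && Nat.beq (p ^^^ q) a.val := by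
    rw [Bool.eq_iff_iff, pair_iff, pair_iff]
    exact ⟨fun h => by simpa [E.toPre7.act_inv] using key n⁻¹ _ h, key n a⟩
  unfold clN
  rw [h1, h2]

theorem isL_act (n : normalizer (E.D.A : Set G)) {a : Fin 64} (h : E.IsL a) : E.IsL (E.D.act n a) := by
  obtain ⟨p, q, r, hl, rfl⟩ := h
  exact ⟨_, _, _, E.toPre7.tl_act n hl, by rw [E.D.act_add, E.D.act_add]⟩

theorem isL_twenty : E.IsL 20 := ⟨21, 2, 3, E.toPre7.line_alpha (p := 2) (by decide), by decide⟩

theorem not_isL {t : Fin 64} (ht : t = 8 ∨ t = 12 ∨ t = 32 ∨ t = 48) : ¬ E.IsL (vx t 1) := by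
  rintro ⟨p, q, r, hl, he⟩
  have h := List.all_eq_true.1 (List.all_eq_true.1 (List.all_eq_true.1 triple_sum p.val hl.1) q.val hl.2.1)
    r.val hl.2.2.1
  have hc : [9, 13, 33, 49].contains (p.val ^^^ q.val ^^^ r.val) = true := by
    rw [← vx_val, ← vx_val, he]
    rcases ht with rfl | rfl | rfl | rfl <;> rfl
  rw [hc] at h
  simp only [Bool.not_true, Bool.false_or, Bool.or_eq_true, Bool.and_eq_true, Nat.beq_eq, Bool.not_eq_true',
    ← Bool.not_eq_true] at h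
  have a2 := E.toPre7.line_alpha (p := 2) (by decide)
  have h23 : E.TL 2 3 21 := E.toPre7.line_rot (E.toPre7.line_swap a2)
  obtain ⟨-, -, -, n1, n2, n3, -⟩ := id hl
  rcases h with (((((((e | e) | e) | ⟨⟨e1, e2⟩, e3⟩) | ⟨⟨e1, e2⟩, e3⟩) | ⟨⟨e1, e2⟩, e3⟩) | ⟨⟨e1, e2⟩, e3⟩) |
    ⟨⟨e1, e2⟩, e3⟩) | ⟨⟨e1, e2⟩, e3⟩
  · exact n1 (Fin.ext e)
  · exact n2 (Fin.ext e)
  · exact n3 (Fin.ext e)
  all_goals refine e3 (congrArg Fin.val ?_ : _ = (21 : Fin 64).val)
  · rw [show p = 2 from Fin.ext e1, show q = 3 from Fin.ext e2] at hl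
    exact E.toPre7.line_unique hl h23
  · rw [show p = 3 from Fin.ext e1, show q = 2 from Fin.ext e2] at hl
    exact E.toPre7.line_unique (E.toPre7.line_swap hl) h23
  · rw [show p = 2 from Fin.ext e1, show r = 3 from Fin.ext e2] at hl
    exact E.toPre7.line_unique (E.toPre7.line_rot hl) h23
  · rw [show p = 3 from Fin.ext e1, show r = 2 from Fin.ext e2] at hl
    exact E.toPre7.line_unique (E.toPre7.line_swap (E.toPre7.line_rot hl)) h23
  · rw [show q = 2 from Fin.ext e1, show r = 3 from Fin.ext e2] at hl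
    exact E.toPre7.line_unique (E.toPre7.line_rot (E.toPre7.line_swap hl)) h23
  · rw [show q = 3 from Fin.ext e1, show r = 2 from Fin.ext e2] at hl
    exact E.toPre7.line_unique (E.toPre7.line_swap (E.toPre7.line_rot (E.toPre7.line_swap hl))) h23

theorem span_mem (Q : ℕ → Prop) (h0 : Q 0) (hx : ∀ a b, Q a → Q b → Q (b ^^^ a)) (l : List ℕ) :
    (∀ a ∈ l, Q a) → ∀ b ∈ spanN l, Q b := by
  unfold spanN
  suffices h : ∀ acc : List ℕ, (∀ b ∈ acc, Q b) → (∀ a ∈ l, Q a) →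
      ∀ b ∈ l.foldl (fun acc a => acc ++ acc.map (fun b => b ^^^ a)) acc, Q b from
    h [0] (by simpa using h0)
  induction l with
  | nil => exact fun acc h _ => h
  | cons a l ih =>
    intro acc hacc hl
    refine ih (acc ++ acc.map fun b => b ^^^ a) (fun b hb => ?_) fun c hc => hl c (List.mem_cons_of_mem a hc)
    rcases List.mem_append.1 hb with hb | hb
    · exact hacc b hb
    · obtain ⟨c, hc, rfl⟩ := List.mem_map.1 hb
      exact hx a c (hl a List.mem_cons_self) (hacc c hc)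

end Data7

namespace Whole7

variable {G : Type u} [Group G] [Finite G] {E : Data7 G} (W : Whole7 E)

theorem el_mem (v : Fin 64) : E.D.el v ∈ W.K := W.range_le _

theorem word_mem_K (w : List (Fin 4)) : ((w.map E.D.fG).prod : G) ∈ W.K := by
  induction w with
  | nil => simp
  | cons i w ih =>
    rw [List.map_cons, List.prod_cons, Subgroup.coe_mul]
    exact mul_mem (W.range_le _) ih

theorem cent_alpha {g : G} (h : g * E.D.α = E.D.α * g) : g ∈ W.K := by
  obtain ⟨c, rfl⟩ := E.D.exists_pre h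
  exact W.range_le c

theorem to_P {z : G} (hz : z ∈ W.K) (hz2 : z * z = 1) : ∃ k ∈ W.K, ∃ x : C0, E.D.φ x = k * z * k⁻¹ := by
  have hPK : (E.D.P : Subgroup G) ≤ W.K := fun g hg => by
    obtain ⟨x, -, rfl⟩ := E.D.mem_P.1 hg
    exact W.range_le x
  obtain ⟨k, hk⟩ := conj_into W.K.subtype W.K.subtype_injective E.D.sylow ((E.D.P : Subgroup G).subgroupOf W.K)
    (by rw [Nat.card_congr (subgroupOfEquivOfLe hPK).toEquiv, E.D.sylow])
    (closure {(⟨z, hz⟩ : W.K)}) (isPGroup_of_sq (elem_closure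
      (by intro a ha; rw [Set.mem_singleton_iff.1 ha]; exact Subtype.ext hz2)
      (by intro a ha b hb; rw [Set.mem_singleton_iff.1 ha, Set.mem_singleton_iff.1 hb])))
  obtain ⟨x, -, hx⟩ := E.D.mem_P.1 (hk _ (Subgroup.subset_closure (Set.mem_singleton _)))
  exact ⟨k, k.2, x, hx⟩

theorem to_A {z : G} (hz : z ∈ W.K) (hz2 : z * z = 1) : ∃ k ∈ W.K, ∃ v, k * z * k⁻¹ = E.D.el v := by
  obtain ⟨k, hk, x, hx⟩ := W.to_P hz hz2
  have hx2 : x * x = 1 := E.D.inj (by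
    rw [map_mul, hx, map_one, conj_mul, hz2, mul_one, mul_inv_cancel])
  obtain ⟨d, v, hv⟩ := conj_into_A0 hx2
  refine ⟨E.D.φ d * k, mul_mem (W.range_le d) hk, v, ?_⟩
  rw [Ctx.el, ← show d * x * d⁻¹ = a0 v from Subtype.ext hv, map_mul, map_mul, map_inv, hx]
  group

theorem six_conj {p : Fin 64} (hp : p.val ∈ six6) : ∃ k ∈ W.K, k * E.D.el 2 * k⁻¹ = E.D.el p ∧
    k * E.D.α * k⁻¹ = E.D.α := by
  obtain ⟨w1, w2⟩ := word1_table p hp
  refine ⟨_, W.word_mem_K (word1 p), ?_, ?_⟩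
  · rw [← E.D.el_act, show E.D.act _ 2 = p from Fin.ext ((E.act_word _ _).trans w2)]
  · rw [← E.D.el_alpha, ← E.D.el_act, show E.D.act _ 21 = 21 from Fin.ext ((E.act_word _ _).trans w1)]

theorem T_K {t : G} (hT : E.D.IsT t) (ht : t ∈ W.K) : ∃ k ∈ W.K, k * E.D.α * k⁻¹ = t := by
  obtain ⟨k, hk, v, hv⟩ := W.to_A ht (E.D.isT_sq hT)
  have hv7 : v.val ∈ seven7 := (E.isT_el v).1 (hv ▸ E.D.isT_conj hT k)
  rcases seven_cases v hv7 with rfl | hv6
  · exact ⟨k⁻¹, inv_mem hk, by rw [← E.D.el_alpha, ← hv]; group⟩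
  · obtain ⟨a, ha, ha'⟩ := W.alpha_two
    obtain ⟨b, hb, hb', -⟩ := W.six_conj hv6
    exact ⟨k⁻¹ * b * a, mul_mem (mul_mem (inv_mem hk) hb) ha, by
      rw [show k⁻¹ * b * a * E.D.α * (k⁻¹ * b * a)⁻¹ = k⁻¹ * (b * (a * E.D.α * a⁻¹) * b⁻¹) * k by group, ha', hb',
        ← hv]
      group⟩

/-- The conjugates of the central involution fix a single point. -/
theorem own {t g : G} (hT : E.D.IsT t) (ht : t ∈ W.K) (hg : g * t * g⁻¹ ∈ W.K) : g ∈ W.K := by
  obtain ⟨a, ha, rfl⟩ := W.T_K hT ht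
  obtain ⟨b, hb, hb'⟩ := W.T_K (E.D.isT_conj hT g) hg
  have h := W.cent_alpha (g := b⁻¹ * g * a) (by
    calc b⁻¹ * g * a * E.D.α = b⁻¹ * (g * (a * E.D.α * a⁻¹) * g⁻¹) * g * a := by group
      _ = _ := by rw [← hb']; group)
  have := mul_mem (mul_mem hb h) (inv_mem ha)
  rwa [show b * (b⁻¹ * g * a) * a⁻¹ = g by group] at this

theorem cent_T {t g : G} (hT : E.D.IsT t) (ht : t ∈ W.K) (hg : g * t = t * g) : g ∈ W.K :=
  W.own hT ht (by rw [hg, mul_inv_cancel_right]; exact ht)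

theorem norm_le (h : normalizer (E.D.A : Set G)) : h.1 ∈ W.K :=
  W.own ((E.isT_el 21).2 (by decide)) (W.el_mem 21) (by rw [← E.D.el_act]; exact W.el_mem _)

/-- an even product of two conjugates of the central involution -/
theorem link {u v : G} (hu : E.D.IsT u) (hv : E.D.IsT v) (huK : u ∈ W.K) :
    (∃ c ∈ zpowers (u * v), c * u * c⁻¹ = v) ∨
    ∃ z ∈ zpowers (u * v), z * z = 1 ∧ z ≠ 1 ∧ z * u = u * z ∧ z * v = v * z ∧ z ∈ W.K ∧
      E.D.IsT (u * z) ∧ E.D.IsT (v * z) ∧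
      ((∃ c ∈ zpowers (u * v), c * (u * z) * c⁻¹ = v) ∨ ∃ c ∈ zpowers (u * v), c * u * c⁻¹ = u * z) := by
  rcases dih (E.D.isT_sq hu) (E.D.isT_sq hv) with h | ⟨z, hz, hz2, hz1, hzu, hzv, hc⟩
  · exact Or.inl h
  refine Or.inr ⟨z, hz, hz2, hz1, hzu, hzv, W.cent_T hu huK hzu, ?_⟩
  have hcz : ∀ c ∈ zpowers (u * v), c * z * c⁻¹ = z := fun c hc => by
    have : z * (u * v) = u * v * z := by rw [← mul_assoc, hzu, mul_assoc, hzv, ← mul_assoc]
    obtain ⟨k, rfl⟩ := mem_zpowers_iff.1 hc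
    rw [← ((show Commute z (u * v) from this).zpow_right k).eq, mul_inv_cancel_right]
  rcases hc with ⟨c, hc, h⟩ | ⟨c, hc, h⟩
  · refine ⟨?_, ?_, Or.inl ⟨c, hc, h⟩⟩
    · have := E.D.isT_conj hv c⁻¹
      rwa [← h, show c⁻¹ * (c * (u * z) * c⁻¹) * c⁻¹⁻¹ = u * z by group] at this
    · have := E.D.isT_conj hu c
      rwa [show c * u * c⁻¹ = c * (u * z) * c⁻¹ * (c * z * c⁻¹)⁻¹ by group, h, hcz c hc,
        inv_eq_of_mul_eq_one_right hz2] at this
  · have hu' : c * u * c⁻¹ = u * z := by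
      have hcw : c * (u * v) * c⁻¹ = u * v := by
        obtain ⟨k, rfl⟩ := mem_zpowers_iff.1 hc
        rw [((Commute.refl (u * v)).zpow_left k).eq, mul_inv_cancel_right]
      calc c * u * c⁻¹ = c * (u * v) * c⁻¹ * (c * v * c⁻¹)⁻¹ := by group
        _ = u * v * (v * z)⁻¹ := by rw [hcw, h]
        _ = _ := by
          rw [mul_inv_rev, inv_eq_of_mul_eq_one_right hz2, inv_eq_of_mul_eq_one_right (E.D.isT_sq hv), hzv,
            ← mul_assoc, mul_assoc u v v, E.D.isT_sq hv, mul_one]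
    exact ⟨hu' ▸ E.D.isT_conj hu c, h ▸ E.D.isT_conj hv c, Or.inr ⟨c, hc, hu'⟩⟩

omit [Finite G] in
theorem zcomm {u v e : G} (hu : u * e = e * u) (hv : v * e = e * v) {c : G} (hc : c ∈ zpowers (u * v)) :
    c * e = e * c := by
  obtain ⟨k, rfl⟩ := mem_zpowers_iff.1 hc
  exact ((show Commute (u * v) e from (show Commute u e from hu).mul_left hv).zpow_left k).eq

/-- the sixteen and the others commute -/
theorem el_commute (a b : Fin 64) : E.D.el a * E.D.el b = E.D.el b * E.D.el a :=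
  E.D.A_comm (E.D.mem_A.2 ⟨a, rfl⟩) (E.D.mem_A.2 ⟨b, rfl⟩)

include W in
/-- the partner of a translation against an outer conjugate -/
theorem edge {v : G} (hv : E.D.IsT v) (hv1 : v * E.D.el 1 = E.D.el 1 * v) (hv1T : E.D.IsT (v * E.D.el 1))
    {t : Fin 64} (ht : t = 21 ∨ t = 8 ∨ t = 12 ∨ t = 32 ∨ t = 48) :
    ∃ q : Fin 64, q.val ∈ six6 ∧ q ≠ t ∧ (t = 21 → q = 2 ∨ q = 3) ∧
      E.D.el (vx t q) * v = v * E.D.el (vx t q) := by
  have ht7 : t.val ∈ seven7 := by rcases ht with rfl | rfl | rfl | rfl | rfl <;> decide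
  have ht1 : (vx t 1).val ∉ seven7 := by rcases ht with rfl | rfl | rfl | rfl | rfl <;> decide
  have hte : E.D.el t * E.D.el 1 = E.D.el 1 * E.D.el t := el_commute t 1
  rcases W.link ((E.isT_el t).2 ht7) hv (W.el_mem t) with ⟨c, hc, h⟩ |
    ⟨z, hz, -, hz1, hzt, hzv, hzK, hsT, -, hcase⟩
  · exfalso
    refine ht1 ((E.isT_el _).1 ?_)
    have := E.D.isT_conj hv1T c⁻¹
    rwa [← h, inv_inv, show c⁻¹ * (c * E.D.el t * c⁻¹ * E.D.el 1) * c = E.D.el t * (c⁻¹ * (E.D.el 1 * c)) by group,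
      ← zcomm hte hv1 hc, inv_mul_cancel_left, E.D.el_mul] at this
  set s := E.D.el t * z with hs
  have hs1 : s * E.D.el 1 = E.D.el 1 * s := by
    rw [hs, mul_assoc, zcomm hte hv1 hz, ← mul_assoc, hte, mul_assoc]
  have hst : s * E.D.el t = E.D.el t * s := by rw [hs, mul_assoc, hzt]
  have hzs : z = E.D.el t * s := by rw [hs, ← mul_assoc, E.D.el_sq, one_mul]
  have hres : ∀ q : Fin 64, s = E.D.el q → E.D.el (vx t q) * v = v * E.D.el (vx t q) ∧ q ≠ t := fun q hq =>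
    ⟨by rw [← E.D.el_mul, ← hq, ← hzs, hzv], fun e => hz1 (by rw [hzs, hq, e, E.D.el_sq])⟩
  -- the product with the pair element
  have hs1T : E.D.IsT (s * E.D.el 1) ∨ ∃ c : G, c * E.D.el (vx t 1) * c⁻¹ = s * E.D.el 1 := by
    rcases hcase with ⟨c, hc, h⟩ | ⟨c, hc, h⟩
    · left
      have := E.D.isT_conj hv1T c⁻¹
      rwa [← h, inv_inv, show c⁻¹ * (c * s * c⁻¹ * E.D.el 1) * c = s * (c⁻¹ * (E.D.el 1 * c)) by group,
        ← zcomm hte hv1 hc, inv_mul_cancel_left] at this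
    · refine Or.inr ⟨c, ?_⟩
      rw [← E.D.el_mul, ← h, show c * (E.D.el t * E.D.el 1) * c⁻¹ = c * E.D.el t * c⁻¹ * (c * E.D.el 1 * c⁻¹)
        by group, zcomm hte hv1 hc, mul_inv_cancel_right]
  by_cases h21 : t = 21
  · subst h21
    rw [E.D.el_alpha] at hst
    obtain ⟨x, hx⟩ := E.D.exists_pre hst
    rcases E.T_C0 (hx ▸ hsT) with rfl | ⟨hxtl, -⟩
    · exfalso
      exact hz1 (by rw [hzs, ← hx, E.D.el_alpha]; exact E.D.alpha_sq)
    have hc1 : cm (enc x.1) (avN 1) = true := enc_a0 1 ▸ E.D.g_comm.2 (by rw [hx]; exact hs1)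
    have h := List.all_eq_true.1 conj_eight _ hxtl
    rw [hc1] at h
    simp only [Bool.not_true, Bool.false_or, Bool.or_eq_true, Nat.beq_eq, List.any_eq_true, List.mem_range,
      Bool.and_eq_true] at h
    have hfin : ∀ q : Fin 64, enc x.1 = avN q.val → (q = 2 ∨ q = 3) →
        ∃ q : Fin 64, q.val ∈ six6 ∧ q ≠ 21 ∧ ((21 : Fin 64) = 21 → q = 2 ∨ q = 3) ∧
          E.D.el (vx 21 q) * v = v * E.D.el (vx 21 q) := by
      intro q he hq
      have h1 := hres q (by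
        rw [← hx, Ctx.el, show x = a0 q from Subtype.ext (enc_inj (he.trans (enc_a0 q).symm))])
      exact ⟨q, by rcases hq with rfl | rfl <;> decide, h1.2, fun _ => hq, h1.1⟩
    rcases h with (h | h) | ⟨k, hk, y, hy, ⟨⟨hg0, hg1⟩, hg8⟩⟩
    · exact hfin 2 h (Or.inl rfl)
    · exact hfin 3 h (Or.inr rfl)
    exfalso
    rw [← enc_seven.2.2.2] at hk
    obtain ⟨p, hp, rfl⟩ := List.mem_map.1 hk
    have hpc : cm (enc p) tpN = true :=
      List.all_eq_true.1 kP_facts.1 _ (enc_seven.2.2.2 ▸ List.mem_map.2 ⟨p, hp, rfl⟩)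
    set g : C0 := ⟨p, mem_of_code (kP_facts.2 p hp) hpc⟩ * a0 ⟨y, hy⟩ with hgdef
    have hge : enc g.1 = mN (enc p) (avN y) := by rw [hgdef, Subgroup.coe_mul, enc_mul, enc_a0]
    have e1 : E.D.φ g * E.D.el 1 = E.D.el 1 * E.D.φ g :=
      E.D.g_comm.1 (by rw [hge, enc_a0]; exact hg1)
    have e8 : E.D.φ g * s * (E.D.φ g)⁻¹ = E.D.el 8 := by
      have : g * x = a0 8 * g := Subtype.ext (enc_inj (by
        show enc (g.1 * x.1) = enc ((a0 8).1 * g.1)
        rw [enc_mul, enc_mul, hge, enc_a0]; exact hg8))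
      rw [← hx, ← map_mul, this, map_mul, mul_inv_cancel_right]
      rfl
    have e9 : E.D.φ g * (s * E.D.el 1) * (E.D.φ g)⁻¹ = E.D.el (vx 8 1) := by
      rw [← E.D.el_mul, ← e8, show E.D.φ g * (s * E.D.el 1) * (E.D.φ g)⁻¹ =
        E.D.φ g * s * (E.D.φ g)⁻¹ * (E.D.φ g * E.D.el 1 * (E.D.φ g)⁻¹) by group, e1, mul_inv_cancel_right]
    rcases hs1T with hT | ⟨c, hc⟩
    · exact absurd ((E.isT_el _).1 (e9 ▸ E.D.isT_conj hT _)) (by decide)
    · obtain ⟨n, hn⟩ := E.fused (g := E.D.φ g * c) (a := vx 21 1) (b := vx 8 1) (by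
        rw [← e9, ← hc]; group)
      exact E.not_isL (Or.inl rfl) (hn ▸ E.isL_act n (show E.IsL (vx 21 1) from
        (show vx 21 1 = 20 by decide) ▸ E.isL_twenty))
  · have ht4 : t = 8 ∨ t = 12 ∨ t = 32 ∨ t = 48 := ht.resolve_left h21
    obtain ⟨h, h21'⟩ := E.toPre7.exists_one ht7
    obtain ⟨x, hx, hxT, hxc, -⟩ := E.pull_T h hsT (by rw [h21']; exact hst)
    rcases E.T_C0 hxT with rfl | ⟨hxtl, -⟩
    · exfalso
      have hse : s = E.D.el t := by
        rw [← h21', E.D.el_act, E.D.el_alpha, show E.D.α = h.1⁻¹ * s * h.1 from hx]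
        group
      exact hz1 (by rw [hzs, hse, E.D.el_sq])
    have hb : ∀ p : Fin 64, (p = 2 ∨ p = 3) → (E.D.act h⁻¹ p).val ∈ six6 := by
      intro p hp
      have hp7 : p.val ∈ seven7 := by rcases hp with rfl | rfl <;> decide
      rcases seven_cases _ ((E.toPre7.act_seven h⁻¹ p).2 hp7) with e | e
      · exfalso
        have : p = t := by rw [← h21', ← e, ← E.D.act_mul, mul_inv_cancel, E.D.act_one]
        subst this
        rcases hp with e' | e' <;> rw [e'] at ht4 <;> exact absurd ht4 (by decide)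
      · exact e
    have hback : ∀ p, E.D.act h (E.D.act h⁻¹ p) = p := fun p => by
      rw [← E.D.act_mul, mul_inv_cancel, E.D.act_one]
    have ha := hb 2 (Or.inl rfl)
    have hb3 := hb 3 (Or.inr rfl)
    have hm := List.all_eq_true.1 (List.all_eq_true.1 model_pairs _ ha) _ hb3
    have n1 : Nat.beq (E.D.act h⁻¹ 2).val (E.D.act h⁻¹ 3).val = false := by
      rw [← Bool.not_eq_true, Nat.beq_eq]
      exact fun e => absurd (E.toPre7.act_inj _ (Fin.ext e)) (by decide)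
    have n2 : Nat.beq (prt (E.D.act h⁻¹ 2).val) (E.D.act h⁻¹ 3).val = false := by
      rw [← Bool.not_eq_true, Nat.beq_eq, (six_facts' _ ha).2.1]
      intro e
      have h1 := E.toPre7.tl_act h (E.toPre7.line_alpha ha)
      rw [show prtF (E.D.act h⁻¹ 2) = E.D.act h⁻¹ 3 from Fin.ext e, h21', hback, hback] at h1
      have := E.toPre7.line_unique (E.toPre7.line_rot (E.toPre7.line_swap h1))
        (E.toPre7.line_rot (E.toPre7.line_swap (E.toPre7.line_alpha (p := 2) (by decide))))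
      exact h21 this
    rw [n1, n2] at hm
    simp only [Bool.false_or] at hm
    replace hm := List.all_eq_true.1 hm _ hxtl
    have hc1 : cm (enc x.1) (avN ((E.D.act h⁻¹ 2).val ^^^ (E.D.act h⁻¹ 3).val)) = true := by
      rw [← vx_val, ← enc_a0]
      refine E.D.g_comm.2 ((hxc _).2 ?_)
      rw [E.D.act_add, hback, hback, show vx 2 3 = 1 by decide]
      exact hs1
    rw [hc1] at hm
    simp only [Bool.not_true, Bool.false_or, List.any_eq_true, Nat.beq_eq] at hm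
    obtain ⟨n, hn, he⟩ := hm
    have hn64 : n < 64 := (by decide : ∀ a ∈ six6, a < 64) n hn
    have hsq : s = E.D.el (E.D.act h ⟨n, hn64⟩) := by
      rw [E.D.el_act, Ctx.el,
        ← show x = a0 ⟨n, hn64⟩ from Subtype.ext (enc_inj (he.trans (enc_a0 ⟨n, hn64⟩).symm)), hx]
      group
    set q := E.D.act h ⟨n, hn64⟩
    have hq7 : q.val ∈ seven7 := (E.toPre7.act_seven h _).2 ((by decide : ∀ a ∈ six6, a ∈ seven7) n hn)
    rcases seven_cases q hq7 with e | hq6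
    · exfalso
      rw [hsq, e, E.D.el_mul] at hs1T
      rcases hs1T with hT | ⟨c, hc⟩
      · exact absurd ((E.isT_el _).1 hT) (by decide)
      · obtain ⟨k, hk⟩ := E.fused (g := c⁻¹) (a := vx 21 1) (b := vx t 1) (by rw [← hc]; group)
        exact E.not_isL ht4 (hk ▸ E.isL_act k (show E.IsL (vx 21 1) from
          (show vx 21 1 = 20 by decide) ▸ E.isL_twenty))
    · exact ⟨q, hq6, (hres q hsq).2, fun e => absurd e h21, (hres q hsq).1⟩

/-- No outer conjugate of the central involution pairs with the normalised element. -/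
theorem no_pair {v : G} (hvT : E.D.IsT v) (hvK : v ∉ W.K) (hv1 : v * E.D.el 1 = E.D.el 1 * v)
    (hv1T : E.D.IsT (v * E.D.el 1)) : False := by
  obtain ⟨s, hs6, -, hs23, hsc⟩ := W.edge hvT hv1 hv1T (t := 21) (Or.inl rfl)
  obtain ⟨a, ha6, han, -, hac⟩ := W.edge hvT hv1 hv1T (t := 8) (by tauto)
  obtain ⟨b, hb6, hbn, -, hbc⟩ := W.edge hvT hv1 hv1T (t := 12) (by tauto)
  obtain ⟨c, hc6, hcn, -, hcc⟩ := W.edge hvT hv1 hv1T (t := 32) (by tauto)
  obtain ⟨d, hd6, hdn, -, hdc⟩ := W.edge hvT hv1 hv1T (t := 48) (by tauto)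
  have hs : s.val ∈ [2, 3] := by rcases hs23 rfl with rfl | rfl <;> decide
  have h := List.all_eq_true.1 (List.all_eq_true.1 (List.all_eq_true.1 (List.all_eq_true.1
    (List.all_eq_true.1 span_hit _ hs) _ ha6) _ hb6) _ hc6) _ hd6
  have hne : ∀ {x y : Fin 64}, x ≠ y → Nat.beq x.val y.val = false := fun h => by
    rw [← Bool.not_eq_true, Nat.beq_eq]; exact fun e => h (Fin.ext e)
  rw [show Nat.beq a.val 8 = false from hne han, show Nat.beq b.val 12 = false from hne hbn,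
    show Nat.beq c.val 32 = false from hne hcn, show Nat.beq d.val 48 = false from hne hdn] at h
  simp only [Bool.false_or, List.any_eq_true, List.contains_iff_mem] at h
  obtain ⟨x, hx, hx7⟩ := h
  let Q : ℕ → Prop := fun n => ∃ h : n < 64, E.D.el ⟨n, h⟩ * v = v * E.D.el ⟨n, h⟩
  have hQv : ∀ p : Fin 64, E.D.el p * v = v * E.D.el p → Q p.val := fun p hp => ⟨p.isLt, hp⟩
  have hQ : Q x := by
    refine Data7.span_mem Q ?_ ?_ _ ?_ x hx
    · refine ⟨by norm_num, ?_⟩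
      rw [show E.D.el ⟨0, _⟩ = 1 from (congrArg E.D.φ (show a0 0 = 1 from Subtype.ext av_zero)).trans E.D.φ.map_one,
        one_mul, mul_one]
    · rintro a b ⟨ha, ha'⟩ ⟨hb, hb'⟩
      have h1 := hQv (vx ⟨b, hb⟩ ⟨a, ha⟩) (by
        rw [← E.D.el_mul, mul_assoc, ha', ← mul_assoc, hb', mul_assoc])
      rwa [vx_val] at h1
    · intro n hn
      have h21 := hQv _ hsc; have h8 := hQv _ hac; have h12 := hQv _ hbc
      have h32 := hQv _ hcc; have h48 := hQv _ hdc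
      rw [vx_val] at h21 h8 h12 h32 h48
      simp only [List.mem_cons, List.not_mem_nil, or_false] at hn
      rcases hn with rfl | rfl | rfl | rfl | rfl | rfl
      exacts [hQv 1 hv1.symm, h21, h8, h12, h32, h48]
  obtain ⟨hx64, hxv⟩ := hQ
  exact hvK (W.cent_T ((E.isT_el ⟨x, hx64⟩).2 hx7) (W.el_mem _) hxv.symm)

/-- Conjugates on different sides have odd product. -/
theorem odd_link {u v : G} (hu : E.D.IsT u) (hv : E.D.IsT v) (huK : u ∈ W.K) (hvK : v ∉ W.K) :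
    ∃ c ∈ zpowers (u * v), c * u * c⁻¹ = v := by
  rcases W.link hu hv huK with h | ⟨z, -, hz2, hz1, hzu, hzv, hzK, huz, hvz, -⟩
  · exact h
  exfalso
  obtain ⟨a, ha, ha'⟩ := W.T_K hu huK
  set y := a⁻¹ * (u * z) * a with hy
  have hyT : E.D.IsT y := by
    have := E.D.isT_conj huz a⁻¹
    rwa [inv_inv] at this
  have hyc : y * E.D.α = E.D.α * y := by
    calc y * E.D.α = a⁻¹ * (u * z * (a * E.D.α * a⁻¹)) * a := by rw [hy]; group
      _ = a⁻¹ * (u * (z * u)) * a := by rw [ha', mul_assoc u z u]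
      _ = a⁻¹ * (a * E.D.α * a⁻¹ * (u * z)) * a := by rw [hzu, ha']
      _ = _ := by rw [hy]; group
  obtain ⟨x, hx⟩ := E.D.exists_pre hyc
  rcases E.T_C0 (hx ▸ hyT) with rfl | ⟨-, d, p, hp, hd⟩
  · have h1 : u * z = u := by
      calc u * z = a * y * a⁻¹ := by rw [hy]; group
        _ = u := by rw [← hx]; exact ha'
    exact hz1 (mul_left_cancel (h1.trans (mul_one u).symm))
  obtain ⟨b, hb, hb2, hbα⟩ := W.six_conj hp
  obtain ⟨h, h21, h2⟩ := E.exists_two (p := 2) (q := 3) (by decide) (by decide) (by decide)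
  set k := h.1 * b⁻¹ * E.D.φ d * a⁻¹ with hk
  have hkK : k ∈ W.K :=
    mul_mem (mul_mem (mul_mem (W.norm_le h) (inv_mem hb)) (W.range_le d)) (inv_mem ha)
  have hbinv : b⁻¹ * E.D.α * b = E.D.α := by
    calc b⁻¹ * E.D.α * b = b⁻¹ * (b * E.D.α * b⁻¹) * b := by rw [hbα]
      _ = _ := by group
  have hku : k * u * k⁻¹ = E.D.el 2 := by
    rw [hk, ← ha', show h.1 * b⁻¹ * E.D.φ d * a⁻¹ * (a * E.D.α * a⁻¹) * (h.1 * b⁻¹ * E.D.φ d * a⁻¹)⁻¹ =
      h.1 * (b⁻¹ * (E.D.φ d * E.D.α * (E.D.φ d)⁻¹) * b) * h.1⁻¹ by group, E.D.comm, mul_inv_cancel_right, hbinv,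
      ← E.D.el_alpha, ← E.D.el_act, h21]
  have hkuz : k * (u * z) * k⁻¹ = E.D.el 3 := by
    rw [hk, show h.1 * b⁻¹ * E.D.φ d * a⁻¹ * (u * z) * (h.1 * b⁻¹ * E.D.φ d * a⁻¹)⁻¹ =
      h.1 * (b⁻¹ * (E.D.φ d * y * (E.D.φ d)⁻¹) * b) * h.1⁻¹ by rw [hy]; group, ← hx, ← map_inv, ← map_mul,
      ← map_mul, hd, show E.D.φ (a0 p) = E.D.el p from rfl, ← hb2,
      show b⁻¹ * (b * E.D.el 2 * b⁻¹) * b = E.D.el 2 by group, ← E.D.el_act, h2]
  have hkz : k * z * k⁻¹ = E.D.el 1 := by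
    rw [show k * z * k⁻¹ = (k * u * k⁻¹)⁻¹ * (k * (u * z) * k⁻¹) by group, hku, hkuz,
      inv_eq_of_mul_eq_one_right (E.D.el_sq 2), E.D.el_mul]
    rfl
  refine W.no_pair (v := k * v * k⁻¹) (E.D.isT_conj hv k) (fun e => hvK ?_) ?_ ?_
  · have := mul_mem (mul_mem (inv_mem hkK) e) hkK
    rwa [show k⁻¹ * (k * v * k⁻¹) * k = v by group] at this
  · rw [← hkz, conj_mul, conj_mul, hzv]
  · rw [← hkz, conj_mul]
    exact E.D.isT_conj hvz k

/-- An involution lies in one conjugate only. -/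
theorem no_fix {z g : G} (hz2 : z * z = 1) (hz1 : z ≠ 1) (hzK : z ∈ W.K) (hgz : g⁻¹ * z * g ∈ W.K) :
    g ∈ W.K := by
  by_contra hg
  obtain ⟨k, hk, w, hw⟩ := W.to_A hzK hz2
  set g1 := k * g with hg1
  have hg1K : g1 ∉ W.K := fun e => hg (by
    have := mul_mem (inv_mem hk) e
    rwa [hg1, inv_mul_cancel_left] at this)
  set z' := g⁻¹ * z * g with hz'
  have hgz' : g1 * z' * g1⁻¹ = E.D.el w := by rw [hg1, hz', ← hw]; group
  have hz'2 : z' * z' = 1 := by
    rw [hz', show g⁻¹ * z * g * (g⁻¹ * z * g) = g⁻¹ * (z * z) * g by group, hz2, mul_one, inv_mul_cancel]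
  obtain ⟨l, hl, w', hw'⟩ := W.to_A hgz hz'2
  set t := l⁻¹ * E.D.α * l with ht
  have hαT : E.D.IsT E.D.α := ⟨1, by group⟩
  have htT : E.D.IsT t := by
    have := E.D.isT_conj hαT l⁻¹
    rwa [inv_inv] at this
  have htK : t ∈ W.K := mul_mem (mul_mem (inv_mem hl) (W.range_le tp0)) hl
  have htz : t * z' = z' * t := by
    rw [ht, show z' = l⁻¹ * E.D.el w' * l by rw [← hw']; group]
    calc l⁻¹ * E.D.α * l * (l⁻¹ * E.D.el w' * l) = l⁻¹ * (E.D.α * E.D.el w') * l := by group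
      _ = l⁻¹ * (E.D.el w' * E.D.α) * l := by rw [← E.D.el_alpha, el_commute]
      _ = _ := by group
  set v := g1 * t * g1⁻¹ with hv
  have hvT : E.D.IsT v := E.D.isT_conj htT g1
  have hvK : v ∉ W.K := fun e => hg1K (W.own htT htK e)
  have hvw : v * E.D.el w = E.D.el w * v := by rw [hv, ← hgz', conj_mul, conj_mul, htz]
  have hw0 : w ≠ 0 := fun e => by
    rw [e, show E.D.el 0 = 1 from (congrArg E.D.φ (show a0 0 = 1 from Subtype.ext av_zero)).trans E.D.φ.map_one,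
      conj_eq_one_iff] at hw
    exact hz1 hw
  have hw7 : w.val ∉ seven7 := fun e => hg1K (W.own (t := z') (g := g1) (by
      have := E.D.isT_conj ((E.isT_el w).2 e) g1⁻¹
      rwa [← hgz', show g1⁻¹ * (g1 * z' * g1⁻¹) * g1⁻¹⁻¹ = z' by group] at this) hgz
    (hgz' ▸ W.el_mem w))
  have h := List.all_eq_true.1 two_types w.val (List.mem_range.2 w.isLt)
  rw [show Nat.beq w.val 0 = false by rw [← Bool.not_eq_true, Nat.beq_eq]; exact fun e => hw0 (Fin.ext e),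
    show seven7.contains w.val = false by rw [← Bool.not_eq_true, List.contains_iff_mem]; exact hw7] at h
  simp only [Bool.false_or, List.any_eq_true, Bool.not_eq_true', ← Bool.not_eq_true, Nat.beq_eq] at h
  obtain ⟨p, hp, q, hq, hne⟩ := h
  have hlt : ∀ a ∈ seven7, a < 64 := by decide
  have key : ∀ p : Fin 64, p.val ∈ seven7 → ∃ c : G, c * E.D.el (vx w p) * c⁻¹ = v * E.D.el w := by
    intro p hp
    obtain ⟨c, hc, h⟩ := W.odd_link ((E.isT_el p).2 hp) hvT (W.el_mem p) hvK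
    refine ⟨c, ?_⟩
    rw [← E.D.el_mul, el_commute, ← h, show c * (E.D.el p * E.D.el w) * c⁻¹ =
      c * E.D.el p * c⁻¹ * (c * E.D.el w * c⁻¹) by group, zcomm (el_commute p w) hvw hc, mul_inv_cancel_right]
  obtain ⟨a, ha⟩ := key ⟨p, hlt p hp⟩ hp
  obtain ⟨b, hb⟩ := key ⟨q, hlt q hq⟩ hq
  obtain ⟨n, hn⟩ := E.fused (g := b⁻¹ * a) (a := vx w ⟨p, hlt p hp⟩) (b := vx w ⟨q, hlt q hq⟩) (by
    calc b⁻¹ * a * E.D.el (vx w ⟨p, hlt p hp⟩) * (b⁻¹ * a)⁻¹
        = b⁻¹ * (a * E.D.el (vx w ⟨p, hlt p hp⟩) * a⁻¹) * b := by group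
      _ = _ := by rw [ha, ← hb]; group)
  have := E.cl_act n (vx w ⟨p, hlt p hp⟩)
  rw [hn, vx_val, vx_val] at this
  exact hne this.symm

theorem K_top : W.K = ⊤ := by
  refine eq_top_iff.2 fun g _ => ?_
  have hα : E.D.IsT E.D.α := ⟨1, by group⟩
  have h1 : E.D.el 1 ≠ 1 := fun e => by
    rw [← show E.D.el 0 = 1 from (congrArg E.D.φ (show a0 0 = 1 from Subtype.ext av_zero)).trans E.D.φ.map_one] at e
    exact absurd (E.D.el_inj e) (by decide)
  set V := g * E.D.el 1 * g⁻¹ with hV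
  have hV2 : V * V = 1 := by rw [hV, conj_mul, E.D.el_sq, mul_one, mul_inv_cancel]
  rcases dih E.D.alpha_sq hV2 with ⟨c, -, h⟩ | ⟨z, -, hz2, hz1, hzα, hzV, -⟩
  · exfalso
    refine absurd ((E.isT_el 1).1 ?_) (by decide)
    have := E.D.isT_conj hα (g⁻¹ * c)
    rwa [show g⁻¹ * c * E.D.α * (g⁻¹ * c)⁻¹ = g⁻¹ * (c * E.D.α * c⁻¹) * g by group, h,
      show g⁻¹ * V * g = E.D.el 1 by rw [hV]; group] at this
  have hzK := W.cent_alpha hzα
  have hVK : V ∈ W.K := W.no_fix hz2 hz1 hzK (by rw [mul_assoc, hzV, inv_mul_cancel_left]; exact hzK)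
  refine W.no_fix hV2 (fun e => h1 ?_) hVK ?_
  · rwa [hV, conj_eq_one_iff] at e
  · rw [show g⁻¹ * V * g = E.D.el 1 by rw [hV]; group]
    exact W.el_mem 1

end Whole7

/-- In the configuration with seven conjugates the group is symplectic. -/
theorem Data7.classification {G : Type u} [Group G] [Finite G] (E : Data7 G) :
    Nonempty (G ≃* Matrix.symplecticGroup (Fin 3) (ZMod 2)) := by
  obtain ⟨W⟩ := E.exists_whole
  obtain ⟨e⟩ := W.iso
  exact ⟨(((MulEquiv.subgroupCongr W.K_top).trans Subgroup.topEquiv).symm).trans e⟩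

end Cfsg.Agent.Spor.Yamaki
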