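import Cfsg.Agent.Lib.Spor.Yamaki.Gen
import Cfsg.Agent.Lib.Spor.Yamaki.PermThird

/-!
The three-cycle through a thirteenth point.
-/

set_option autoImplicit false
set_option maxRecDepth 100000
set_option Elab.async false
set_option linter.style.haveILetI false

universe u

namespace Cfsg.Agent.Spor.Yamaki

open Equiv Subgroup Cfsg.Agent.Small.BoundedPres Cfsg.Agent.Small.AltDeg

/-- the exchange of the second and third block -/
def bs12 : P12 := swap 4 8 * swap 5 9 * (swap 6 10 * swap 7 11)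

theorem bs12_facts : bs12 ∈ C0 ∧ (∀ i : Fin 12, i.val < 4 → bs12 i = i) ∧ bs12 * bs12 = 1 ∧
    bs12 * av 1 = av 1 * bs12 ∧ bs12 * av 16 = av 4 * bs12 ∧ bs12 * av 4 = av 16 * bs12 := by
  refine ⟨mem_C0.2 ?_, ?_⟩ <;> decide +kernel

theorem stab_words : fP 0 = gP 6 ∧
    cjP 2 = av 8 * cjP 1 * av 8 ∧ cjP 5 = bs12 * cjP 1 * bs12 ∧ cjP 6 = av 32 * cjP 5 * av 32 ∧
    cjP 3 = cjP 2 * cjP 5 * cjP 2 ∧ cjP 0 = 1 ∧ flip23 = av 1 * gP 6 ∧
    (∀ i : Fin 12, i.val < 4 → av 32 i = i) ∧ (∀ i : Fin 12, i.val < 4 → av 16 i = i) ∧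
    av 32 * av 4 = av 4 * av 32 ∧ av 16 * av 4 = av 4 * av 16 := by decide +kernel

theorem cjP_index : ∀ i : Fin 12, cIp i = 1 ∨ cIp i = cjP 1 ∨ cIp i = cjP 2 ∨ cIp i = cjP 5 ∨ cIp i = cjP 6 ∨
    cIp i = flip23 ∨ cIp i = cjP 1 * flip23 ∨ cIp i = cjP 2 * flip23 ∨ cIp i = cjP 5 * flip23 ∨
      cIp i = cjP 6 * flip23 := by decide +kernel

attribute [local irreducible] mN enc tab avN slAt gN idxN fixTop moved

namespace Lift

variable {G : Type u} [Group G] [Finite G] {E : Data27 G} (L : Lift E)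

include L in
/-- In degree nine there is a unique further three-cycle, centralised by the stabiliser of the common edge. -/
theorem exists_extra (ψ : E.XB →* Perm (Fin 9)) (hψ : Function.Injective ψ)
    (hr : ψ.range = alternatingGroup (Fin 9)) :
    ∃ z ∈ E.XB, z ^ 3 = 1 ∧ (L.y * z) ^ 2 = 1 ∧ ∀ c : C0, c.1 0 = 0 → c.1 1 = 1 → E.D.φ c * z = z * E.D.φ c := by
  obtain ⟨⟨p, q, r, f, H⟩, mF, hF⟩ := L.edge_data ψ (Or.inr rfl) hψ hr
  have sq : ∀ {x : C0}, x * x = 1 → E.D.φ x * E.D.φ x = 1 := fun h => by rw [← map_mul, h, map_one]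
  have s1 : L.vB 1 (by decide) * L.vB 1 (by decide) = 1 := Subtype.ext (sq (Subtype.ext (av_sq 1)))
  have se : L.eB * L.eB = 1 := Subtype.ext (sq (x := ⟨gP 6, gP_mem 6⟩) (Subtype.ext (gP_sq 6)))
  have hy3 : L.yB * L.yB * L.yB = 1 := Subtype.ext L.cube
  obtain ⟨Z, ⟨Z3, ZF, ZE, ZY⟩, hsign, Zc, ZF2, ZEe, Zu⟩ := exists_third (F2 := ψ (L.vB 8 (by decide)))
    (Fintype.card_fin 9) H (by rw [← map_mul, s1, map_one]) (by rw [← map_mul, se, map_one]) mF hF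
    (by rw [← map_mul, ← map_mul, hy3, map_one])
  obtain ⟨zX, rfl⟩ : ∃ x, ψ x = Z := by
    have hY : ψ L.yB ∈ alternatingGroup (Fin 9) := hr ▸ ⟨_, rfl⟩
    rw [← MonoidHom.mem_range, hr, Perm.mem_alternatingGroup, hsign]
    exact Perm.mem_alternatingGroup.1 hY
  set z : G := zX.1
  let TP : G → Prop := fun w => ThirdProp (E.D.el 1) (E.D.el 4) L.y w
  have hlift : ∀ {a b : E.XB}, ψ a = ψ b → (a : G) = b := fun h => congrArg Subtype.val (hψ h)
  have hz : TP z := by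
    refine ⟨?_, ?_, ?_, ?_⟩
    · exact hlift (a := zX * zX * zX) (b := 1) (by simpa only [map_mul, map_one] using Z3)
    · exact hlift (a := zX * L.vB 4 (by decide)) (b := L.vB 4 (by decide) * zX) (by simpa only [map_mul] using ZF)
    · exact hlift (a := L.vB 1 (by decide) * zX * L.vB 1 (by decide)) (b := zX⁻¹)
        (by simpa only [map_mul, map_inv] using ZE)
    · exact hlift (a := L.yB * zX * (L.yB * zX)) (b := 1) (by simpa only [map_mul, map_one] using ZY)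
  have huniq : ∀ w, w ∈ E.XB → TP w → w = z := by
    intro w hw ⟨w3, wF, wE, wY⟩
    let wX : E.XB := ⟨w, hw⟩
    refine hlift (a := wX) (b := zX) (Zu _ ⟨?_, ?_, ?_, ?_⟩)
    · rw [← map_mul, ← map_mul, show wX * wX * wX = 1 from Subtype.ext w3, map_one]
    · rw [← map_mul, ← map_mul]; exact congrArg ψ (Subtype.ext wF)
    · rw [← map_mul, ← map_mul, ← map_inv]; exact congrArg ψ (Subtype.ext wE)
    · rw [← map_mul, ← map_mul, show L.yB * wX * (L.yB * wX) = 1 from Subtype.ext wY, map_one]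
  have hzb : z * E.D.el 16 = E.D.el 16 * z := E.mem_HB.1 (E.XB_le zX.2)
  let S : Subgroup C0 := (centralizer ({z} : Set G)).comap E.D.φ
  have hS : ∀ c, c ∈ S ↔ E.D.φ c * z = z * E.D.φ c := fun c => mem_centralizer_singleton_iff
  have hfix : ∀ c : C0, (∀ i : Fin 12, i.val < 4 → c.1 i = i) → c * c = 1 → c * a0 1 = a0 1 * c →
      (∀ v : Fin 64, v = 4 ∨ v = 16 → ∃ w : Fin 64, (w = 4 ∨ w = 16) ∧ c * a0 v = a0 w * c) → c ∈ S := by
    intro c h4 hcc hc1 hperm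
    have hinv : (E.D.φ c)⁻¹ = E.D.φ c := inv_eq_of_mul_eq_one_right (sq hcc)
    set k := MulAut.conj (E.D.φ c)
    have ky : k L.y = L.y := by
      show E.D.φ c * L.y * (E.D.φ c)⁻¹ = L.y
      rw [← L.comm_fix h4]; group
    have kel : ∀ {v w : Fin 64}, c * a0 v = a0 w * c → k (E.D.el v) = E.D.el w := fun h => E.D.el_conj c h
    obtain ⟨z3, zF, zE, zY⟩ := hz
    have kcomm : ∀ w : Fin 64, (w = 4 ∨ w = 16) → k z * E.D.el w = E.D.el w * k z := by
      intro w hw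
      obtain ⟨v, hv, he⟩ := hperm w hw
      have he' : c * a0 v = a0 w * c := by
        calc c * a0 v = c * (a0 v * c) * c⁻¹ := by group
          _ = c * (c * a0 w) * c⁻¹ := by rw [he]
          _ = c * c * a0 w * c⁻¹ := by group
          _ = _ := by rw [hcc, one_mul, inv_eq_of_mul_eq_one_right hcc]
      rw [← kel he', ← map_mul, ← map_mul]
      rcases hv with rfl | rfl
      · rw [zF]
      · rw [hzb]
    have kz3 : k z * k z * k z = 1 := by rw [← map_mul, ← map_mul, z3, map_one]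
    have kX : k z ∈ E.XB := by
      refine subset_closure ⟨E.mem_HB.2 (kcomm 16 (Or.inr rfl)), ?_⟩
      rcases (Nat.dvd_prime Nat.prime_three).1 (orderOf_dvd_of_pow_eq_one (show k z ^ 3 = 1 by rw [pow_three', kz3]))
        with e | e <;> rw [e] <;> decide
    have := huniq (k z) kX ⟨kz3, kcomm 4 (Or.inl rfl), by
      rw [← kel (v := 1) (w := 1) hc1, ← map_mul, ← map_mul, zE, map_inv], by
      conv_lhs => rw [← ky]
      rw [← map_mul, ← map_mul, zY, map_one]⟩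
    rw [hS]
    change E.D.φ c * z * (E.D.φ c)⁻¹ = z at this
    exact mul_inv_eq_iff_eq_mul.1 this
  obtain ⟨w0, w2, w5, w6, w3, wz, wflip, f32, f16, c32, c16⟩ := stab_words
  obtain ⟨bm, bfix, bsq, b1, b16, b4⟩ := bs12_facts
  have mem4 : a0 4 ∈ S := (hS _).2 hz.2.1.symm
  have mem16 : a0 16 ∈ S := (hS _).2 hzb.symm
  have mem8 : a0 8 ∈ S := (hS _).2 (hlift (a := L.vB 8 (by decide) * zX) (b := zX * L.vB 8 (by decide))
    (by simpa only [map_mul] using ZF2))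
  have memc : (⟨cjP 1, cjP_mem 1⟩ : C0) ∈ S := (hS _).2 (hlift (a := L.cB * zX) (b := zX * L.cB)
    (by simpa only [map_mul] using Zc))
  have memf : (⟨flip23, flip23_mem⟩ : C0) ∈ S := by
    rw [show (⟨flip23, flip23_mem⟩ : C0) = a0 1 * ⟨gP 6, gP_mem 6⟩ from Subtype.ext wflip, hS, map_mul]
    exact hlift (a := L.vB 1 (by decide) * L.eB * zX) (b := zX * (L.vB 1 (by decide) * L.eB))
      (by simpa only [map_mul] using ZEe)
  have membs : (⟨bs12, bm⟩ : C0) ∈ S := hfix _ bfix (Subtype.ext bsq) (Subtype.ext b1) fun v hv => by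
    rcases hv with rfl | rfl
    exacts [⟨16, Or.inr rfl, Subtype.ext b4⟩, ⟨4, Or.inl rfl, Subtype.ext b16⟩]
  have mem32 : a0 32 ∈ S := hfix _ f32 (Subtype.ext (av_sq 32)) (Subtype.ext (A0_comm ⟨32, rfl⟩ ⟨1, rfl⟩))
    fun v hv => ⟨v, hv, Subtype.ext (A0_comm ⟨32, rfl⟩ ⟨v, rfl⟩)⟩
  have m2 : (⟨cjP 2, cjP_mem 2⟩ : C0) ∈ S := by
    rw [show (⟨cjP 2, cjP_mem 2⟩ : C0) = a0 8 * ⟨cjP 1, cjP_mem 1⟩ * a0 8 from Subtype.ext w2]
    exact mul_mem (mul_mem mem8 memc) mem8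
  have m5 : (⟨cjP 5, cjP_mem 5⟩ : C0) ∈ S := by
    rw [show (⟨cjP 5, cjP_mem 5⟩ : C0) = ⟨bs12, bm⟩ * ⟨cjP 1, cjP_mem 1⟩ * ⟨bs12, bm⟩ from Subtype.ext w5]
    exact mul_mem (mul_mem membs memc) membs
  have m6 : (⟨cjP 6, cjP_mem 6⟩ : C0) ∈ S := by
    rw [show (⟨cjP 6, cjP_mem 6⟩ : C0) = a0 32 * ⟨cjP 5, cjP_mem 5⟩ * a0 32 from Subtype.ext w6]
    exact mul_mem (mul_mem mem32 m5) mem32
  have m3 : (⟨cjP 3, cjP_mem 3⟩ : C0) ∈ S := by
    rw [show (⟨cjP 3, cjP_mem 3⟩ : C0) = ⟨cjP 2, cjP_mem 2⟩ * ⟨cjP 5, cjP_mem 5⟩ * ⟨cjP 2, cjP_mem 2⟩ from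
      Subtype.ext w3]
    exact mul_mem (mul_mem m2 m5) m2
  have mI : ∀ i : Fin 12, (⟨cIp i, cIp_mem i⟩ : C0) ∈ S := by
    intro i
    rcases cjP_index i with h | h | h | h | h | h | h | h | h | h
    · rw [show (⟨cIp i, cIp_mem i⟩ : C0) = 1 from Subtype.ext h]; exact one_mem _
    · rw [show (⟨cIp i, cIp_mem i⟩ : C0) = ⟨_, cjP_mem 1⟩ from Subtype.ext h]; exact memc
    · rw [show (⟨cIp i, cIp_mem i⟩ : C0) = ⟨_, cjP_mem 2⟩ from Subtype.ext h]; exact m2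
    · rw [show (⟨cIp i, cIp_mem i⟩ : C0) = ⟨_, cjP_mem 5⟩ from Subtype.ext h]; exact m5
    · rw [show (⟨cIp i, cIp_mem i⟩ : C0) = ⟨_, cjP_mem 6⟩ from Subtype.ext h]; exact m6
    · rw [show (⟨cIp i, cIp_mem i⟩ : C0) = ⟨flip23, flip23_mem⟩ from Subtype.ext h]; exact memf
    · rw [show (⟨cIp i, cIp_mem i⟩ : C0) = ⟨_, cjP_mem 1⟩ * ⟨flip23, flip23_mem⟩ from Subtype.ext h]
      exact mul_mem memc memf
    · rw [show (⟨cIp i, cIp_mem i⟩ : C0) = ⟨_, cjP_mem 2⟩ * ⟨flip23, flip23_mem⟩ from Subtype.ext h]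
      exact mul_mem m2 memf
    · rw [show (⟨cIp i, cIp_mem i⟩ : C0) = ⟨_, cjP_mem 5⟩ * ⟨flip23, flip23_mem⟩ from Subtype.ext h]
      exact mul_mem m5 memf
    · rw [show (⟨cIp i, cIp_mem i⟩ : C0) = ⟨_, cjP_mem 6⟩ * ⟨flip23, flip23_mem⟩ from Subtype.ext h]
      exact mul_mem m6 memf
  have mf0 : ∀ k < 192, ∀ x : C0, enc x.1 = f0L.getD k 0 → x ∈ S := by
    intro k
    induction k using Nat.strong_induction_on with
    | _ k ih =>
      intro hk x hx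
      have h := List.all_eq_true.1 f0_chain k (List.mem_range.2 hk)
      split_ifs at h with h0
      · rw [show x = 1 from Subtype.ext (enc_inj (by rw [hx, Nat.beq_eq.mp h, Subgroup.coe_one, enc_one]))]
        exact one_mem _
      · simp only [Bool.and_eq_true] at h
        obtain ⟨⟨h1, h2⟩, h3⟩ := h
        obtain ⟨g, hg, hgS⟩ : ∃ g : C0, enc g.1 = [avN 4, avN 8, avN 16, avN 32, cjN.getD 3 0].getD (f0P.getD k (0, 0)).1 0 ∧
            g ∈ S := by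
          obtain ⟨i, hi', e⟩ : ∃ i < 5, (f0P.getD k (0, 0)).1 = i := ⟨_, Nat.ble_eq.mp h2, rfl⟩
          rw [e]
          interval_cases i
          exacts [⟨a0 4, enc_av 4, mem4⟩, ⟨a0 8, enc_av 8, mem8⟩, ⟨a0 16, enc_av 16, mem16⟩,
            ⟨a0 32, enc_av 32, mem32⟩, ⟨⟨cjP 3, cjP_mem 3⟩, enc_cjP 3, m3⟩]
        have hpk := lt_trans (Nat.ble_eq.mp h1) hk
        obtain ⟨y, hy, -⟩ := L.comm_f0 _ hpk
        rw [show x = g * y from Subtype.ext (enc_inj (by rw [hx, Nat.beq_eq.mp h3, Subgroup.coe_mul, enc_mul, hg, hy]))]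
        exact mul_mem hgS (ih _ (Nat.ble_eq.mp h1) hpk y hy)
  refine ⟨z, zX.2, by rw [pow_three']; exact hz.1, by rw [pow_two]; exact hz.2.2.2, fun c h0 h1 => (hS c).1 ?_⟩
  have hj : 2 ≤ (c.1 2).val := by
    by_contra h
    rcases Nat.lt_or_ge (c.1 2).val 1 with h' | h'
    · exact absurd (c.1.injective ((show c.1 2 = 0 from Fin.ext (show _ = 0 by omega)).trans h0.symm)) (by decide)
    · exact absurd (c.1.injective ((show c.1 2 = 1 from Fin.ext (show _ = 1 by omega)).trans h1.symm)) (by decide)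
  obtain ⟨j0, j1, j2⟩ := cIp_spec _ hj
  set cj : C0 := ⟨cIp (c.1 2), cIp_mem (c.1 2)⟩
  have hd : ∀ i : Fin 12, i.val < 4 → (cj⁻¹ * c).1 i = i := by
    have hcases : ∀ i : Fin 12, i.val < 4 → i = 0 ∨ i = 1 ∨ i = 2 ∨ i = 3 := by decide +kernel
    have key : ∀ i, cj.1 i = c.1 i → (cj⁻¹ * c).1 i = i := fun i hi => by
      show cj.1⁻¹ (c.1 i) = i
      rw [← hi, Perm.inv_def, Equiv.symm_apply_apply]
    intro i hi
    refine key i ?_
    rcases hcases i hi with rfl | rfl | rfl | rfl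
    · exact j0.trans h0.symm
    · exact j1.trans h1.symm
    · exact j2
    · show cIp (c.1 2) 3 = c.1 3
      rw [cIp_three.2.2.2.2.1 _ hj, show (3 : Fin 12) = tp 2 by decide +kernel, ← Perm.mul_apply tp,
        ← (mem_C0.1 c.2).2, Perm.mul_apply]
  obtain ⟨k, hk, he⟩ := mem_f0L hd
  have := mul_mem (mI (c.1 2)) (mf0 k hk _ he)
  rwa [mul_inv_cancel_left] at this

end Lift

end Cfsg.Agent.Spor.Yamaki
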