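import Cfsg.Agent.Lib.Spor.Yamaki.BlockFacts
import Cfsg.Agent.Lib.Fusion.ThompsonTransferCyclic
import Cfsg.Agent.S0111

/-!
The subgroup generated by the elements of odd order of the centraliser of a double transposition of the third block.
-/

set_option autoImplicit false
set_option maxRecDepth 100000
set_option Elab.async false

universe u

namespace Cfsg.Agent.Spor.Yamaki

open Equiv Subgroup

theorem b_central : (SL.all fun a => cm (avN 16) a) = true := by decide +kernel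

theorem block_words : (cm (cjN.getD 1 0) (avN 16) && cm (cjN.getD 2 0) (avN 16) &&
    Nat.beq (mN (cjN.getD 1 0) (mN (avN 1) (cjN.getD 1 0))) (gN 6) &&
    Nat.beq (mN (mN (cjN.getD 1 0) (mN (avN 2) (cjN.getD 1 0)))
      (mN (mN (cjN.getD 2 0) (mN (avN 2) (cjN.getD 2 0)))
        (mN (avN 2) (mN (cjN.getD 2 0) (mN (avN 2) (cjN.getD 2 0)))))) (gN 8) &&
    Nat.beq (gN 0) (avN 1) && Nat.beq (gN 1) (avN 2) && Nat.beq (gN 4) (avN 16) && Nat.beq (gN 5) (avN 32) &&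
    Nat.beq (mN (gN 8) (mN (avN 1) (gN 8))) (gN 2) && Nat.beq (mN (gN 8) (mN (avN 2) (gN 8))) (gN 3)) = true := by
  decide +kernel

attribute [local irreducible] mN enc tab avN slAt gN idxN cutN fixTop

/-- a translation as an element of the Sylow subgroup -/
theorem gP_av : gP 0 = av 1 ∧ gP 1 = av 2 ∧ gP 4 = av 16 ∧ gP 5 = av 32 := by
  have h := block_words
  simp only [Bool.and_eq_true] at h
  obtain ⟨⟨⟨⟨⟨⟨⟨⟨⟨-, -⟩, -⟩, -⟩, h0⟩, h1⟩, h4⟩, h5⟩, -⟩, -⟩ := h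
  refine ⟨enc_inj ?_, enc_inj ?_, enc_inj ?_, enc_inj ?_⟩ <;> rw [enc_gP, enc_av]
  exacts [Nat.beq_eq.mp h0, Nat.beq_eq.mp h1, Nat.beq_eq.mp h4, Nat.beq_eq.mp h5]

namespace Data27

variable {G : Type u} [Group G] [Finite G] (E : Data27 G)

/-- the double transposition of the third block -/
def bb : G := E.D.el 16

/-- its centraliser -/
def HB : Subgroup G := centralizer ({E.bb} : Set G)

theorem mem_HB {g : G} : g ∈ E.HB ↔ g * E.bb = E.bb * g := mem_centralizer_singleton_iff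

theorem phi_mem_HB {c : C0} (h : cm (enc c.1) (avN 16) = true) : E.D.φ c ∈ E.HB := by
  rw [E.mem_HB, bb, Ctx.el, ← map_mul, ← map_mul]
  rw [← show enc (a0 16).1 = avN 16 from enc_av 16] at h
  exact congrArg E.D.φ (Subtype.ext (cm_iff.1 h))

theorem phi_S0_HB {x : C0} (hx : x.1 ∈ S0) : E.D.φ x ∈ E.HB := by
  refine E.phi_mem_HB ?_
  have h := List.all_eq_true.1 b_central _ (enc_mem_SL hx)
  rw [cm, Nat.beq_eq] at h ⊢
  exact h.symm

theorem P_le_HB : (E.D.P : Subgroup G) ≤ E.HB := fun g hg => by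
  obtain ⟨x, hx, rfl⟩ := E.D.mem_P.1 hg
  exact E.phi_S0_HB hx

/-- generated by the elements of odd order -/
def XB : Subgroup G := closure {g | g ∈ E.HB ∧ Odd (orderOf g)}

theorem XB_le : E.XB ≤ E.HB := (closure_le _).2 fun _ h => h.1

theorem XB_conj {h g : G} (hh : h ∈ E.HB) (hg : g ∈ E.XB) : h * g * h⁻¹ ∈ E.XB := by
  suffices E.XB ≤ E.XB.comap (MulAut.conj h).toMonoidHom from this hg
  refine (closure_le _).2 fun x hx => subset_closure ⟨?_, ?_⟩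
  · exact mul_mem (mul_mem hh hx.1) (inv_mem hh)
  · show Odd (orderOf (MulAut.conj h x))
    rw [MulEquiv.orderOf_eq]
    exact hx.2

/-- Groups of two-power order receive the generated subgroup trivially. -/
theorem XB_kills {M : Subgroup G} (hM : ∀ g ∈ E.HB, Odd (orderOf g) → g ∈ M) {Q : Type*} [Group Q]
    (hQ : IsPGroup 2 Q) (f : M →* Q) : ∀ g ∈ E.XB, ∃ hg : g ∈ M, f ⟨g, hg⟩ = 1 := by
  intro g hg
  induction hg using closure_induction with
  | mem x hx =>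
    refine ⟨hM x hx.1 hx.2, ?_⟩
    obtain ⟨k, hk⟩ := hQ (f ⟨x, hM x hx.1 hx.2⟩)
    have h1 : orderOf (f ⟨x, hM x hx.1 hx.2⟩) ∣ orderOf x := by
      exact (orderOf_map_dvd f ⟨x, hM x hx.1 hx.2⟩).trans (by rw [Subgroup.orderOf_mk])
    obtain ⟨j, -, hj⟩ := (Nat.dvd_prime_pow Nat.prime_two).1 (orderOf_dvd_of_pow_eq_one hk)
    rcases j with _ | j
    · exact orderOf_eq_one_iff.1 hj
    · rw [hj] at h1
      exact absurd (dvd_trans (dvd_pow_self 2 j.succ_ne_zero) h1)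
        (fun h2 => Nat.not_even_iff_odd.2 hx.2 (even_iff_two_dvd.2 h2))
  | one => exact ⟨one_mem _, map_one f⟩
  | mul x y _ _ ihx ihy =>
    obtain ⟨h1, e1⟩ := ihx; obtain ⟨h2, e2⟩ := ihy
    refine ⟨mul_mem h1 h2, ?_⟩
    rw [show (⟨x * y, mul_mem h1 h2⟩ : M) = ⟨x, h1⟩ * ⟨y, h2⟩ from rfl, map_mul, e1, e2, mul_one]
  | inv x _ ihx =>
    obtain ⟨h1, e1⟩ := ihx
    refine ⟨inv_mem h1, ?_⟩
    rw [show (⟨x⁻¹, inv_mem h1⟩ : M) = ⟨x, h1⟩⁻¹ from rfl, map_inv, e1, inv_one]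

end Data27

namespace Lift

variable {G : Type u} [Group G] [Finite G] {E : Data27 G} (L : Lift E)

theorem y_odd : Odd (orderOf L.y) := by
  have h := orderOf_dvd_of_pow_eq_one (show L.y ^ 3 = 1 by rw [pow_three', L.cube])
  rcases (Nat.dvd_prime Nat.prime_three).1 h with e | e <;> rw [e] <;> decide

theorem y_mem_XB : L.y ∈ E.XB := subset_closure ⟨E.mem_HB.2 (L.comm_el rfl), L.y_odd⟩

include L in
theorem el_small {v : Fin 64} (hv : v = 1 ∨ v = 2 ∨ v = 3) : E.D.el v ∈ E.XB := by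
  obtain ⟨w, hw⟩ : ∃ w : Fin 64, vx (sig3 w) w = v := by
    rcases hv with rfl | rfl | rfl
    exacts [⟨3, by decide⟩, ⟨1, by decide⟩, ⟨2, by decide⟩]
  rw [← hw, ← E.D.el_mul, ← L.conj, mul_assoc, mul_assoc]
  refine mul_mem L.y_mem_XB ?_
  rw [← mul_assoc]
  nth_rewrite 2 [← E.el_inv w]
  refine E.XB_conj ?_ (inv_mem L.y_mem_XB)
  exact E.phi_S0_HB (x := a0 w) (av_mem w)

include L in
theorem low_gen : ∀ i : Fin 9, (i.val = 0 ∨ i.val = 1 ∨ i.val = 2 ∨ i.val = 3 ∨ i.val = 6 ∨ i.val = 8) →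
    E.D.φ ⟨gP i, gP_mem i⟩ ∈ E.XB := by
  have h := block_words
  simp only [Bool.and_eq_true] at h
  obtain ⟨⟨⟨⟨⟨⟨⟨⟨⟨hc1, hc2⟩, h6⟩, h8⟩, -⟩, -⟩, -⟩, -⟩, h2⟩, h3⟩ := h
  have hconj : ∀ (c : C0), E.D.φ c ∈ E.HB → c * c = 1 → ∀ x : C0, E.D.φ x ∈ E.XB → E.D.φ (c * (x * c)) ∈ E.XB := by
    intro c hc hcc x hx
    rw [map_mul, map_mul, ← mul_assoc]
    nth_rewrite 2 [show E.D.φ c = (E.D.φ c)⁻¹ from
      eq_inv_of_mul_eq_one_left (by rw [← map_mul, hcc, map_one])]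
    exact E.XB_conj hc hx
  let c1 : C0 := ⟨cjP 1, cjP_mem 1⟩
  let c2 : C0 := ⟨cjP 2, cjP_mem 2⟩
  have k1 : ∀ x : C0, E.D.φ x ∈ E.XB → E.D.φ (c1 * (x * c1)) ∈ E.XB :=
    hconj c1 (E.phi_mem_HB (by show cm (enc (cjP 1)) _ = true; rw [enc_cjP]; exact hc1)) (Subtype.ext (cjP_sq 1))
  have k2 : ∀ x : C0, E.D.φ x ∈ E.XB → E.D.φ (c2 * (x * c2)) ∈ E.XB :=
    hconj c2 (E.phi_mem_HB (by show cm (enc (cjP 2)) _ = true; rw [enc_cjP]; exact hc2)) (Subtype.ext (cjP_sq 2))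
  have e1 : E.D.φ (a0 1) ∈ E.XB := L.el_small (Or.inl rfl)
  have e2 : E.D.φ (a0 2) ∈ E.XB := L.el_small (Or.inr (Or.inl rfl))
  have g8 : E.D.φ ⟨gP 8, gP_mem 8⟩ ∈ E.XB := by
    rw [show (⟨gP 8, gP_mem 8⟩ : C0) = (c1 * (a0 2 * c1)) * ((c2 * (a0 2 * c2)) * (a0 2 * (c2 * (a0 2 * c2)))) from
      Subtype.ext (enc_inj (by
        simp only [Subgroup.coe_mul, enc_mul, enc_gP, show c1.1 = cjP 1 from rfl, show c2.1 = cjP 2 from rfl,
          show (a0 2).1 = av 2 from rfl, enc_cjP, enc_av]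
        exact (Nat.beq_eq.mp h8).symm))]
    rw [map_mul E.D.φ (c1 * (a0 2 * c1)), map_mul E.D.φ (c2 * (a0 2 * c2)), map_mul E.D.φ (a0 2)]
    exact mul_mem (k1 _ e2) (mul_mem (k2 _ e2) (mul_mem e2 (k2 _ e2)))
  have k8 := hconj ⟨gP 8, gP_mem 8⟩ (E.XB_le g8) (Subtype.ext (gP_sq 8))
  obtain ⟨g0, g1, -, -⟩ := gP_av
  rintro ⟨i, hi⟩ (rfl | rfl | rfl | rfl | rfl | rfl)
  · rwa [show (⟨gP ⟨0, hi⟩, gP_mem _⟩ : C0) = a0 1 from Subtype.ext g0]
  · rwa [show (⟨gP ⟨1, hi⟩, gP_mem _⟩ : C0) = a0 2 from Subtype.ext g1]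
  · rw [show (⟨gP ⟨2, hi⟩, gP_mem _⟩ : C0) = ⟨gP 8, gP_mem 8⟩ * (a0 1 * ⟨gP 8, gP_mem 8⟩) from
      Subtype.ext (enc_inj (by
        simp only [Subgroup.coe_mul, enc_mul, enc_gP, show (a0 1).1 = av 1 from rfl, enc_av]
        exact (Nat.beq_eq.mp h2).symm))]
    exact k8 _ e1
  · rw [show (⟨gP ⟨3, hi⟩, gP_mem _⟩ : C0) = ⟨gP 8, gP_mem 8⟩ * (a0 2 * ⟨gP 8, gP_mem 8⟩) from
      Subtype.ext (enc_inj (by
        simp only [Subgroup.coe_mul, enc_mul, enc_gP, show (a0 2).1 = av 2 from rfl, enc_av]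
        exact (Nat.beq_eq.mp h3).symm))]
    exact k8 _ e2
  · rw [show (⟨gP ⟨6, hi⟩, gP_mem _⟩ : C0) = c1 * (a0 1 * c1) from Subtype.ext (enc_inj (by
        simp only [Subgroup.coe_mul, enc_mul, enc_gP, show c1.1 = cjP 1 from rfl, show (a0 1).1 = av 1 from rfl,
          enc_cjP, enc_av]
        exact (Nat.beq_eq.mp h6).symm))]
    exact k1 _ e1
  · exact g8

include L in
/-- The pointwise stabiliser of the third block in the Sylow subgroup lies in the generated subgroup. -/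
theorem top_mem {x : C0} (hx : x.1 ∈ S0) (ht : fixTop (enc x.1) = true) : E.D.φ x ∈ E.XB := by
  suffices h : ∀ n < 512, n &&& 0xb0 = 0 → ∀ x : C0, enc x.1 = slAt n → E.D.φ x ∈ E.XB by
    have h1 := List.all_eq_true.1 top_low (pos x.1) (List.mem_range.2 (pos_lt hx).1)
    rw [(pos_lt hx).2, ht] at h1
    simp only [Bool.not_true, Bool.false_or] at h1
    exact h _ (pos_lt hx).1 (Nat.beq_eq.mp h1) x (pos_lt hx).2.symm
  intro n
  induction n using Nat.strong_induction_on with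
  | _ n ih =>
    intro hn hb x hxn
    rcases Nat.eq_zero_or_pos n with rfl | hpos
    · rw [show x = 1 from Subtype.ext (enc_inj (by rw [hxn, SL_zero, Subgroup.coe_one, enc_one])), map_one]
      exact one_mem _
    have hl : Nat.log2 n < 9 := (Nat.log2_lt (by omega)).2 hn
    have h1 : 2 ^ Nat.log2 n ≤ n := Nat.log2_self_le (by omega)
    have h2 : n < 2 ^ (Nat.log2 n + 1) := Nat.lt_log2_self
    rw [pow_succ] at h2
    have hlow : ((List.range 9).all fun j => (List.range (2 ^ j)).all fun m =>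
        !(Nat.beq ((2 ^ j + m) &&& 0xb0) 0) ||
          (([0, 1, 2, 3, 6, 8].any fun t => Nat.beq j t) && Nat.beq (m &&& 0xb0) 0)) = true := by decide +kernel
    have h3 := List.all_eq_true.1 (List.all_eq_true.1 hlow _ (List.mem_range.2 hl)) (n - 2 ^ Nat.log2 n)
      (List.mem_range.2 (by omega))
    rw [show 2 ^ Nat.log2 n + (n - 2 ^ Nat.log2 n) = n by omega, hb] at h3
    simp only [Nat.beq_refl, Bool.not_true, Bool.false_or, Bool.and_eq_true, List.any_cons, List.any_nil,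
      Bool.or_false, Bool.or_eq_true, Nat.beq_eq] at h3
    obtain ⟨hj, hm⟩ := h3
    obtain ⟨p, hp, hp'⟩ := SL_surj (n - 2 ^ Nat.log2 n) (by have := Nat.two_pow_pos (Nat.log2 n); omega)
    have hc := List.all_eq_true.1 (List.all_eq_true.1 SL_chain ⟨Nat.log2 n, hl⟩ (List.mem_finRange _))
      (n - 2 ^ Nat.log2 n) (List.mem_range.2 (show n - 2 ^ Nat.log2 n < 2 ^ Nat.log2 n by omega))
    rw [show x = ⟨gP ⟨Nat.log2 n, hl⟩, gP_mem _⟩ * ⟨p, S0_le hp⟩ from Subtype.ext (enc_inj (by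
      rw [Subgroup.coe_mul, enc_mul, enc_gP, hp', hxn, ← Nat.beq_eq.mp hc]
      congr 1
      simp only
      omega)), map_mul]
    exact mul_mem (L.low_gen _ hj)
      (ih _ (by have := Nat.two_pow_pos (Nat.log2 n); omega) (by omega) hm _ hp')

end Lift

end Cfsg.Agent.Spor.Yamaki
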