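import Cfsg.Agent.Lib.Spor.Yamaki.Orbit
import Cfsg.Agent.Lib.Fusion.IsolatedInvolution
import Cfsg.Agent.Lib.Fusion.Cores
import Cfsg.Agent.Lib.Char.IsolatedStep
import Cfsg.Agent.S0215

/-!
The case without fusion.
-/

set_option autoImplicit false
set_option maxRecDepth 100000
set_option Elab.async false

universe u

namespace Cfsg.Agent.Spor.Yamaki

open Equiv Subgroup Cfsg

theorem flip_facts : ∀ i j : Fin 6, i ≠ j → ∃ k : Fin 6, k ≠ i ∧ k ≠ j := by decide

/-- the flip of two pairs -/
def flip2 (i j : Fin 6) : P12 := swap (fst6 i) (tp (fst6 i)) * swap (fst6 j) (tp (fst6 j))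

theorem flip2_comm : ∀ i j : Fin 6, i ≠ j → flip2 i j * tp = tp * flip2 i j := by decide +kernel

theorem flip2_mem {i j : Fin 6} (h : i ≠ j) : flip2 i j ∈ C0 := by
  refine mem_C0.2 ⟨?_, flip2_comm i j h⟩
  have hne : ∀ k, fst6 k ≠ tp (fst6 k) := by decide +kernel
  rw [flip2, map_mul, Perm.sign_swap (hne i), Perm.sign_swap (hne j)]
  decide

theorem flip2_moved : ∀ i j k : Fin 6, i ≠ j → k ≠ i → k ≠ j → ∀ b : Bool,
    flip2 i j (if b then tp (fst6 k) else fst6 k) = (if b then tp (fst6 k) else fst6 k) ∧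
      flip2 i j (fst6 i) = tp (fst6 i) := by decide +kernel

theorem pair_eq : ∀ m m' : Fin 12, pr m = pr m' → m' = m ∨ m' = tp m := by decide +kernel

/-- An element commuting with all flips squares to one. -/
theorem sq_of_comm_flips {x : C0} (h : ∀ i j : Fin 6, i ≠ j → x.1 * flip2 i j = flip2 i j * x.1) : x * x = 1 := by
  have hpair : ∀ i, pr (x.1 (fst6 i)) = i := by
    intro i
    by_contra hne
    set q := pr (x.1 (fst6 i)) with hq
    obtain ⟨k, hk1, hk2⟩ := flip_facts i q (fun e => hne e.symm)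
    have hik : i ≠ k := hk1.symm
    have hb : ∃ b : Bool, x.1 (fst6 i) = if b then tp (fst6 q) else fst6 q := by
      rcases pr_facts.2.1 (x.1 (fst6 i)) with e | e
      · exact ⟨false, e⟩
      · exact ⟨true, e⟩
    obtain ⟨b, hb⟩ := hb
    obtain ⟨h1, h2⟩ := flip2_moved i k q hik hne hk2.symm b
    have h3 := congrArg (fun p : P12 => p (fst6 i)) (h i k hik)
    simp only [Perm.mul_apply] at h3
    rw [h2, hb, h1, ← hb] at h3
    have htp : ∀ j, tp j ≠ j := by decide +kernel
    exact htp _ (x.1.injective h3)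
  refine Subtype.ext (Equiv.ext fun j => ?_)
  have hj : pr (x.1 j) = pr j := by rw [pr_apply, hpair]
  rw [Subgroup.coe_mul, Perm.mul_apply, Subgroup.coe_one, Perm.one_apply]
  rcases pair_eq j (x.1 j) hj.symm with e | e
  · rw [e, e]
  · rw [e, ← Perm.mul_apply x.1, (mem_C0.1 x.2).2, Perm.mul_apply, e, ← Perm.mul_apply, tp_facts.1, Perm.one_apply]

/-- The model has no nontrivial normal subgroup of odd order. -/
theorem odd_normal_trivial {N : Subgroup C0} [hN : N.Normal] (hodd : Odd (Nat.card N)) {x : C0} (hx : x ∈ N) :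
    x = 1 := by
  have hE : ∀ i j : Fin 6, i ≠ j → x.1 * flip2 i j = flip2 i j * x.1 := by
    intro i j hij
    let f : C0 := ⟨flip2 i j, flip2_mem hij⟩
    have hfp : pairPerm f = 1 := Equiv.ext fun k => by
      rw [pairPerm_apply]
      have : ∀ i j k : Fin 6, pr (flip2 i j (fst6 k)) = k := by decide +kernel
      exact this i j k
    set c := x * f * x⁻¹ * f⁻¹ with hc
    have hcN : c ∈ N := by
      rw [hc, mul_assoc x f, mul_assoc x]
      exact mul_mem hx (by simpa [mul_assoc] using hN.conj_mem _ (inv_mem hx) f)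
    have hcp : pairPerm c = 1 := by simp [hc, hfp]
    have hc2 : c * c = 1 := by
      refine sq_of_comm_flips (x := c) fun a b hab => ?_
      have : ∀ (a b : Fin 6), ∀ p : P12, (∀ m, pr (p m) = pr m) → a ≠ b → p * flip2 a b = flip2 a b * p := by
        intro a b p hp hab
        refine Equiv.ext fun m => ?_
        rw [Perm.mul_apply, Perm.mul_apply]
        have hfm : ∀ a b : Fin 6, a ≠ b → ∀ m m' : Fin 12, pr m = pr m' →
            (flip2 a b m = m ↔ flip2 a b m' = m') ∧ (flip2 a b m = m ∨ flip2 a b m = tp m) := by decide +kernel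
        have htp : ∀ m, p (tp m) = tp (p m) := by
          intro m
          rcases pair_eq (p m) (p (tp m)) (by rw [hp, hp, pr_facts.1]) with e | e
          · exact absurd (p.injective e) (by revert m; intro m _; have : ∀ m, tp m ≠ m := by decide +kernel
                                             exact this m)
          · exact e
        obtain ⟨h1, h2⟩ := hfm a b hab m (p m) (hp m).symm
        rcases (hfm a b hab (p m) (p m) rfl).2 with g | g <;> rcases h2 with h | h
        · rw [h, g]
        · rw [h1.2 g] at h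
          exact absurd h.symm (by have : ∀ m, tp m ≠ m := by decide +kernel
                                  exact this m)
        · rw [h1.1 h] at g
          exact absurd g.symm (by have : ∀ m, tp m ≠ m := by decide +kernel
                                  exact this _)
        · rw [h, g, htp]
      exact this a b c.1 (fun m => by
        have h1 := pr_apply c m
        rw [← pairPerm_apply, hcp] at h1
        exact h1) hab
    have hc1 : c = 1 := by
      have h1 := orderOf_dvd_natCard (⟨c, hcN⟩ : N)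
      rw [← orderOf_injective N.subtype N.subtype_injective] at h1
      have h2 : orderOf c ∣ 2 := orderOf_dvd_of_pow_eq_one (by rw [pow_two, hc2])
      have h3 : orderOf c = 1 := by
        rcases (Nat.dvd_prime Nat.prime_two).1 h2 with e | e
        · exact e
        · exact absurd (e ▸ h1 : 2 ∣ Nat.card N) (fun hh => Nat.not_even_iff_odd.2 hodd (even_iff_two_dvd.2 hh))
      exact orderOf_eq_one_iff.1 h3
    rw [hc, mul_inv_eq_one, mul_inv_eq_iff_eq_mul] at hc1
    exact congrArg Subtype.val hc1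
  have h2 := sq_of_comm_flips hE
  have h1 := orderOf_dvd_natCard (⟨x, hx⟩ : N)
  rw [← orderOf_injective N.subtype N.subtype_injective] at h1
  rcases (Nat.dvd_prime Nat.prime_two).1 (orderOf_dvd_of_pow_eq_one (by rw [pow_two, h2] : x ^ 2 = 1)) with e | e
  · exact orderOf_eq_one_iff.1 e
  · exact absurd (e ▸ h1 : 2 ∣ Nat.card N) (fun hh => Nat.not_even_iff_odd.2 hodd (even_iff_two_dvd.2 hh))

namespace Ctx

variable {G : Type u} [Group G] [Finite G] (D : Ctx G)

theorem orderOf_alpha : orderOf D.α = 2 := orderOf_eq_prime (by rw [pow_two, D.alpha_sq]) D.alpha_ne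

theorem isolated_case (h : ∀ v : Fin 64, D.O v → v = 21) :
    oddCore G ⊔ centralizer ({D.α} : Set G) = ⊤ ∧ IsMulCommutative (oddCore G) := by
  haveI : Fact (Nat.Prime 2) := ⟨Nat.prime_two⟩
  have hiso : IsIsolatedInvolution D.α := by
    refine ⟨D.orderOf_alpha, fun g hg => ?_⟩
    obtain ⟨x, hx⟩ := D.exists_pre (g := g * D.α * g⁻¹) hg.eq.symm
    have hx2 : x * x = 1 := D.inj (by
      rw [map_mul, hx, map_one, show g * D.α * g⁻¹ * (g * D.α * g⁻¹) = g * (D.α * D.α) * g⁻¹ by group,
        D.alpha_sq, mul_one, mul_inv_cancel])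
    obtain ⟨c, v, hv⟩ := conj_into_A0 hx2
    have hval : D.el v = D.φ c * (g * D.α * g⁻¹) * (D.φ c)⁻¹ := by
      rw [← hx, ← map_inv, ← map_mul, ← map_mul, el, show a0 v = c * x * c⁻¹ from Subtype.ext hv.symm]
    have hv21 : v = 21 := h v ⟨D.φ c * g, by rw [hval]; group⟩
    rw [hv21, D.el_alpha] at hval
    calc g * D.α * g⁻¹ = (D.φ c)⁻¹ * (D.φ c * (g * D.α * g⁻¹) * (D.φ c)⁻¹) * D.φ c := by group
      _ = D.α := by rw [← hval, mul_assoc, ← D.comm, inv_mul_cancel_left]
  obtain ⟨P, hαP, hP⟩ := Cfsg.Agent.Fusion.isolated_sylow hiso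
  obtain ⟨N, hN, hNodd, hNc⟩ := Cfsg.Agent.S0215.result P D.α D.orderOf_alpha hαP hP
  haveI := hN
  have hNle : N ≤ oddCore G := Cfsg.Agent.Fusion.le_pPrimeCore hNodd.coprime_two_right
  have hinvα : D.α⁻¹ = D.α := inv_eq_of_mul_eq_one_right D.alpha_sq
  refine ⟨?_, ?_⟩
  · rw [eq_top_iff]
    intro g _
    obtain ⟨s, hs, hsg⟩ := Cfsg.Agent.Fusion.isolated_exists_zpowers hiso g
    have hN' : D.α * (g * D.α * g⁻¹) ∈ N := by
      have := hNc g
      rwa [hinvα, show D.α * g * D.α * g⁻¹ = D.α * (g * D.α * g⁻¹) by group] at this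
    have hsO : s ∈ oddCore G := hNle ((zpowers_le.2 hN') hs)
    have hc : s * g ∈ centralizer ({D.α} : Set G) := by
      refine mem_centralizer_singleton_iff.2 ?_
      calc s * g * D.α = (s * (g * D.α * g⁻¹) * s⁻¹) * (s * g) := by group
        _ = D.α * (s * g) := by rw [hsg]
    rw [show g = s⁻¹ * (s * g) by group]
    exact mul_mem (mem_sup_left (inv_mem hsO)) (mem_sup_right hc)
  · set O := oddCore G with hO
    haveI hOn : O.Normal := by rw [hO]; infer_instance
    have hOodd : Odd (Nat.card O) := Cfsg.Agent.Char.card_oddCore_odd G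
    have hfix : ∀ x ∈ O, D.α * x = x * D.α → x = 1 := by
      intro x hx hc
      obtain ⟨y, rfl⟩ := D.exists_pre hc.symm
      haveI : (O.comap D.φ).Normal := hOn.comap D.φ
      have hodd : Odd (Nat.card ↥(O.comap D.φ)) := by
        refine hOodd.of_dvd_nat ?_
        have h1 : Nat.card ↥((O.comap D.φ).map D.φ) = Nat.card ↥(O.comap D.φ) := card_map_of_injective D.inj
        rw [← h1]
        exact card_dvd_of_le (map_comap_le _ _)
      rw [odd_normal_trivial hodd (show y ∈ O.comap D.φ from hx), map_one]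
    have hinv : ∀ x ∈ O, D.α * x * D.α = x⁻¹ := by
      let f : O → O := fun x => ⟨D.α * x.1⁻¹ * D.α * x.1, mul_mem (by
        have := hOn.conj_mem _ (inv_mem x.2) D.α
        rwa [hinvα] at this) x.2⟩
      have hf : Function.Injective f := fun a b hab => Subtype.ext (by
        have h1 : D.α * a.1⁻¹ * D.α * a.1 = D.α * b.1⁻¹ * D.α * b.1 := congrArg Subtype.val hab
        have h2 : D.α * (b.1 * a.1⁻¹) = b.1 * a.1⁻¹ * D.α := by
          calc D.α * (b.1 * a.1⁻¹) = D.α * b.1 * D.α * (D.α * a.1⁻¹ * D.α * a.1) * a.1⁻¹ * D.α := by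
                simp [mul_assoc, D.alpha_sq, ← mul_assoc D.α D.α]
            _ = D.α * b.1 * D.α * (D.α * b.1⁻¹ * D.α * b.1) * a.1⁻¹ * D.α := by rw [h1]
            _ = b.1 * a.1⁻¹ * D.α := by simp [mul_assoc, D.alpha_sq, ← mul_assoc D.α D.α]
        exact (mul_inv_eq_one.1 (hfix _ (mul_mem b.2 (inv_mem a.2)) h2)).symm)
      intro x hx
      obtain ⟨y, hy⟩ := (Finite.injective_iff_surjective.1 hf) ⟨x, hx⟩
      have hy' : D.α * y.1⁻¹ * D.α * y.1 = x := congrArg Subtype.val hy
      rw [← hy']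
      simp only [mul_inv_rev, inv_inv, hinvα, mul_assoc]
      rw [← mul_assoc D.α D.α, D.alpha_sq, one_mul]
    refine ⟨⟨fun a b => Subtype.ext ?_⟩⟩
    show a.1 * b.1 = b.1 * a.1
    have h1 := hinv _ (mul_mem a.2 b.2)
    rw [show D.α * (a.1 * b.1) * D.α = D.α * a.1 * (D.α * D.α) * b.1 * D.α by rw [D.alpha_sq]; group,
      show D.α * a.1 * (D.α * D.α) * b.1 * D.α = D.α * a.1 * D.α * (D.α * b.1 * D.α) by group,
      hinv _ a.2, hinv _ b.2, mul_inv_rev] at h1
    have h2 := congrArg (·⁻¹) h1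
    simpa [mul_inv_rev] using h2.symm

end Ctx

end Cfsg.Agent.Spor.Yamaki
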