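import Cfsg.Agent.Lib.Spor.Yamaki.Transfer
import Cfsg.Agent.Lib.Spor.Yamaki.Trivial

/-!
Two transfers: the central involution is outside the subgroup generated by the elements of odd order.
-/

set_option autoImplicit false
set_option maxRecDepth 100000
set_option Elab.async false
set_option linter.style.haveILetI false

universe u

namespace Cfsg.Agent.Spor.Yamaki

open Equiv Subgroup

theorem cut_values : ([false, true].all fun c => !(cutN c 21) && !(cutN c 16) && cutN c 32 && cutN c 37 &&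
    (cutN c 128 == c) && [0, 1, 2, 3, 4, 6, 8].all fun i => !(cutN c (2 ^ i))) = true := by decide +kernel

theorem vx_pairs : vx 37 16 = 53 ∧ vx 21 16 = 5 ∧ vx 5 16 = 21 ∧ τn 37 = 3 ∧ τn 53 = 3 ∧ τn 21 = 3 ∧ τn 5 = 2 := by
  decide +kernel

theorem cyc_facts : ([false, true].all fun c => Nat.beq (slAt (idxN (cycN c))) (cycN c) &&
    Nat.blt (idxN (cycN c)) 512 && !(cutN c (idxN (cycN c)))) = true := by decide +kernel

attribute [local irreducible] mN enc tab avN slAt gN idxN cutN fixTop moved dg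

/-- the kernel of a character, one point fixed -/
def cutT (c : Bool) : Subgroup P12 := cutS c ⊓ MulAction.stabilizer P12 (10 : Fin 12)

theorem pos_av (v : Fin 64) : pos (av v) = v.val := by
  rw [pos, ← slAt_av]
  exact Nat.beq_eq.mp (List.all_eq_true.1 SL_index v.val (List.mem_range.2 (v.isLt.trans (by norm_num))))

theorem pos_gP (i : Fin 9) : pos (gP i) = 2 ^ i.val := by
  rw [pos, enc_gP]
  exact Nat.beq_eq.mp (List.all_eq_true.1 gen_pos i (List.mem_finRange i))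

theorem cut_index (c : Bool) : (cutS c).relIndex S0 = 2 := by
  rw [Subgroup.relIndex, index_eq_two_iff]
  have h5 : cutN c (pos (gP 5)) = true := by
    rw [pos_gP]
    have h := List.all_eq_true.1 cut_values c (by cases c <;> simp)
    simp only [Bool.and_eq_true] at h
    exact h.1.1.1.2
  refine ⟨⟨gP 5, subset_closure ⟨5, rfl⟩⟩, fun b => ?_⟩
  have h := cut_hom (c := c) b.2 (subset_closure ⟨5, rfl⟩ : gP 5 ∈ S0)
  simp only [mem_subgroupOf, Subgroup.coe_mul, cutS, Subgroup.mem_mk]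
  show Xor (b.1 * gP 5 ∈ S0 ∧ cutN c (pos (b.1 * gP 5)) = false) (b.1 ∈ S0 ∧ cutN c (pos b.1) = false)
  rw [h, h5]
  cases hb : cutN c (pos b.1)
  · exact Or.inr ⟨⟨b.2, rfl⟩, fun hh => Bool.noConfusion hh.2⟩
  · exact Or.inl ⟨⟨mul_mem b.2 (subset_closure ⟨5, rfl⟩), rfl⟩, fun hh => Bool.noConfusion hh.2⟩

namespace Data27

variable {G : Type u} [Group G] [Finite G] (E : Data27 G)

/-- a character kernel in the group -/
def cutG (c : Bool) : Subgroup G := ((cutS c).subgroupOf C0).map E.D.φ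

theorem mem_cutG {c : Bool} {g : G} :
    g ∈ E.cutG c ↔ ∃ x : C0, (x.1 ∈ S0 ∧ cutN c (pos x.1) = false) ∧ E.D.φ x = g := Iff.rfl

theorem card_cutG (c : Bool) : Nat.card (E.cutG c) = 256 := by
  have hle : cutS c ≤ S0 := fun p hp => hp.1
  have h := relIndex_mul_relIndex (⊥ : Subgroup P12) (cutS c) S0 bot_le hle
  rw [relIndex_bot_left, relIndex_bot_left, cut_index, card_S0] at h
  rw [cutG, card_map_of_injective E.D.inj, Nat.card_congr (subgroupOfEquivOfLe (hle.trans S0_le)).toEquiv]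
  omega

theorem conj_sig {g : G} (hg : g ∈ E.HB) {v w : Fin 64} (hw : vx v 16 = w) {x : C0}
    (hxv : g * E.D.el v * g⁻¹ = E.D.φ x) :
    x * x = 1 ∧ moved (enc x.1) = 4 * τn v.val ∧ moved (mN (enc x.1) (avN 16)) = 4 * τn w.val := by
  have h2 : x * x = 1 := E.D.inj (by
    rw [map_mul, ← hxv, map_one, show g * E.D.el v * g⁻¹ * (g * E.D.el v * g⁻¹) = g * (E.D.el v * E.D.el v) * g⁻¹ by
      group, E.D.el_mul, vx_self, E.el_zero, mul_one, mul_inv_cancel])
  have hb : g * E.D.el w * g⁻¹ = E.D.φ (x * a0 16) := by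
    rw [map_mul, ← hxv, ← Ctx.el, ← hw, ← E.D.el_mul]
    have hgb := E.mem_HB.1 hg
    rw [bb] at hgb
    calc g * (E.D.el v * E.D.el 16) * g⁻¹ = g * E.D.el v * g⁻¹ * (g * E.D.el 16) * g⁻¹ := by group
      _ = g * E.D.el v * g⁻¹ * (E.D.el 16 * g) * g⁻¹ := by rw [hgb]
      _ = _ := by group
  have ha : ∀ u : Fin 64, a0 u * a0 u = 1 := fun u => Subtype.ext (av_sq u)
  have h2' : x * a0 16 * (x * a0 16) = 1 := E.D.inj (by
    rw [map_mul, ← hb, map_one, show g * E.D.el w * g⁻¹ * (g * E.D.el w * g⁻¹) = g * (E.D.el w * E.D.el w) * g⁻¹ by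
      group, E.D.el_mul, vx_self, E.el_zero, mul_one, mul_inv_cancel])
  refine ⟨h2, ?_, ?_⟩
  · rw [moved_enc, ← E.moved_conj (g := g) (ha v) h2 hxv, moved_a0]
  · rw [show mN (enc x.1) (avN 16) = enc ((x * a0 16 : C0) : P12) by
      rw [Subgroup.coe_mul, enc_mul, show (a0 16).1 = av 16 from rfl, enc_av]; rfl,
      moved_enc, ← E.moved_conj (g := g) (ha w) h2' hb, moved_a0]

theorem el_HB (v : Fin 64) : E.D.el v ∈ E.HB := E.phi_S0_HB (x := a0 v) (av_mem v)

theorem sylow_HB_odd : ¬ 2 ∣ ((E.D.P : Subgroup G).subgroupOf E.HB).index := fun h => by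
  haveI : Fact (Nat.Prime 2) := ⟨Nat.prime_two⟩
  exact E.D.P.not_dvd_index (dvd_trans h (relIndex_dvd_index_of_le E.P_le_HB))

/-- The first transfer. -/
theorem exists_half : ∃ M : Subgroup E.HB, M.Normal ∧ M.index = 2 ∧
    (⟨E.D.el 37, E.el_HB 37⟩ : E.HB) ∉ M := by
  haveI : Fact (Nat.Prime 2) := ⟨Nat.prime_two⟩
  let PH : Sylow 2 E.HB := E.D.P.subtype E.P_le_HB
  set Q : Subgroup E.HB := (E.cutG false).subgroupOf E.HB
  have hcP : E.cutG false ≤ (E.D.P : Subgroup G) := by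
    rintro _ ⟨x, hx, rfl⟩
    exact E.D.mem_P.2 ⟨x, hx.1, rfl⟩
  have hQP : Q ≤ (PH : Subgroup E.HB) := fun g hg => hcP hg
  have hidx : Q.relIndex (PH : Subgroup E.HB) = 2 := by
    rw [Sylow.coe_subtype, relIndex_subgroupOf E.P_le_HB]
    have h := relIndex_mul_relIndex (⊥ : Subgroup G) (E.cutG false) (E.D.P : Subgroup G) bot_le hcP
    rw [relIndex_bot_left, relIndex_bot_left, E.card_cutG, E.D.sylow] at h
    omega
  have hv : E.D.el 37 ∉ E.cutG false := by
    intro hmem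
    obtain ⟨x, hx, hxe⟩ := E.mem_cutG.1 hmem
    have hx37 : x = a0 37 := E.D.inj hxe
    have h := hx.2
    rw [hx37, show (a0 37).1 = av 37 from rfl, pos_av] at h
    have := List.all_eq_true.1 cut_values false (by simp)
    simp only [Bool.and_eq_true] at this
    rw [show ((37 : Fin 64) : ℕ) = 37 from rfl, this.1.1.2] at h
    exact Bool.noConfusion h
  have hu : orderOf (⟨E.D.el 37, E.el_HB 37⟩ : E.HB) = 2 := by
    rw [Subgroup.orderOf_mk]
    refine orderOf_eq_prime (by rw [pow_two, E.D.el_mul, vx_self, E.el_zero]) fun h => ?_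
    rw [← E.el_zero] at h
    exact absurd (E.D.el_inj h) (by decide)
  rcases Cfsg.Agent.S0111.result PH Q hQP hidx _ hu (E.D.A_le (E.D.mem_A.2 ⟨37, rfl⟩)) hv with h | ⟨g, hg⟩
  · exact h
  exfalso
  obtain ⟨x, hx, hxe⟩ := E.mem_cutG.1 hg
  obtain ⟨v1, -, -, t37, t53, -, -⟩ := vx_pairs
  obtain ⟨h2, m1, m2⟩ := E.conj_sig g.2 v1 hxe.symm
  rw [show ((37 : Fin 64) : ℕ) = 37 from rfl, t37] at m1
  rw [show ((53 : Fin 64) : ℕ) = 53 from rfl, t53] at m2
  have ht := List.all_eq_true.1 step_one (pos x.1) (List.mem_range.2 (pos_lt hx.1).1)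
  rw [(pos_lt hx.1).2, ← enc_mul, show x.1 * x.1 = 1 from congrArg Subtype.val h2, enc_one, m1, m2] at ht
  have hb5 : (pos x.1).testBit 5 = false := by
    have := hx.2
    rwa [show cutN false (pos x.1) = ((pos x.1).testBit 5 ^^ (false && (pos x.1).testBit 7)) by unfold cutN; rfl,
      Bool.false_and, Bool.xor_false] at this
  simp [hb5] at ht

end Data27

namespace Lift

variable {G : Type u} [Group G] [Finite G] {E : Data27 G} (L : Lift E)

include L in
/-- The central involution is outside. -/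
theorem alpha_not_mem : E.D.α ∉ E.XB := by
  classical
  haveI : Fact (Nat.Prime 2) := ⟨Nat.prime_two⟩
  intro hα
  obtain ⟨M, hMn, hM2, huM⟩ := E.exists_half
  set M' : Subgroup G := M.map E.HB.subtype
  have hM' : ∀ {g : G} (hg : g ∈ E.HB), g ∈ M' ↔ (⟨g, hg⟩ : E.HB) ∈ M := fun {g} hg =>
    ⟨fun ⟨y, hy, hye⟩ => (show y = (⟨g, hg⟩ : E.HB) from Subtype.ext hye) ▸ hy, fun h => ⟨_, h, rfl⟩⟩
  have hM'le : M' ≤ E.HB := map_subtype_le M
  have hodd : ∀ g ∈ E.HB, Odd (orderOf g) → g ∈ M' := fun g hg ho => by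
    obtain ⟨k, hk⟩ := ho
    have hsq : (⟨g, hg⟩ : E.HB) = (⟨g, hg⟩ ^ (k + 1)) * (⟨g, hg⟩ ^ (k + 1)) := Subtype.ext (by
      simp only [Subgroup.coe_mul, SubgroupClass.coe_pow]
      rw [← pow_add, show k + 1 + (k + 1) = orderOf g + 1 by omega, pow_succ, pow_orderOf_eq_one, one_mul])
    rw [hM' hg, hsq]
    exact M.mul_self_mem_of_index_two hM2 _
  have hXM : E.XB ≤ M' := (closure_le _).2 fun g hg => hodd g hg.1 hg.2
  -- membership of the elements of the Sylow subgroup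
  let c : Bool := decide (E.D.φ ⟨gP 7, gP_mem 7⟩ ∉ M')
  have hgen : ∀ i : Fin 9, (E.D.φ ⟨gP i, gP_mem i⟩ ∈ M' ↔ cutN c (pos (gP i)) = false) := by
    intro i
    have hv := List.all_eq_true.1 cut_values c (by cases c <;> simp)
    simp only [Bool.and_eq_true, List.all_eq_true, Bool.not_eq_true', beq_iff_eq] at hv
    obtain ⟨⟨⟨⟨-, h32⟩, -⟩, h128⟩, hlow⟩ := hv
    rw [pos_gP]
    have hi : i.val = 7 ∨ i.val = 5 ∨ i.val = 4 ∨
        (i.val = 0 ∨ i.val = 1 ∨ i.val = 2 ∨ i.val = 3 ∨ i.val = 6 ∨ i.val = 8) := by omega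
    rcases hi with hi | hi | hi | hi
    · obtain rfl : i = 7 := Fin.ext hi
      show _ ↔ cutN c 128 = false
      rw [h128]
      simp [c]
    · obtain rfl : i = 5 := Fin.ext hi
      show _ ↔ cutN c 32 = false
      rw [h32]
      refine iff_of_false (fun h => huM ?_) (by simp)
      refine (hM' _).1 ?_
      have h5 : E.D.φ ⟨gP 5, gP_mem 5⟩ = E.D.el 32 := congrArg E.D.φ (Subtype.ext gP_av.2.2.2)
      rw [show (37 : Fin 64) = vx 5 32 by decide, ← E.D.el_mul, ← h5]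
      refine mul_mem (hXM ?_) h
      refine L.top_mem (x := a0 5) (av_mem 5) ?_
      show fixTop (enc (av 5)) = true
      rw [fixTop_of_fix]
      decide +kernel
    · obtain rfl : i = 4 := Fin.ext hi
      refine iff_of_true ?_ (hlow 4 (by simp))
      obtain ⟨x, hx, hxx⟩ := central_squares 16 (Or.inr rfl)
      have hxM : (⟨E.D.φ ⟨x, S0_le hx⟩, E.phi_S0_HB hx⟩ : E.HB) *
          ⟨E.D.φ ⟨x, S0_le hx⟩, E.phi_S0_HB hx⟩ ∈ M := M.mul_self_mem_of_index_two hM2 _
      refine ⟨_, hxM, ?_⟩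
      show E.D.φ _ * E.D.φ _ = _
      rw [← map_mul]
      exact congrArg E.D.φ (Subtype.ext (hxx.trans gP_av.2.2.1.symm))
    · refine iff_of_true (hXM (L.low_gen i hi)) (hlow i.val ?_)
      rcases hi with hi | hi | hi | hi | hi | hi <;> simp [hi]
  have hmem : ∀ x : C0, x.1 ∈ S0 → (E.D.φ x ∈ M' ↔ cutN c (pos x.1) = false) := by
    suffices h : ∀ p (hp : p ∈ S0), E.D.φ ⟨p, S0_le hp⟩ ∈ M' ↔ cutN c (pos p) = false from fun x hx => h x.1 hx
    have hstep : ∀ x (hx : x ∈ S0) (i : Fin 9), (E.D.φ ⟨x, S0_le hx⟩ ∈ M' ↔ cutN c (pos x) = false) →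
        (E.D.φ ⟨x * gP i, mul_mem (S0_le hx) (gP_mem i)⟩ ∈ M' ↔ cutN c (pos (x * gP i)) = false) := by
      intro x hx i ih
      have h1 := E.phi_S0_HB (x := (⟨x, S0_le hx⟩ : C0)) hx
      have h2 := E.phi_S0_HB (x := (⟨gP i, gP_mem i⟩ : C0)) (subset_closure ⟨i, rfl⟩)
      rw [show (⟨x * gP i, mul_mem (S0_le hx) (gP_mem i)⟩ : C0) = ⟨x, S0_le hx⟩ * ⟨gP i, gP_mem i⟩ from rfl,
        map_mul, cut_mul hx, hM' (mul_mem h1 h2), ← MulMemClass.mk_mul_mk E.HB _ _ h1 h2,
        Subgroup.mul_mem_iff_of_index_two hM2, ← hM', ← hM', ih, hgen i]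
      cases cutN c (pos x) <;> cases cutN c (pos (gP i)) <;> simp
    intro p hp
    induction hp using closure_induction_right with
    | one =>
      rw [show (⟨(1 : P12), _⟩ : C0) = 1 from rfl, map_one]
      exact iff_of_true (one_mem _) (cut_one c)
    | mul_right x hx y hy ih =>
      obtain ⟨i, rfl⟩ := hy
      exact hstep x hx i ih
    | mul_inv_cancel x hx y hy ih =>
      obtain ⟨i, rfl⟩ := hy
      simp only [inv_eq_of_mul_eq_one_right (gP_sq i)]
      exact hstep x hx i ih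
  -- the Sylow subgroup
  have hSM : E.cutG c ≤ M' := fun g ⟨x, hx, he⟩ => he ▸ (hmem x hx.1).2 hx.2
  let S2 : Sylow 2 M' := (IsPGroup.of_card (n := 8) (by
      rw [Nat.card_congr (subgroupOfEquivOfLe hSM).toEquiv, E.card_cutG]; rfl) :
    IsPGroup 2 ((E.cutG c).subgroupOf M')).toSylow (by
      intro hd
      have h1 := card_mul_index ((E.cutG c).subgroupOf M')
      have h2 := card_mul_index ((E.D.P : Subgroup G).subgroupOf E.HB)
      have h3 := card_mul_index M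
      rw [Nat.card_congr (subgroupOfEquivOfLe hSM).toEquiv, E.card_cutG,
        show Nat.card M' = Nat.card M from card_map_of_injective E.HB.subtype_injective] at h1
      rw [Nat.card_congr (subgroupOfEquivOfLe E.P_le_HB).toEquiv, E.D.sylow, ← h3, hM2, ← h1] at h2
      have : ((E.cutG c).subgroupOf M').index = ((E.D.P : Subgroup G).subgroupOf E.HB).index := by omega
      exact E.sylow_HB_odd (this ▸ hd))
  have hS2 : ∀ {g : M'}, g ∈ S2 ↔ ∃ x : C0, (x.1 ∈ S0 ∧ cutN c (pos x.1) = false) ∧ E.D.φ x = g.1 := Iff.rfl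
  let T : Subgroup M' := (((cutT c).subgroupOf C0).map E.D.φ).subgroupOf M'
  have hT : ∀ {g : M'}, g ∈ T ↔ ∃ x : C0, (x.1 ∈ cutS c ∧ x.1 10 = 10) ∧ E.D.φ x = g.1 := Iff.rfl
  have hTS : T ≤ (S2 : Subgroup M') := fun g hg => by
    obtain ⟨x, hx, he⟩ := hT.1 hg
    exact hS2.2 ⟨x, hx.1, he⟩
  have ht11 : ∀ (x : C0), x.1 10 = 10 → x.1 11 = 11 := fun x hx => by
    have h := congrArg (fun p : P12 => p 10) (mem_C0.1 x.2).2
    have ht : tp 10 = 11 := by decide +kernel
    simpa [hx, ht] using h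
  haveI hTn : (T.subgroupOf (S2 : Subgroup M')).Normal := ⟨fun t ht p => by
    obtain ⟨x, ⟨hxS, hx10⟩, hxe⟩ := hT.1 ht
    obtain ⟨z, hzS, hze⟩ := hS2.1 p.2
    refine hT.2 ⟨z * x * z⁻¹, ⟨mul_mem (mul_mem hzS hxS) (inv_mem (show z.1 ∈ cutS c from hzS)), ?_⟩, ?_⟩
    · have hzi : (z⁻¹).1 ∈ cutS c := inv_mem (show z.1 ∈ cutS c from hzS)
      set j := (z⁻¹).1 10 with hj
      suffices hxj : x.1 j = j by
        show z.1 (x.1 ((z⁻¹).1 10)) = 10
        rw [← hj, hxj, hj, ← Perm.mul_apply, ← Subgroup.coe_mul, mul_inv_cancel, Subgroup.coe_one, Perm.one_apply]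
      have hk := List.all_eq_true.1 (List.all_eq_true.1 normal_table c (by cases c <;> simp))
        (pos (z⁻¹).1) (List.mem_range.2 (pos_lt hzi.1).1)
      have hl := List.all_eq_true.1 (List.all_eq_true.1 normal_table c (by cases c <;> simp))
        (pos x.1) (List.mem_range.2 (pos_lt hxS.1).1)
      rw [(pos_lt hzi.1).2, hzi.2, dg_enc _ (show 10 < 12 by norm_num)] at hk
      rw [(pos_lt hxS.1).2, hxS.2, dg_enc _ (show 10 < 12 by norm_num), dg_enc _ (show 11 < 12 by norm_num),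
        dg_enc _ (show 8 < 12 by norm_num), dg_enc _ (show 9 < 12 by norm_num),
        show (⟨10, _⟩ : Fin 12) = 10 from rfl, hx10] at hl
      simp only [Bool.false_or, Bool.and_eq_true, Bool.or_eq_true, Nat.beq_eq, Nat.ble_eq,
        show ((10 : Fin 12) : ℕ) = 10 from rfl, Bool.not_eq_true', Nat.beq_refl, true_or, Bool.not_true] at hk hl
      obtain ⟨⟨hk1, hk8⟩, -⟩ := hk
      have hjlt := j.isLt
      rcases hk1 with (e | e) | e
      · rw [show j = 10 from Fin.ext e, hx10]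
      · rw [show j = 11 from Fin.ext e, ht11 x hx10]
      · obtain ⟨-, h89⟩ := hl.2
        rw [e] at h89
        replace h89 := h89.resolve_left Bool.noConfusion
        have : j.val = 8 ∨ j.val = 9 ∨ j.val = 10 ∨ j.val = 11 := by
          change 8 ≤ j.val at hk8; omega
        rcases this with q | q | q | q
        · rw [show j = ⟨8, by norm_num⟩ from Fin.ext q]; exact Fin.ext h89.1
        · rw [show j = ⟨9, by norm_num⟩ from Fin.ext q]; exact Fin.ext h89.2
        · rw [show j = 10 from Fin.ext q, hx10]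
        · rw [show j = 11 from Fin.ext q, ht11 x hx10]
    · rw [map_mul, map_mul, map_inv, hze, hxe]
      rfl⟩
  obtain ⟨w, hwS, hwe⟩ : ∃ w : C0, (w.1 ∈ S0 ∧ cutN c (pos w.1) = false) ∧ enc w.1 = cycN c := by
    have h := List.all_eq_true.1 cyc_facts c (by cases c <;> simp)
    simp only [Bool.and_eq_true, Bool.not_eq_true'] at h
    obtain ⟨p, hp, hpe⟩ := SL_surj _ (Nat.ble_eq.mp h.1.2)
    rw [Nat.beq_eq.mp h.1.1] at hpe
    refine ⟨⟨p, S0_le hp⟩, ⟨hp, ?_⟩, hpe⟩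
    rw [pos, hpe]
    exact h.2
  have hcyc : IsCyclic (↥(S2 : Subgroup M') ⧸ T.subgroupOf (S2 : Subgroup M')) := by
    let gw : ↥(S2 : Subgroup M') := ⟨⟨E.D.φ w, (hmem w hwS.1).2 hwS.2⟩, hS2.2 ⟨w, hwS, rfl⟩⟩
    refine ⟨⟨QuotientGroup.mk gw, fun q => ?_⟩⟩
    obtain ⟨p, rfl⟩ := QuotientGroup.mk_surjective q
    obtain ⟨x, hx, hxe⟩ := hS2.1 p.2
    have ht := List.all_eq_true.1 (List.all_eq_true.1 cyclic_table c (by cases c <;> simp)) (pos x.1)
      (List.mem_range.2 (pos_lt hx.1).1)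
    rw [(pos_lt hx.1).2, hx.2, ← hwe] at ht
    simp only [← enc_mul, Bool.false_or, Bool.or_eq_true, Nat.beq_eq, dg_enc _ (show 10 < 12 by norm_num)] at ht
    obtain ⟨i, hi⟩ : ∃ i : ℕ, ((w ^ i * x : C0) : P12) 10 = 10 := by
      rcases ht with ((e | e) | e) | e
      · exact ⟨0, Fin.ext (by rw [pow_zero, one_mul]; exact e)⟩
      · exact ⟨1, Fin.ext (by rw [pow_one]; exact e)⟩
      · exact ⟨2, Fin.ext (by rw [pow_two]; exact e)⟩
      · exact ⟨3, Fin.ext (by rw [pow_succ', pow_two]; exact e)⟩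
    have hmemT : gw ^ i * p ∈ T.subgroupOf (S2 : Subgroup M') :=
      hT.2 ⟨w ^ i * x, ⟨mul_mem (pow_mem (show w.1 ∈ cutS c from hwS) i) hx, hi⟩, by
        rw [map_mul, map_pow, hxe]; rfl⟩
    refine ⟨-(i : ℤ), ?_⟩
    rw [← QuotientGroup.eq_one_iff, QuotientGroup.mk_mul, QuotientGroup.mk_pow, mul_eq_one_iff_inv_eq] at hmemT
    simp only [zpow_neg, zpow_natCast]
    exact hmemT
  have hαM : E.D.α ∈ M' := hXM hα
  have hα21 : tp0 = a0 21 := a0_twentyone.symm
  have hy : orderOf (⟨E.D.α, hαM⟩ : M') = 2 := by rw [Subgroup.orderOf_mk]; exact E.D.orderOf_alpha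
  have hyS : (⟨E.D.α, hαM⟩ : M') ∈ S2 := hS2.2 ⟨a0 21, ⟨av_mem 21, by
    have h := List.all_eq_true.1 cut_values c (by cases c <;> simp)
    simp only [Bool.and_eq_true, Bool.not_eq_true'] at h
    rw [show (a0 21).1 = av 21 from rfl, pos_av]
    exact h.1.1.1.1.1⟩, congrArg E.D.φ a0_twentyone⟩
  have hyT : (⟨E.D.α, hαM⟩ : M') ∉ T := fun h => by
    obtain ⟨x, hx, hxe⟩ := hT.1 h
    have hx' : x = tp0 := E.D.inj hxe
    rw [hx'] at hx
    have h10 : tp 10 ≠ 10 := by decide +kernel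
    exact h10 hx.2
  obtain ⟨g, hg, -, -⟩ := Cfsg.Agent.Fusion.extremal_transfer_cyclic_of_kills S2 T hTS hcyc hy hyS hyT
    fun f => by
      obtain ⟨hm, hf⟩ := E.XB_kills hodd (S2.isPGroup'.to_quotient _) f _ hα
      exact hf
  obtain ⟨x, ⟨hxS, hx10⟩, hxe⟩ := hT.1 hg
  obtain ⟨-, v2, -, -, -, t21, t5⟩ := vx_pairs
  obtain ⟨h2, m1, m2⟩ := E.conj_sig (hM'le g.2) v2 (x := x) (by
    rw [hxe, E.D.el_alpha]; rfl)
  rw [show ((21 : Fin 64) : ℕ) = 21 from rfl, t21] at m1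
  rw [show ((5 : Fin 64) : ℕ) = 5 from rfl, t5] at m2
  have ht := List.all_eq_true.1 step_two (pos x.1) (List.mem_range.2 (pos_lt hxS.1).1)
  rw [(pos_lt hxS.1).2, ← enc_mul, show x.1 * x.1 = 1 from congrArg Subtype.val h2, enc_one, m1, m2,
    dg_enc _ (show 10 < 12 by norm_num), show (⟨10, _⟩ : Fin 12) = 10 from rfl, hx10] at ht
  simp at ht

include L in
/-- The generated subgroup meets the Sylow subgroup in the stabiliser of the third block. -/
theorem top_only {x : C0} (hx : x.1 ∈ S0) (hX : E.D.φ x ∈ E.XB) : fixTop (enc x.1) = true := by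
  by_contra hne
  rw [Bool.not_eq_true] at hne
  refine L.alpha_not_mem ?_
  have h5 : E.D.φ (a0 5) ∈ E.XB := L.top_mem (x := a0 5) (av_mem 5) (by
    show fixTop (enc (av 5)) = true
    rw [fixTop_of_fix]
    decide +kernel)
  suffices hb : E.D.φ (a0 16) ∈ E.XB by
    rw [← E.D.el_alpha, ← vx_pairs.2.2.1, ← E.D.el_mul]
    exact mul_mem h5 hb
  have h := List.all_eq_true.1 top_escape (pos x.1) (List.mem_range.2 (pos_lt hx).1)
  rw [(pos_lt hx).2, hne] at h
  simp only [Bool.false_or, Bool.or_eq_true, List.any_eq_true] at h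
  have henc : enc (a0 16).1 = avN 16 := enc_av 16
  rw [← henc, ← enc_mul] at h
  rcases h with h | ⟨i, -, hi⟩
  · have h1 := L.top_mem (x := x * a0 16) (mul_mem hx (av_mem 16)) h
    rw [map_mul] at h1
    simpa using mul_mem (inv_mem hX) h1
  · simp only [← enc_gP, ← enc_mul] at hi
    have hgS : gP i ∈ S0 := subset_closure ⟨i, rfl⟩
    set g : C0 := ⟨gP i, gP_mem i⟩
    have h1 := L.top_mem (x := x * g * (x * g) * a0 16)
      (mul_mem (mul_mem (mul_mem hx hgS) (mul_mem hx hgS)) (av_mem 16)) hi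
    rw [map_mul] at h1
    have h2 : E.D.φ (x * g * (x * g)) ∈ E.XB := by
      rw [show x * g * (x * g) = x * (g * x * g⁻¹) by
        rw [show g⁻¹ = g from inv_eq_of_mul_eq_one_right (Subtype.ext (gP_sq i))]; group]
      rw [map_mul, map_mul, map_mul, map_inv]
      exact mul_mem hX (E.XB_conj (E.phi_S0_HB hgS) hX)
    have := mul_mem (inv_mem h2) h1
    rwa [inv_mul_cancel_left] at this

end Lift

end Cfsg.Agent.Spor.Yamaki
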