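import Cfsg.Agent.Lib.Spor.Yamaki.Orbit

/-!
The orbit of length twenty-seven: types of translations, the induced group and the lift of a three-cycle.
-/

set_option autoImplicit false
set_option maxRecDepth 100000
set_option Elab.async false

universe u

namespace Cfsg.Agent.Spor.Yamaki

open Equiv Subgroup

/-- number of moved blocks -/
def τn (v : ℕ) : ℕ :=
  (if Nat.beq (v % 4) 0 then 0 else 1) + (if Nat.beq (v / 4 % 4) 0 then 0 else 1) +
    (if Nat.beq (v / 16 % 4) 0 then 0 else 1)

/-- the pair count of each type -/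
def fOf (t : ℕ) : ℕ := [27, 18, 12, 8].getD t 0

theorem fn_table : ((List.range 64).all fun v => Nat.beq (Fn twentySeven v) (fOf (τn v)) &&
    (twentySeven.testBit v == Nat.beq (τn v) 3) && Nat.ble (τn v) 3) = true := by decide +kernel

theorem fOf_inj : ∀ a ≤ 3, ∀ b ≤ 3, fOf a = fOf b → a = b := by decide +kernel

theorem moved_av : ((List.range 64).all fun v => Nat.beq (moved (avN v)) (4 * τn v)) = true := by decide +kernel

theorem τn_le (v : Fin 64) : τn v.val ≤ 3 := by
  have h := List.all_eq_true.1 fn_table v.val (List.mem_range.2 v.isLt)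
  rw [Bool.and_eq_true] at h
  exact Nat.ble_eq.mp h.2

theorem fn_eq (v : Fin 64) : Fn twentySeven v.val = fOf (τn v.val) := by
  have h := List.all_eq_true.1 fn_table v.val (List.mem_range.2 v.isLt)
  simp only [Bool.and_eq_true] at h
  exact Nat.beq_eq.mp h.1.1

theorem inMask_27 (v : Fin 64) : inMask twentySeven v ↔ τn v.val = 3 := by
  have h := List.all_eq_true.1 fn_table v.val (List.mem_range.2 v.isLt)
  simp only [Bool.and_eq_true] at h
  rw [inMask, beq_iff_eq.1 h.1.2, Nat.beq_eq]

theorem moved_a0 (v : Fin 64) : (a0 v).1.support.card = 4 * τn v.val := by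
  rw [← moved_enc, show (a0 v).1 = av v from rfl, enc_av]
  exact Nat.beq_eq.mp (List.all_eq_true.1 moved_av v.val (List.mem_range.2 v.isLt))

/-- the configuration with twenty-seven conjugates -/
structure Data27 (G : Type u) [Group G] [Finite G] where
  D : Ctx G
  hO : ∀ v : Fin 64, D.O v ↔ τn v.val = 3

namespace Ctx

variable {G : Type u} [Group G] [Finite G] (D : Ctx G)

theorem act_exists {h : G} (hh : h ∈ normalizer (D.A : Set G)) (v : Fin 64) : ∃ w, D.el w = h * D.el v * h⁻¹ :=
  D.mem_A.1 ((Subgroup.mem_normalizer_iff.1 hh _).1 (D.mem_A.2 ⟨v, rfl⟩))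

/-- the action on the translations -/
noncomputable def act (h : normalizer (D.A : Set G)) (v : Fin 64) : Fin 64 := (D.act_exists h.2 v).choose

theorem el_act (h : normalizer (D.A : Set G)) (v : Fin 64) : D.el (D.act h v) = h.1 * D.el v * h.1⁻¹ :=
  (D.act_exists h.2 v).choose_spec

theorem act_mul (g h : normalizer (D.A : Set G)) (v : Fin 64) : D.act (g * h) v = D.act g (D.act h v) :=
  D.el_inj (by rw [el_act, el_act, el_act, Subgroup.coe_mul]; group)

theorem act_one (v : Fin 64) : D.act 1 v = v := D.el_inj (by rw [el_act, Subgroup.coe_one]; group)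

theorem act_add (h : normalizer (D.A : Set G)) (v w : Fin 64) : D.act h (vx v w) = vx (D.act h v) (D.act h w) :=
  D.el_inj (by rw [el_act, ← D.el_mul, ← D.el_mul, el_act, el_act]; group)

theorem O_act (h : normalizer (D.A : Set G)) (v : Fin 64) : D.O (D.act h v) ↔ D.O v := by
  constructor
  · rintro ⟨x, hx⟩
    refine ⟨h.1⁻¹ * x, ?_⟩
    rw [show h.1⁻¹ * x * D.α * (h.1⁻¹ * x)⁻¹ = h.1⁻¹ * (x * D.α * x⁻¹) * h.1 by group, hx, el_act]
    group
  · rintro ⟨x, hx⟩
    refine ⟨h.1 * x, ?_⟩
    rw [show h.1 * x * D.α * (h.1 * x)⁻¹ = h.1 * (x * D.α * x⁻¹) * h.1⁻¹ by group, hx, el_act]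

/-- the permutation of the translations -/
noncomputable def actPerm : normalizer (D.A : Set G) →* Perm (Fin 64) :=
  MonoidHom.toHomPerm
    { toFun := D.act
      map_one' := funext D.act_one
      map_mul' := fun g h => funext (D.act_mul g h) }

theorem actPerm_apply (h : normalizer (D.A : Set G)) (v : Fin 64) : D.actPerm h v = D.act h v := rfl

theorem el_conj (c : C0) {v w : Fin 64} (hc : c * a0 v = a0 w * c) : D.φ c * D.el v * (D.φ c)⁻¹ = D.el w := by
  rw [el, el, ← map_inv, ← map_mul, ← map_mul, hc, mul_inv_cancel_right]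

theorem fP_conj : ∀ i : Fin 4, ∀ v : Fin 64, ∃ w, (⟨fP i, fP_mem i⟩ : C0) * a0 v = a0 w * ⟨fP i, fP_mem i⟩ := by
  intro i v
  have h : ((List.range 4).all fun i => (List.range 64).all fun v => (List.range 64).any fun w =>
      Nat.beq (mN (fN.getD i 0) (avN v)) (mN (avN w) (fN.getD i 0))) = true := by decide +kernel
  obtain ⟨w, hw, he⟩ := List.any_eq_true.1
    (List.all_eq_true.1 (List.all_eq_true.1 h i.val (List.mem_range.2 i.isLt)) v.val (List.mem_range.2 v.isLt))
  refine ⟨⟨w, List.mem_range.1 hw⟩, Subtype.ext (enc_inj ?_)⟩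
  show enc (fP i * av v) = enc (av _ * fP i)
  rw [enc_mul, enc_mul, enc_fP, enc_av, enc_av]
  exact Nat.beq_eq.mp he

/-- a generator of the normaliser inside the model -/
def fG (i : Fin 4) : normalizer (D.A : Set G) :=
  ⟨D.φ ⟨fP i, fP_mem i⟩, by
    refine Subgroup.mem_normalizer_iff.2 fun x => ⟨fun hx => ?_, fun hx => ?_⟩
    · obtain ⟨v, rfl⟩ := D.mem_A.1 hx
      obtain ⟨w, hw⟩ := fP_conj i v
      exact D.mem_A.2 ⟨w, (D.el_conj _ hw).symm⟩
    · obtain ⟨v, hv⟩ := D.mem_A.1 hx
      have hfun : Function.Injective fun u => (fP_conj i u).choose := fun a b hab => D.el_inj (by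
        have ha := D.el_conj _ (fP_conj i a).choose_spec
        have hb := D.el_conj _ (fP_conj i b).choose_spec
        simp only at hab
        rw [hab, ← hb] at ha
        exact mul_left_cancel (mul_right_cancel ha))
      obtain ⟨u, hu⟩ := (Finite.injective_iff_surjective.1 hfun) v
      have h2 := D.el_conj _ (fP_conj i u).choose_spec
      simp only at hu
      rw [hu, hv] at h2
      exact D.mem_A.2 ⟨u, mul_left_cancel (mul_right_cancel h2)⟩⟩

/-- the permutation induced by a generator, numerically -/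
def fAct (i : ℕ) (v : ℕ) : ℕ :=
  (List.range 64).findIdx fun w => Nat.beq (mN (fN.getD i 0) (avN v)) (mN (avN w) (fN.getD i 0))

theorem fAct_eq (i : Fin 4) (v : Fin 64) : (D.act (D.fG i) v).val = fAct i.val v.val := by
  obtain ⟨w, hw⟩ := fP_conj i v
  have h1 : D.act (D.fG i) v = w := D.el_inj (by rw [el_act]; exact D.el_conj _ hw)
  have h2 : ((List.range 4).all fun i => (List.range 64).all fun v => (List.range 64).all fun w =>
      !(Nat.beq (mN (fN.getD i 0) (avN v)) (mN (avN w) (fN.getD i 0))) || Nat.beq (fAct i v) w) = true := by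
    decide +kernel
  have he : Nat.beq (mN (fN.getD i.val 0) (avN v.val)) (mN (avN w.val) (fN.getD i.val 0)) = true := by
    refine Nat.beq_eq.mpr ?_
    have := congrArg (fun x : C0 => enc x.1) hw
    simp only [Subgroup.coe_mul, show ∀ u, (a0 u).1 = av u from fun _ => rfl, enc_mul, enc_fP, enc_av] at this
    exact this
  have := List.all_eq_true.1 (List.all_eq_true.1 (List.all_eq_true.1 h2 i.val (List.mem_range.2 i.isLt))
    v.val (List.mem_range.2 v.isLt)) w.val (List.mem_range.2 w.isLt)
  rw [he] at this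
  simp only [Bool.not_true, Bool.false_or] at this
  rw [h1]
  exact (Nat.beq_eq.mp this).symm

theorem cent_A_sq {x : C0} (h : ∀ v : Fin 64, x * a0 v = a0 v * x) : x * x = 1 := by
  have hp : ∀ (v : Fin 64) (i : Fin 12), x.1 (av v i) = av v (x.1 i) := fun v i =>
    congrArg (fun p : C0 => p.1 i) (h v)
  have hblock : ∀ b : Fin 3, ∃ v : Fin 64, ∀ i : Fin 12, (av v i = i ↔ i.val / 4 ≠ b.val) := by decide +kernel
  have hblk : ∀ i : Fin 12, (x.1 i).val / 4 = i.val / 4 := by
    intro i
    obtain ⟨v, hv⟩ := hblock ⟨i.val / 4, by omega⟩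
    by_contra hne
    have h1 : av v (x.1 i) = x.1 i := (hv _).2 hne
    rw [← hp] at h1
    exact (hv i).1 (x.1.injective h1) rfl
  have htr : ∀ i j : Fin 12, i.val / 4 = j.val / 4 → ∃ v : Fin 64, av v i = j := by decide +kernel
  refine Subtype.ext (Equiv.ext fun i => ?_)
  obtain ⟨v, hv⟩ := htr i (x.1 i) (hblk i).symm
  rw [Subgroup.coe_mul, Perm.mul_apply, Subgroup.coe_one, Perm.one_apply, ← hv, hp, ← hv, ← Perm.mul_apply,
    av_sq, Perm.one_apply]

theorem cube_trivial {g : normalizer (D.A : Set G)} (h : ∀ v, D.act g v = v) : g.1 * g.1 = 1 := by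
  have hc : ∀ v, g.1 * D.el v = D.el v * g.1 := fun v => by
    have h1 := D.el_act g v
    rw [h v] at h1
    rw [eq_comm, mul_inv_eq_iff_eq_mul] at h1
    exact h1
  obtain ⟨x, hx⟩ := D.exists_pre (g := g.1) (by rw [← D.el_alpha]; exact hc 21)
  rw [← hx, ← map_mul, cent_A_sq (fun v => D.inj (by rw [map_mul, map_mul, hx]; exact hc v)), map_one]

end Ctx

/-- candidates for the images of the basis -/
def basisV : List ℕ := [1, 2, 4, 8, 16, 32]

/-- possible images of the first vectors of the basis -/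
def tuples : List (List ℕ) :=
  (List.range 6).foldl (fun T i => T.flatMap fun t =>
    ((List.range 64).filter fun w => Nat.beq (τn w) 1 && (List.range i).all fun j =>
      Nat.beq (τn (w ^^^ t.getD j 0)) (τn (basisV.getD i 0 ^^^ basisV.getD j 0))).map fun w => t ++ [w]) [[]]

theorem tuples_length : Nat.beq tuples.length 1296 = true := by decide +kernel

/-- the three-cycle on the first block -/
def sig3 (v : Fin 64) : Fin 64 := ⟨v.val / 4 * 4 + [0, 3, 1, 2].getD (v.val % 4) 0, by
  have : ∀ a < 4, [0, 3, 1, 2].getD a 0 < 4 := by decide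
  have := this (v.val % 4) (Nat.mod_lt _ (by norm_num))
  omega⟩

theorem sig3_facts : (∀ v w : Fin 64, sig3 (vx v w) = vx (sig3 v) (sig3 w)) ∧
    (∀ v : Fin 64, sig3 (sig3 (sig3 v)) = v) ∧ ∀ v : Fin 64, τn (sig3 v).val = τn v.val := by decide +kernel

namespace Data27

variable {G : Type u} [Group G] [Finite G] (E : Data27 G)

theorem τn_act (h : normalizer (E.D.A : Set G)) (v : Fin 64) : τn (E.D.act h v).val = τn v.val := by
  have hinj : Function.Injective (E.D.act h) := (E.D.actPerm h).injective
  have hmask : ∀ a : Fin 64, twentySeven.testBit (E.D.act h a).val = twentySeven.testBit a.val := fun a => by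
    have h1 := E.D.O_act h a
    rw [E.hO, E.hO, ← inMask_27, ← inMask_27] at h1
    exact Bool.eq_iff_iff.2 h1
  obtain ⟨hF, -⟩ := Ctx.invariant_mask (E.D.act h) (Finite.injective_iff_bijective.1 hinj)
    (E.D.act_add h) hmask v
  rw [fn_eq, fn_eq] at hF
  exact fOf_inj _ (τn_le _) _ (τn_le _) hF

/-- Conjugate translations have the same type. -/
theorem τn_conj {g : G} {v w : Fin 64} (h : g * E.D.el v * g⁻¹ = E.D.el w) : τn v.val = τn w.val := by
  obtain ⟨n, hn, he⟩ := E.D.fusion_A (E.D.mem_A.2 ⟨v, rfl⟩) (h ▸ E.D.mem_A.2 ⟨w, rfl⟩)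
  have h1 : E.D.act ⟨n, hn⟩ v = w := E.D.el_inj (by rw [Ctx.el_act]; exact he.trans h)
  rw [← h1, E.τn_act]

/-- Conjugate involutions of the model move equally many points. -/
theorem moved_conj {g : G} {x y : C0} (hx : x * x = 1) (hy : y * y = 1) (h : g * E.D.φ x * g⁻¹ = E.D.φ y) :
    x.1.support.card = y.1.support.card := by
  obtain ⟨c, v, hv⟩ := conj_into_A0 hx
  obtain ⟨d, w, hw⟩ := conj_into_A0 hy
  have hv' : c * x * c⁻¹ = a0 v := Subtype.ext hv
  have hw' : d * y * d⁻¹ = a0 w := Subtype.ext hw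
  have h1 : τn v.val = τn w.val := E.τn_conj (g := E.D.φ d * g * (E.D.φ c)⁻¹) (by
    rw [Ctx.el, Ctx.el, ← hv', ← hw', map_mul, map_mul, map_inv, map_mul, map_mul, map_inv, ← h]
    group)
  have h2 : ∀ (c x : C0), (c * x * c⁻¹).1.support.card = x.1.support.card := fun c x => by
    rw [Subgroup.coe_mul, Subgroup.coe_mul, Subgroup.coe_inv, Perm.card_support_conj]
  rw [← h2 c x, ← h2 d y, hv', hw', moved_a0, moved_a0, h1]

theorem act_trans {v : Fin 64} (hv : τn v.val = 3) : ∃ h : normalizer (E.D.A : Set G), E.D.act h 21 = v := by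
  obtain ⟨g, hg⟩ := (E.hO v).2 hv
  obtain ⟨n, hn, he⟩ := E.D.fusion_A (d := E.D.α) (g := g) (E.D.el_alpha ▸ E.D.mem_A.2 ⟨21, rfl⟩)
    (hg ▸ E.D.mem_A.2 ⟨v, rfl⟩)
  exact ⟨⟨n, hn⟩, E.D.el_inj (by rw [Ctx.el_act, E.D.el_alpha]; exact he.trans hg)⟩

/-- additive permutations preserving the types -/
def Aut27 : Subgroup (Perm (Fin 64)) where
  carrier := {p | (∀ v w, p (vx v w) = vx (p v) (p w)) ∧ ∀ v, τn (p v).val = τn v.val}
  one_mem' := ⟨fun _ _ => rfl, fun _ => rfl⟩
  mul_mem' := fun {p q} hp hq => ⟨fun v w => by simp only [Perm.mul_apply]; rw [hq.1, hp.1],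
    fun v => by simp only [Perm.mul_apply]; rw [hp.2, hq.2]⟩
  inv_mem' := fun {p} hp => ⟨fun v w => p.injective (by rw [hp.1]; simp), fun v => by
    have h := hp.2 (p⁻¹ v)
    rw [show p (p⁻¹ v) = v from p.apply_symm_apply v] at h
    exact h.symm⟩

theorem card_Aut27 : Nat.card Aut27 ≤ 1296 := by
  classical
  have hinto : ∀ p : Aut27, (basisV.map fun b => (p.1 (⟨b % 64, Nat.mod_lt _ (by norm_num)⟩ : Fin 64)).val) ∈ tuples := by
    intro p
    have hstep : ∀ k ≤ 6, ((List.range k).map fun i =>
        (p.1 (⟨basisV.getD i 0 % 64, Nat.mod_lt _ (by norm_num)⟩ : Fin 64)).val) ∈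
        (List.range k).foldl (fun T i => T.flatMap fun t =>
          ((List.range 64).filter fun w => Nat.beq (τn w) 1 && (List.range i).all fun j =>
            Nat.beq (τn (w ^^^ t.getD j 0)) (τn (basisV.getD i 0 ^^^ basisV.getD j 0))).map fun w => t ++ [w]) [[]] := by
      intro k hk
      induction k with
      | zero => simp
      | succ k ih =>
        rw [show List.range (k + 1) = List.range k ++ [k] from List.range_succ, List.foldl_append, List.map_append]
        simp only [List.foldl_cons, List.foldl_nil, List.map_cons, List.map_nil]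
        refine List.mem_flatMap.2 ⟨_, ih (by omega), List.mem_map.2 ⟨_, List.mem_filter.2
          ⟨List.mem_range.2 (Fin.isLt _), ?_⟩, rfl⟩⟩
        have hb : ∀ i < 6, basisV.getD i 0 < 64 ∧ τn (basisV.getD i 0) = 1 := by decide +kernel
        rw [Bool.and_eq_true]
        refine ⟨Nat.beq_eq.mpr (by rw [p.2.2]; simp only [Nat.mod_eq_of_lt (hb k (by omega)).1]; exact (hb k (by omega)).2),
          List.all_eq_true.2 fun j hj => Nat.beq_eq.mpr ?_⟩
        have hj' := List.mem_range.1 hj
        rw [List.getD_eq_getElem ((List.range k).map fun i =>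
          (p.1 (⟨basisV.getD i 0 % 64, Nat.mod_lt _ (by norm_num)⟩ : Fin 64)).val) 0 (by simpa using hj'),
          List.getElem_map, List.getElem_range]
        have hx : ∀ a b : Fin 64, a.val ^^^ b.val = (vx a b).val := fun a b =>
          (Nat.mod_eq_of_lt (Nat.xor_lt_two_pow (n := 6) a.isLt b.isLt)).symm
        rw [hx, ← p.2.1, p.2.2, ← hx]
        simp only [Nat.mod_eq_of_lt (hb k (by omega)).1, Nat.mod_eq_of_lt (hb j (by omega)).1]
    have h6 := hstep 6 le_rfl
    rw [show basisV = (List.range 6).map fun i => basisV.getD i 0 by decide, List.map_map]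
    exact h6
  have hinj : Function.Injective fun p : Aut27 =>
      (⟨_, List.mem_toFinset.2 (hinto p)⟩ : tuples.toFinset) := by
    intro p q h
    have h' := congrArg Subtype.val h
    simp only [basisV, List.map_cons, List.map_nil, List.cons.injEq, and_true, Fin.val_inj] at h'
    refine Subtype.ext (Equiv.ext fun v => ?_)
    have hspan : ∀ v : Fin 64, v = vx (vx (vx (vx (vx (if v.val.testBit 0 then 1 else 0) (if v.val.testBit 1 then 2 else 0))
        (if v.val.testBit 2 then 4 else 0)) (if v.val.testBit 3 then 8 else 0)) (if v.val.testBit 4 then 16 else 0))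
        (if v.val.testBit 5 then 32 else 0) := by decide +kernel
    have h0 : ∀ r : Aut27, r.1 0 = 0 := fun r => by
      have := r.2.1 0 0
      rw [vx_self, vx_self] at this
      exact this
    have hif : ∀ (b : Bool) (k : Fin 64), p.1 k = q.1 k → p.1 (if b then k else 0) = q.1 (if b then k else 0) := by
      intro b k hk
      cases b
      · simp [h0]
      · simpa using hk
    obtain ⟨e0, e1, e2, e3, e4, e5⟩ := h'
    rw [hspan v]
    simp only [p.2.1, q.2.1]
    rw [hif _ 1 e0, hif _ 2 e1, hif _ 4 e2, hif _ 8 e3, hif _ 16 e4, hif _ 32 e5]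
  refine (Nat.card_le_card_of_injective _ hinj).trans ?_
  rw [Nat.card_eq_fintype_card, Fintype.card_coe]
  exact (List.toFinset_card_le _).trans (le_of_eq (Nat.beq_eq.mp tuples_length))

theorem range_le : E.D.actPerm.range ≤ Aut27 := by
  rintro _ ⟨h, rfl⟩
  exact ⟨E.D.act_add h, E.τn_act h⟩

end Data27

/-- words giving twenty-four permutations fixing the centre -/
def stabW (j : ℕ) : List ℕ :=
  (if j.testBit 0 then [0] else []) ++ (if j.testBit 1 then [1] else []) ++ (if j.testBit 2 then [2] else []) ++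
    List.replicate (j / 8) 3

theorem stabW_table : ((List.range 24).all fun j => Nat.beq ((stabW j).foldr Ctx.fAct 21) 21 &&
    (List.range 24).all fun k => Nat.beq j k ||
      (List.range 64).any fun v => !(Nat.beq ((stabW j).foldr Ctx.fAct v) ((stabW k).foldr Ctx.fAct v))) = true := by
  decide +kernel

namespace Data27

variable {G : Type u} [Group G] [Finite G] (E : Data27 G)

theorem card_range_ge : 648 ≤ Nat.card E.D.actPerm.range := by
  classical
  let T := {v : Fin 64 // τn v.val = 3}
  have hT : Nat.card T = 27 := by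
    rw [Nat.card_eq_fintype_card]
    decide +kernel
  let f : T × Fin 24 → E.D.actPerm.range := fun p =>
    ⟨_, ⟨(E.act_trans p.1.2).choose * (((stabW p.2.val).map fun i => E.D.fG ⟨i % 4, Nat.mod_lt _ (by norm_num)⟩)).prod, rfl⟩⟩
  have hw : ∀ (l : List ℕ), (∀ i ∈ l, i < 4) → ∀ v : Fin 64,
      (E.D.act ((l.map fun i => E.D.fG ⟨i % 4, Nat.mod_lt _ (by norm_num)⟩)).prod v).val = l.foldr Ctx.fAct v.val := by
    intro l hl
    induction l with
    | nil => intro v; simp [Ctx.act_one]
    | cons a l ih =>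
      intro v
      rw [List.map_cons, List.prod_cons, Ctx.act_mul, List.foldr_cons, Ctx.fAct_eq,
        ih (fun i hi => hl i (List.mem_cons_of_mem _ hi))]
      simp only [Nat.mod_eq_of_lt (hl a List.mem_cons_self)]
  have h4 : ∀ j < 24, ∀ i ∈ stabW j, i < 4 := by decide +kernel
  have hf : Function.Injective f := by
    intro a b h
    have h1 : ∀ v, E.D.act ((E.act_trans a.1.2).choose * (((stabW a.2.val).map fun i => E.D.fG ⟨i % 4, Nat.mod_lt _ (by norm_num)⟩)).prod) v =
        E.D.act ((E.act_trans b.1.2).choose * (((stabW b.2.val).map fun i => E.D.fG ⟨i % 4, Nat.mod_lt _ (by norm_num)⟩)).prod) v :=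
      fun v => congrArg (fun p : E.D.actPerm.range => p.1 v) h
    have h21 : ∀ j : Fin 24, E.D.act (((stabW j.val).map fun i => E.D.fG ⟨i % 4, Nat.mod_lt _ (by norm_num)⟩)).prod 21 = 21 := fun j => by
      refine Fin.ext ?_
      rw [hw _ (h4 j.val j.isLt)]
      have := List.all_eq_true.1 stabW_table j.val (List.mem_range.2 j.isLt)
      rw [Bool.and_eq_true] at this
      exact Nat.beq_eq.mp this.1
    have hv : a.1 = b.1 := by
      have := h1 21
      rw [Ctx.act_mul, Ctx.act_mul, h21, h21, (E.act_trans a.1.2).choose_spec, (E.act_trans b.1.2).choose_spec] at this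
      exact Subtype.ext this
    refine Prod.ext hv (Fin.ext ?_)
    by_contra hne
    have := List.all_eq_true.1 stabW_table a.2.val (List.mem_range.2 a.2.isLt)
    rw [Bool.and_eq_true] at this
    have := List.all_eq_true.1 this.2 b.2.val (List.mem_range.2 b.2.isLt)
    simp only [Bool.or_eq_true, List.any_eq_true, List.mem_range, Bool.not_eq_true'] at this
    rcases this with h' | ⟨v, hv', h'⟩
    · exact hne (Nat.beq_eq.mp h')
    · have h2 := h1 ⟨v, hv'⟩
      rw [Ctx.act_mul, Ctx.act_mul] at h2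
      generalize hg : (E.act_trans a.1.2).choose = g at h2
      rw [hv] at hg
      rw [hg] at h2
      have h3 := congrArg Fin.val ((E.D.actPerm g).injective h2)
      rw [hw _ (h4 _ a.2.isLt), hw _ (h4 _ b.2.isLt)] at h3
      rw [← Bool.not_eq_true, Nat.beq_eq] at h'
      exact h' h3
  have h := Nat.card_le_card_of_injective f hf
  rwa [Nat.card_prod, hT, Nat.card_fin] at h

/-- The three-cycle on the first block is induced. -/
theorem exists_sig3 : ∃ h : normalizer (E.D.A : Set G), ∀ v, E.D.act h v = sig3 v := by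
  set L := E.D.actPerm.range.subgroupOf Aut27
  have hidx : L.index ≤ 2 := by
    have h1 := L.card_mul_index
    rw [Nat.card_congr (subgroupOfEquivOfLe E.range_le).toEquiv] at h1
    have h2 := card_Aut27
    have h3 := E.card_range_ge
    by_contra h
    have : 648 * 3 ≤ Nat.card E.D.actPerm.range * L.index := Nat.mul_le_mul h3 (by omega)
    omega
  let s : Perm (Fin 64) :=
    ⟨sig3, fun v => sig3 (sig3 v), fun v => sig3_facts.2.1 v, fun v => sig3_facts.2.1 v⟩
  have hs : s ∈ Aut27 := ⟨sig3_facts.1, sig3_facts.2.2⟩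
  have hmem : ∀ x : Aut27, x * x ∈ L := by
    intro x
    rcases (show L.index = 1 ∨ L.index = 2 by have := L.index_ne_zero_of_finite; omega) with h | h
    · rw [index_eq_one] at h; rw [h]; exact mem_top _
    · exact L.mul_self_mem_of_index_two h x
  obtain ⟨h, hh⟩ : s ∈ E.D.actPerm.range := by
    have h1 := hmem (⟨s, hs⟩ * ⟨s, hs⟩)
    rw [mem_subgroupOf, Subgroup.coe_mul, Subgroup.coe_mul] at h1
    rwa [show s * s * (s * s) = s from Equiv.ext fun v => sig3_facts.2.1 (sig3 v)] at h1
  exact ⟨h, fun v => congrFun (congrArg (⇑) hh) v⟩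

end Data27

end Cfsg.Agent.Spor.Yamaki
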