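import Cfsg.Agent.Lib.Spor.Yamaki.Whole

/-!
No involution lies in the alternating subgroup and in another conjugate of it.
-/

set_option autoImplicit false
set_option maxRecDepth 100000
set_option Elab.async false
set_option linter.style.haveILetI false

universe u

namespace Cfsg.Agent.Spor.Yamaki

open Equiv Subgroup Cfsg.Agent.Small.BoundedPres Cfsg.Agent.Small.AltDeg

attribute [local irreducible] mN enc tab avN slAt gN idxN fixTop moved

theorem farN_iff {w q : ℕ} : farN w q = true ↔ moved (mN w q) ≠ 4 := by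
  rw [farN, Bool.not_eq_true', ← Bool.not_eq_true, Nat.beq_eq]

theorem enc_prod (x y : C0) : enc (x * y : C0).1 = mN (enc x.1) (enc y.1) := enc_mul x.1 y.1

theorem cm_comm {x y : C0} (h : x * y = y * x) : cm (enc x.1) (enc y.1) = true :=
  cm_iff.2 (congrArg Subtype.val h)

theorem ne_one_of_card {x : C0} (h : x.1.support.card = 8) : x ≠ 1 := by
  rintro rfl
  simp at h

/-- witnesses for a four-group, in the model -/
theorem pairC {x y : C0} (hx : x.1 ∈ S0) (hy : y.1 ∈ S0) (hx2 : x * x = 1) (hy2 : y * y = 1)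
    (hxm : x.1.support.card = 8) (hym : y.1.support.card = 8) (hxy : x * y = y * x)
    (hpm : (x * y : C0).1.support.card = 8) :
    (∃ w ∈ witN, cm w (enc x.1) = true ∧ cm w (enc y.1) = true ∧ farN w (enc x.1) = true ∧
      farN w (enc y.1) = true ∧ farN w (enc (x * y : C0).1) = true) ∧
    ∃ w ∈ witN, cm w (enc x.1) = true ∧ cm w (enc y.1) = true ∧
      ¬ (farN w (enc x.1) = true ∧ farN w (enc y.1) = true ∧ farN w (enc (x * y : C0).1) = true) := by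
  have aux : ∀ x y : C0, x.1 ∈ S0 → y.1 ∈ S0 → x * x = 1 → y * y = 1 → x.1.support.card = 8 →
      y.1.support.card = 8 → x * y = y * x → (x * y : C0).1.support.card = 8 → enc x.1 < enc y.1 →
      (∃ w ∈ witN, cm w (enc x.1) = true ∧ cm w (enc y.1) = true ∧ farN w (enc x.1) = true ∧
        farN w (enc y.1) = true ∧ farN w (enc (x * y : C0).1) = true) ∧
      ∃ w ∈ witN, cm w (enc x.1) = true ∧ cm w (enc y.1) = true ∧
        ¬ (farN w (enc x.1) = true ∧ farN w (enc y.1) = true ∧ farN w (enc (x * y : C0).1) = true) := by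
    intro x y hx hy hx2 hy2 hxm hym hxy hpm hlt
    have h := List.all_eq_true.1 (List.all_eq_true.1 pair_table _ (gam_of hx hx2 hxm)) _ (gam_of hy hy2 hym)
    have hp : pureN (enc x.1) (enc y.1) = true := by
      rw [pureN, cm_comm hxy, ← enc_prod, moved_enc, hpm]; rfl
    have hb : Nat.ble (enc y.1) (enc x.1) = false := by
      rw [← Bool.not_eq_true, Nat.ble_eq]; omega
    rw [hp, hb, ← enc_prod] at h
    simp only [Bool.not_true, Bool.false_or, Bool.and_eq_true, List.any_eq_true, Bool.not_eq_true',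
      ← Bool.not_eq_true] at h
    obtain ⟨⟨w, hw, ⟨⟨⟨a, b⟩, c⟩, d⟩, e⟩, w', hw', ⟨a', b'⟩, hn⟩ := h
    exact ⟨⟨w, hw, a, b, c, d, e⟩, w', hw', a', b', fun ⟨c', d', e'⟩ => hn ⟨⟨c', d'⟩, e'⟩⟩
  have hne : enc x.1 ≠ enc y.1 := fun h => by
    rw [show x = y from Subtype.ext (enc_inj h), hy2] at hpm
    simp at hpm
  rcases Nat.lt_or_ge (enc x.1) (enc y.1) with h | h
  · exact aux x y hx hy hx2 hy2 hxm hym hxy hpm h
  · obtain ⟨⟨w, hw, a, b, c, d, e⟩, w', hw', a', b', hn⟩ :=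
      aux y x hy hx hy2 hx2 hym hxm hxy.symm (hxy ▸ hpm) (lt_of_le_of_ne h hne.symm)
    rw [← hxy] at e hn
    exact ⟨⟨w, hw, b, a, d, c, e⟩, w', hw', b', a', fun ⟨c', d', e'⟩ => hn ⟨d', c', e'⟩⟩

/-- an elementary group of order eight contains a separated pair -/
theorem sepC (Q : Subgroup C0) (hQ : ∀ x ∈ Q, x.1 ∈ S0 ∧ x * x = 1 ∧ (x ≠ 1 → x.1.support.card = 8))
    {x y z : C0} (hx : x ∈ Q) (hy : y ∈ Q) (hz : z ∈ Q) (hx1 : x ≠ 1) (hy1 : y ≠ 1) (hz1 : z ≠ 1)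
    (hxy : x ≠ y) (hxz : x ≠ z) (hyz : y ≠ z) (hzxy : z ≠ x * y) :
    ∃ u ∈ sixN, ∃ a ∈ Q, ∃ b ∈ Q, a ≠ 1 ∧ b ≠ 1 ∧ a ≠ b ∧ sepN u (enc a.1) (enc b.1) = true := by
  have hsq : ∀ {a : C0}, a ∈ Q → a * a = 1 := fun ha => (hQ _ ha).2.1
  have hcm : ∀ {a b : C0}, a ∈ Q → b ∈ Q → a * b = b * a := fun ha hb =>
    comm_of_sq (hsq ha) (hsq hb) (hsq (mul_mem ha hb))
  have hne : ∀ {a b : C0}, a ∈ Q → a ≠ b → a * b ≠ 1 := fun ha h e =>
    h (mul_left_cancel ((hsq ha).trans e.symm))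
  have aux : ∀ x y z : C0, x ∈ Q → y ∈ Q → z ∈ Q → x ≠ 1 → y ≠ 1 → z ≠ 1 → z ≠ x * y →
      enc x.1 < enc y.1 → enc y.1 < enc z.1 →
      ∃ u ∈ sixN, ∃ a ∈ Q, ∃ b ∈ Q, a ≠ 1 ∧ b ≠ 1 ∧ a ≠ b ∧ sepN u (enc a.1) (enc b.1) = true := by
    intro x y z hx hy hz hx1 hy1 hz1 hzxy h1 h2
    have hxy : x ≠ y := fun e => by rw [e] at h1; omega
    have hyz : y ≠ z := fun e => by rw [e] at h2; omega
    have hxz : x ≠ z := fun e => by rw [e] at h1; omega
    have hgam : ∀ {a : C0}, a ∈ Q → a ≠ 1 → enc a.1 ∈ gamL := fun ha h =>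
      gam_of (hQ _ ha).1 (hsq ha) ((hQ _ ha).2.2 h)
    have hpure : ∀ {a b : C0}, a ∈ Q → b ∈ Q → a ≠ b → pureN (enc a.1) (enc b.1) = true := fun ha hb h => by
      rw [pureN, cm_comm (hcm ha hb), ← enc_prod, moved_enc, (hQ _ (mul_mem ha hb)).2.2 (hne ha h)]; rfl
    have hxyz : x * (y * z) ≠ 1 := fun e => hzxy (by
      rw [← mul_assoc] at e
      exact (mul_left_cancel ((hsq (mul_mem hx hy)).trans e.symm)).symm)
    have h := List.all_eq_true.1 (List.all_eq_true.1 triple_table _ (hgam hx hx1)) _ (hgam hy hy1)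
    rw [show Nat.ble (enc y.1) (enc x.1) = false by rw [← Bool.not_eq_true, Nat.ble_eq]; omega,
      hpure hx hy hxy, Bool.not_true, Bool.false_or, Bool.false_or] at h
    replace h := List.all_eq_true.1 h _ (hgam hz hz1)
    rw [show Nat.ble (enc z.1) (enc y.1) = false by rw [← Bool.not_eq_true, Nat.ble_eq]; omega,
      show Nat.beq (enc z.1) (mN (enc x.1) (enc y.1)) = false by
        rw [← Bool.not_eq_true, Nat.beq_eq, ← enc_prod]; exact fun e => hzxy (Subtype.ext (enc_inj e)),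
      hpure hx hz hxz, hpure hy hz hyz] at h
    simp only [← enc_prod, moved_enc, (hQ _ (mul_mem hx (mul_mem hy hz))).2.2 hxyz, Nat.beq_refl, Bool.and_self,
      Bool.not_true, Bool.false_or, List.any_eq_true, Bool.and_eq_true, Bool.not_eq_true'] at h
    obtain ⟨u, hu, a, ha, -, b, hb, hab, hs⟩ := h
    have hel : ∀ c ∈ [enc x.1, enc y.1, enc z.1, enc (x * y : C0).1, enc (x * z : C0).1, enc (y * z : C0).1,
        enc (x * (y * z) : C0).1], ∃ e ∈ Q, e ≠ 1 ∧ enc e.1 = c := by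
      intro c hc
      simp only [List.mem_cons, List.not_mem_nil, or_false] at hc
      rcases hc with rfl | rfl | rfl | rfl | rfl | rfl | rfl
      exacts [⟨x, hx, hx1, rfl⟩, ⟨y, hy, hy1, rfl⟩, ⟨z, hz, hz1, rfl⟩,
        ⟨_, mul_mem hx hy, hne hx hxy, rfl⟩, ⟨_, mul_mem hx hz, hne hx hxz, rfl⟩,
        ⟨_, mul_mem hy hz, hne hy hyz, rfl⟩, ⟨_, mul_mem hx (mul_mem hy hz), hxyz, rfl⟩]
    obtain ⟨a, haQ, ha1, rfl⟩ := hel a ha
    obtain ⟨b, hbQ, hb1, rfl⟩ := hel b hb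
    exact ⟨u, hu, a, haQ, b, hbQ, ha1, hb1, fun e => by simp [e] at hab, hs⟩
  have hxzy : y ≠ x * z := fun e => hzxy (by rw [e, ← mul_assoc, hsq hx, one_mul])
  have hyzx : x ≠ y * z := fun e => hzxy (by rw [hcm hx hy, e, ← mul_assoc, hsq hy, one_mul])
  have he : ∀ {a b : C0}, a ≠ b → enc a.1 ≠ enc b.1 := fun h e => h (Subtype.ext (enc_inj e))
  have := he hxy; have := he hxz; have := he hyz
  rcases Nat.lt_or_ge (enc x.1) (enc y.1) with h1 | h1 <;>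
    rcases Nat.lt_or_ge (enc y.1) (enc z.1) with h2 | h2 <;>
    rcases Nat.lt_or_ge (enc x.1) (enc z.1) with h3 | h3
  · exact aux x y z hx hy hz hx1 hy1 hz1 hzxy h1 h2
  · omega
  · exact aux x z y hx hz hy hx1 hz1 hy1 hxzy h3 (by omega)
  · exact aux z x y hz hx hy hz1 hx1 hy1 (by rw [hcm hz hx]; exact hxzy) (by omega) h1
  · exact aux y x z hy hx hz hy1 hx1 hz1 (by rw [hcm hy hx]; exact hzxy) (by omega) h3
  · exact aux y z x hy hz hx hy1 hz1 hx1 hyzx h2 (by omega)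
  · omega
  · exact aux z y x hz hy hx hz1 hy1 hx1 (by rw [hcm hz hy]; exact hyzx) (by omega) (by omega)

namespace Whole

variable {G : Type u} [Group G] [Finite G] {E : Data27 G} (W : Whole E)

theorem exists_wit {w : ℕ} (hw : w ∈ witN) : ∃ u : A W.n, u * u = 1 ∧ mv u = 4 ∧
    ∀ x : C0, (cm w (enc x.1) = true ↔ u * W.ι x = W.ι x * u) ∧ mv (u * W.ι x) = moved (mN w (enc x.1)) := by
  rw [← witN_eq] at hw
  obtain ⟨p, hp, rfl⟩ := List.mem_map.1 hw
  obtain ⟨hs, h2, hm⟩ := wit_facts p hp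
  refine ⟨W.j ⟨p, Perm.mem_alternatingGroup.2 hs⟩, ?_, by rw [j, mv_emb]; exact hm, fun x => ?_⟩
  · rw [← map_mul, show (⟨p, Perm.mem_alternatingGroup.2 hs⟩ : A 12) * ⟨p, Perm.mem_alternatingGroup.2 hs⟩ = 1
      from Subtype.ext h2, map_one]
  constructor
  · rw [cm_iff, W.ι_eq, ← map_mul, ← map_mul, j, (emb_injective _).eq_iff]
    exact ⟨fun h => Subtype.ext h, fun h => congrArg Subtype.val h⟩
  · rw [W.ι_eq, ← map_mul, j, mv_emb, ← enc_mul, moved_enc]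
    rfl

theorem back {h u0 p : A W.n} {x : C0} (hp : W.ι x = h * p * h⁻¹) :
    (u0 * W.ι x = W.ι x * u0 ↔ h⁻¹ * u0 * h * p = p * (h⁻¹ * u0 * h)) ∧
      mv (h⁻¹ * u0 * h * p) = mv (u0 * W.ι x) := by
  refine ⟨⟨fun e => ?_, fun e => ?_⟩, ?_⟩
  · calc h⁻¹ * u0 * h * p = h⁻¹ * (u0 * W.ι x) * h := by rw [hp]; group
      _ = _ := by rw [e, hp]; group
  · calc u0 * W.ι x = h * (h⁻¹ * u0 * h * p) * h⁻¹ := by rw [hp]; group
      _ = _ := by rw [e, hp]; group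
  · rw [← mv_conj_self h⁻¹ (u0 * W.ι x)]
    congr 1
    rw [hp]
    group

theorem back_self (h u0 : A W.n) (h2 : u0 * u0 = 1) :
    h⁻¹ * u0 * h * (h⁻¹ * u0 * h) = 1 ∧ mv (h⁻¹ * u0 * h) = mv u0 := by
  refine ⟨?_, ?_⟩
  · rw [show h⁻¹ * u0 * h * (h⁻¹ * u0 * h) = h⁻¹ * (u0 * u0) * h by group, h2, mul_one, inv_mul_cancel]
  · have := mv_conj_self h⁻¹ u0
    rwa [inv_inv] at this

theorem wit_one {q : A W.n} (hq : q * q = 1) (hm : mv q = 8) :
    (∃ u, u * u = 1 ∧ mv u = 4 ∧ u * q = q * u ∧ mv (u * q) ≠ 4) ∧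
      ∃ u, u * u = 1 ∧ mv u = 4 ∧ u * q = q * u ∧ mv (u * q) = 4 := by
  obtain ⟨h, x, hxS, hx2, hxe, hxm⟩ := W.exists_one hq
  have ht := List.all_eq_true.1 single_table _ (gam_of hxS hx2 (hxm.trans hm))
  simp only [Bool.and_eq_true, List.any_eq_true, Bool.not_eq_true', ← Bool.not_eq_true] at ht
  obtain ⟨⟨w, hw, hc, hf⟩, w', hw', hc', hf'⟩ := ht
  constructor
  · obtain ⟨u, hu2, hum, hu⟩ := W.exists_wit hw
    obtain ⟨e1, e2⟩ := W.back_self h u hu2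
    refine ⟨_, e1, e2.trans hum, (W.back hxe).1.1 ((hu x).1.1 hc), ?_⟩
    rw [(W.back hxe).2, (hu x).2]
    exact farN_iff.1 hf
  · obtain ⟨u, hu2, hum, hu⟩ := W.exists_wit hw'
    obtain ⟨e1, e2⟩ := W.back_self h u hu2
    refine ⟨_, e1, e2.trans hum, (W.back hxe).1.1 ((hu x).1.1 hc'), ?_⟩
    rw [(W.back hxe).2, (hu x).2]
    by_contra hn
    exact hf' (farN_iff.2 hn)

theorem wit_two {q r : A W.n} (hq : q * q = 1) (hr : r * r = 1) (hqr : q * r = r * q) (hqm : mv q = 8)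
    (hrm : mv r = 8) (hpm : mv (q * r) = 8) :
    (∃ u, u * u = 1 ∧ mv u = 4 ∧ ∀ e ∈ ({q, r, q * r} : Set (A W.n)), u * e = e * u ∧ mv (u * e) ≠ 4) ∧
      ∃ u, u * u = 1 ∧ mv u = 4 ∧ (∀ e ∈ ({q, r, q * r} : Set (A W.n)), u * e = e * u) ∧
        ∃ e ∈ ({q, r, q * r} : Set (A W.n)), mv (u * e) = 4 := by
  have hX : ∀ a ∈ closure ({q, r} : Set (A W.n)), a * a = 1 := elem_closure
    (by rintro a (rfl | rfl) <;> assumption)
    (by rintro a (rfl | rfl) b (rfl | rfl) <;> first | rfl | exact hqr | exact hqr.symm)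
  obtain ⟨h, hh⟩ := W.exists_S0 _ (isPGroup_of_sq hX)
  obtain ⟨x, hxS, hxe⟩ := hh q (subset_closure (Or.inl rfl))
  obtain ⟨y, hyS, hye⟩ := hh r (subset_closure (Or.inr rfl))
  have hxye : W.ι (x * y) = h * (q * r) * h⁻¹ := by rw [map_mul, hxe, hye]; group
  have hsq : ∀ {a : C0} {b : A W.n}, W.ι a = h * b * h⁻¹ → b * b = 1 → a * a = 1 := fun ha hb => W.ι_inj (by
    rw [map_mul, ha, map_one, conj_mul, hb, mul_one, mul_inv_cancel])
  have hcard : ∀ {a : C0} {b : A W.n}, W.ι a = h * b * h⁻¹ → mv b = 8 → a.1.support.card = 8 := fun ha hb => by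
    rw [← W.mv_ι, ha, mv_conj_self, hb]
  have hxy : x * y = y * x := W.ι_inj (by rw [hxye, map_mul, hxe, hye, hqr]; group)
  obtain ⟨⟨w, hw, a, b, c, d, e⟩, w', hw', a', b', hn⟩ := pairC hxS hyS (hsq hxe hq) (hsq hye hr)
    (hcard hxe hqm) (hcard hye hrm) hxy (hcard hxye hpm)
  have hall : ∀ {u0 : A W.n}, u0 * W.ι x = W.ι x * u0 → u0 * W.ι y = W.ι y * u0 →
      u0 * W.ι (x * y) = W.ι (x * y) * u0 := fun h1 h2 => by
    rw [map_mul, ← mul_assoc, h1, mul_assoc, h2, mul_assoc]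
  constructor
  · obtain ⟨u, hu2, hum, hu⟩ := W.exists_wit hw
    obtain ⟨e1, e2⟩ := W.back_self h u hu2
    refine ⟨_, e1, e2.trans hum, ?_⟩
    have hc1 := (hu x).1.1 a
    have hc2 := (hu y).1.1 b
    rintro v (rfl | rfl | rfl)
    · exact ⟨(W.back hxe).1.1 hc1, by rw [(W.back hxe).2, (hu x).2]; exact farN_iff.1 c⟩
    · exact ⟨(W.back hye).1.1 hc2, by rw [(W.back hye).2, (hu y).2]; exact farN_iff.1 d⟩
    · exact ⟨(W.back hxye).1.1 (hall hc1 hc2), by rw [(W.back hxye).2, (hu _).2]; exact farN_iff.1 e⟩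
  · obtain ⟨u, hu2, hum, hu⟩ := W.exists_wit hw'
    obtain ⟨e1, e2⟩ := W.back_self h u hu2
    have hc1 := (hu x).1.1 a'
    have hc2 := (hu y).1.1 b'
    refine ⟨_, e1, e2.trans hum, ?_, ?_⟩
    · rintro v (rfl | rfl | rfl)
      exacts [(W.back hxe).1.1 hc1, (W.back hye).1.1 hc2, (W.back hxye).1.1 (hall hc1 hc2)]
    · by_contra hne
      simp only [Set.mem_insert_iff, Set.mem_singleton_iff, not_exists, not_and, forall_eq_or_imp, forall_eq] at hne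
      rw [(W.back hxe).2, (W.back hye).2, (W.back hxye).2, (hu _).2, (hu _).2, (hu _).2] at hne
      exact hn ⟨farN_iff.2 hne.1, farN_iff.2 hne.2.1, farN_iff.2 hne.2.2⟩

/-- the four-group of the preimages has a far witness -/
theorem wit_pre {g : G} {q r : A W.n} (hq : q ∈ W.fx g) (hr : r ∈ W.fx g) (hq2 : q * q = 1) (hr2 : r * r = 1)
    (hqr : q * r = r * q) (hqm : mv q = 8) (hrm : mv r = 8) (hpm : mv (q * r) = 8) :
    ∃ v, v * v = 1 ∧ mv v = 4 ∧ ∀ e ∈ ({q, r, q * r} : Set (A W.n)), ∀ e', g * W.Θ e' * g⁻¹ = W.Θ e →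
      v * e' = e' * v ∧ mv (v * e') ≠ 4 := by
  obtain ⟨q', hq'⟩ := W.mem_fx.1 hq
  obtain ⟨r', hr'⟩ := W.mem_fx.1 hr
  have hqr' : g * W.Θ (q' * r') * g⁻¹ = W.Θ (q * r) := by rw [map_mul, map_mul, ← hq', ← hr']; group
  have huniq : ∀ {a b c : A W.n}, g * W.Θ a * g⁻¹ = W.Θ c → g * W.Θ b * g⁻¹ = W.Θ c → a = b := fun h1 h2 =>
    W.inj (mul_left_cancel (mul_right_cancel (h1.trans h2.symm)))
  have hrq' : g * W.Θ (r' * q') * g⁻¹ = W.Θ (q * r) := by rw [hqr, map_mul, map_mul, ← hq', ← hr']; group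
  have hcomm : q' * r' = r' * q' := huniq hqr' hrq'
  have hq'2 := W.pre_sq hq' hq2
  have hr'2 := W.pre_sq hr' hr2
  have hp2 : q * r * (q * r) = 1 := by
    rw [show q * r * (q * r) = q * (r * q) * r by group, ← hqr, show q * (q * r) * r = q * q * (r * r) by group,
      hq2, hr2, one_mul]
  obtain ⟨⟨v, hv2, hvm, hv⟩, -⟩ := W.wit_two hq'2 hr'2 hcomm ((W.mv_fused hq'2 hq2 hq').trans hqm)
    ((W.mv_fused hr'2 hr2 hr').trans hrm) ((W.mv_fused (W.pre_sq hqr' hp2) hp2 hqr').trans hpm)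
  refine ⟨v, hv2, hvm, fun e he e' he' => ?_⟩
  rcases he with rfl | rfl | rfl
  · exact hv e' (by rw [huniq he' hq']; exact Or.inl rfl)
  · exact hv e' (by rw [huniq he' hr']; exact Or.inr (Or.inl rfl))
  · exact hv e' (by rw [huniq he' hqr']; exact Or.inr (Or.inr rfl))

theorem no_sep {g : G} (hg : g ∉ W.Θ.range) {q r u : A W.n} (hq : q ∈ W.fx g) (hr : r ∈ W.fx g)
    (hq2 : q * q = 1) (hr2 : r * r = 1) (hq1 : q ≠ 1) (hr1 : r ≠ 1) (hne : q ≠ r) (hqr : q * r = r * q)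
    (hu2 : u * u = 1) (hum : mv u = 12) (huq : u * q = q * u) (hur : u * r = r * u) (mq : mv (u * q) = 12)
    (mr : mv (u * r) = 8) (mqr : mv (u * (q * r)) = 8) : False := by
  have hp1 : q * r ≠ 1 := fun e => hne (mul_left_cancel (hq2.trans e.symm))
  have hp2 : q * r * (q * r) = 1 := by
    rw [show q * r * (q * r) = q * (r * q) * r by group, ← hqr, show q * (q * r) * r = q * q * (r * r) by group,
      hq2, hr2, one_mul]
  have hqm := W.fx_mv hg hq2 hq1 hq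
  have hrm := W.fx_mv hg hr2 hr1 hr
  have hpm := W.fx_mv hg hp2 hp1 (mul_mem hq hr)
  obtain ⟨v, hv2, hvm, hv⟩ := W.wit_pre hq hr hq2 hr2 hqr hqm hrm hpm
  obtain ⟨z, hz, hz2, hz1, hzX, hzu, hzc⟩ := W.step (g := g) ({q, r, q * r} : Set (A W.n))
    (by rintro e (rfl | rfl | rfl); exacts [⟨hq, hq2⟩, ⟨hr, hr2⟩, ⟨mul_mem hq hr, hp2⟩]) hu2 hv2 hvm
    (by
      rintro e (rfl | rfl | rfl)
      exacts [huq, hur, by rw [← mul_assoc, huq, mul_assoc, hur, mul_assoc]])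
    hv (Or.inl ⟨hum, by rintro e (rfl | rfl | rfl) <;> omega⟩)
  simp only [Set.mem_insert_iff, Set.mem_singleton_iff, not_or] at hzX
  have hzq := hzc q (Or.inl rfl)
  have hzr := hzc r (Or.inr (Or.inl rfl))
  have hX : ∀ a ∈ closure ({q, r, z} : Set (A W.n)), a * a = 1 := elem_closure
    (by rintro a (rfl | rfl | rfl) <;> assumption)
    (by rintro a (rfl | rfl | rfl) b (rfl | rfl | rfl) <;>
      first | rfl | exact hqr | exact hqr.symm | exact hzq | exact hzq.symm | exact hzr | exact hzr.symm)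
  -- move the far involution to the centre of the model
  have htp : W.ι tp0 * W.ι tp0 = 1 := by rw [← map_mul, tp0_sq, map_one]
  have htm : mv (W.ι tp0) = 12 := by rw [W.mv_ι]; exact tp_facts.2.1
  obtain ⟨k, hk⟩ := conj_of_mv hu2 (fun e => by rw [mv_one_iff.2 e] at hum; omega) htp
    (fun e => by rw [mv_one_iff.2 e] at htm; omega) (hum.trans htm.symm)
  have hin : ∀ {p : A W.n}, u * p = p * u → ∃ c, W.ι c = k * p * k⁻¹ := fun {p} hp => W.range_ι (by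
    rw [← hk, conj_mul, conj_mul, hp])
  obtain ⟨cq, hcq⟩ := hin huq
  obtain ⟨cr, hcr⟩ := hin hur
  obtain ⟨cz, hcz⟩ := hin hzu.symm
  have hQ : ∀ a ∈ closure ({cq, cr, cz} : Set C0), a * a = 1 := by
    refine elem_closure ?_ ?_
    · rintro a (rfl | rfl | rfl) <;> refine W.ι_inj ?_ <;> rw [map_mul, map_one]
      · rw [hcq, conj_mul, hq2, mul_one, mul_inv_cancel]
      · rw [hcr, conj_mul, hr2, mul_one, mul_inv_cancel]
      · rw [hcz, conj_mul, hz2, mul_one, mul_inv_cancel]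
    · rintro a (rfl | rfl | rfl) b (rfl | rfl | rfl) <;> first
        | rfl
        | (refine W.ι_inj ?_; simp only [map_mul, hcq, hcr, hcz, conj_mul, hqr, hzq, hzr])
  obtain ⟨c, hc⟩ := conj_into E.D.φ E.D.inj E.D.sylow S0' card_S0' _ (isPGroup_of_sq hQ)
  have hT : W.ι tp0 = W.ι c * k * u * (W.ι c * k)⁻¹ := by
    have : W.ι tp0 * W.ι c = W.ι c * W.ι tp0 := by rw [← map_mul, ← map_mul, tp0_comm]
    calc W.ι tp0 = W.ι tp0 * W.ι c * (W.ι c)⁻¹ := by group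
      _ = _ := by rw [this, ← hk]; group
  have hget : ∀ {cp : C0} {p : A W.n}, cp ∈ ({cq, cr, cz} : Set C0) → W.ι cp = k * p * k⁻¹ → ∃ x : C0,
      x.1 ∈ S0 ∧ W.ι x = W.ι c * k * p * (W.ι c * k)⁻¹ := fun {cp p} hm he =>
    ⟨c * cp * c⁻¹, hc _ (subset_closure hm), by rw [map_mul, map_mul, map_inv, he]; group⟩
  obtain ⟨x, hxS, hxe⟩ := hget (Or.inl rfl) hcq
  obtain ⟨y, hyS, hye⟩ := hget (Or.inr (Or.inl rfl)) hcr
  obtain ⟨w, hwS, hwe⟩ := hget (Or.inr (Or.inr rfl)) hcz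
  set h := W.ι c * k
  have hsq : ∀ {a : C0} {b : A W.n}, W.ι a = h * b * h⁻¹ → b * b = 1 → a * a = 1 := fun ha hb => W.ι_inj (by
    rw [map_mul, ha, map_one, conj_mul, hb, mul_one, mul_inv_cancel])
  have hmv : ∀ {a : C0} {b : A W.n}, W.ι a = h * b * h⁻¹ → moved (enc a.1) = mv b := fun ha => by
    rw [moved_enc, ← W.mv_ι, ha, mv_conj_self]
  have hprod : ∀ {a a' : C0} {b b' : A W.n}, W.ι a = h * b * h⁻¹ → W.ι a' = h * b' * h⁻¹ →
      W.ι (a * a') = h * (b * b') * h⁻¹ := fun ha hb => by rw [map_mul, ha, hb, conj_mul]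
  have hcm : ∀ {a a' : C0} {b b' : A W.n}, W.ι a = h * b * h⁻¹ → W.ι a' = h * b' * h⁻¹ → b * b' = b' * b →
      cm (enc a.1) (enc a'.1) = true := fun ha hb hab =>
    cm_comm (W.ι_inj (by rw [map_mul, map_mul, ha, hb, conj_mul, conj_mul, hab]))
  have hgam : ∀ {a : C0} {b : A W.n}, a.1 ∈ S0 → W.ι a = h * b * h⁻¹ → b * b = 1 → mv b = 8 → enc a.1 ∈ gamL :=
    fun {a b} haS ha hb hm => gam_of haS (hsq ha hb) (by rw [← W.mv_ι, ha, mv_conj_self, hm])
  have henc : enc tp0.1 = tpN := probe_enc.2.1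
  have hzm := W.fx_mv hg hz2 hz1 hz
  have hmem : ∀ {p : A W.n}, p = q ∨ p = r ∨ p = z → p ∈ closure ({q, r, z} : Set (A W.n)) := by
    rintro p (rfl | rfl | rfl)
    exacts [subset_closure (Or.inl rfl), subset_closure (Or.inr (Or.inl rfl)),
      subset_closure (Or.inr (Or.inr rfl))]
  have hqzm : mv (q * z) = 8 := W.fx_mv hg (hX _ (mul_mem (hmem (Or.inl rfl)) (hmem (Or.inr (Or.inr rfl)))))
    (fun e => hzX.1 (mul_left_cancel (hq2.trans e.symm)).symm) (mul_mem hq hz)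
  have hrzm : mv (r * z) = 8 := W.fx_mv hg
    (hX _ (mul_mem (hmem (Or.inr (Or.inl rfl))) (hmem (Or.inr (Or.inr rfl)))))
    (fun e => hzX.2.1 (mul_left_cancel (hr2.trans e.symm)).symm) (mul_mem hr hz)
  have hqrzm : mv (q * (r * z)) = 8 := W.fx_mv hg (hX _ (mul_mem (hmem (Or.inl rfl))
      (mul_mem (hmem (Or.inr (Or.inl rfl))) (hmem (Or.inr (Or.inr rfl))))))
    (fun e => hzX.2.2 (by rw [← mul_assoc] at e; exact (mul_left_cancel (hp2.trans e.symm)).symm))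
    (mul_mem hq (mul_mem hr hz))
  have ht := List.all_eq_true.1 closed_table _ (hgam hxS hxe hq2 hqm)
  have e1 : moved (mN tpN (enc x.1)) = 12 := by rw [← henc, ← enc_prod, hmv (hprod hT hxe), mq]
  have c1 : cm tpN (enc x.1) = true := henc ▸ hcm hT hxe huq
  rw [c1, e1] at ht
  simp only [Nat.beq_refl, Bool.and_self, Bool.not_true, Bool.false_or] at ht
  replace ht := List.all_eq_true.1 ht _ (hgam hyS hye hr2 hrm)
  have p1 : pureN (enc x.1) (enc y.1) = true := by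
    rw [pureN, hcm hxe hye hqr, ← enc_prod, hmv (hprod hxe hye), hpm]; rfl
  have p2 : sepN tpN (enc x.1) (enc y.1) = true := by
    rw [sepN, c1, e1, ← henc, hcm hT hye hur, ← enc_prod, ← enc_prod, ← enc_prod, hmv (hprod hT hye),
      hmv (hprod hT (hprod hxe hye)), mr, mqr]
    rfl
  rw [p1, p2] at ht
  simp only [Bool.and_self, Bool.not_true, Bool.false_or] at ht
  replace ht := List.all_eq_true.1 ht _ (hgam hwS hwe hz2 hzm)
  have n1 : ∀ {a : C0} {b : A W.n}, W.ι a = h * b * h⁻¹ → z ≠ b → Nat.beq (enc w.1) (enc a.1) = false :=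
    fun {a b} ha hne => by
      rw [← Bool.not_eq_true, Nat.beq_eq]
      intro e
      refine hne ?_
      rw [show w = a from Subtype.ext (enc_inj e), ha] at hwe
      exact (mul_left_cancel (mul_right_cancel hwe)).symm
  have q1 : pureN (enc x.1) (enc w.1) = true := by
    rw [pureN, hcm hxe hwe hzq.symm, ← enc_prod, hmv (hprod hxe hwe), hqzm]; rfl
  have q2 : pureN (enc y.1) (enc w.1) = true := by
    rw [pureN, hcm hye hwe hzr.symm, ← enc_prod, hmv (hprod hye hwe), hrzm]; rfl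
  rw [n1 hxe hzX.1, n1 hye hzX.2.1, ← enc_prod x y, n1 (hprod hxe hye) hzX.2.2, q1, q2,
    show cm tpN (enc w.1) = true from henc ▸ hcm hT hwe hzu.symm, ← enc_prod, ← enc_prod,
    hmv (hprod hxe (hprod hye hwe)), hqrzm] at ht
  simp at ht

theorem no_pair {g : G} (hg : g ∉ W.Θ.range) {q r : A W.n} (hq : q ∈ W.fx g) (hr : r ∈ W.fx g)
    (hq2 : q * q = 1) (hr2 : r * r = 1) (hq1 : q ≠ 1) (hr1 : r ≠ 1) (hne : q ≠ r) (hqr : q * r = r * q) :
    False := by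
  have hp1 : q * r ≠ 1 := fun e => hne (mul_left_cancel (hq2.trans e.symm))
  have hp2 : q * r * (q * r) = 1 := by
    rw [show q * r * (q * r) = q * (r * q) * r by group, ← hqr, show q * (q * r) * r = q * q * (r * r) by group,
      hq2, hr2, one_mul]
  have hqm := W.fx_mv hg hq2 hq1 hq
  have hrm := W.fx_mv hg hr2 hr1 hr
  have hpm := W.fx_mv hg hp2 hp1 (mul_mem hq hr)
  obtain ⟨v, hv2, hvm, hv⟩ := W.wit_pre hq hr hq2 hr2 hqr hqm hrm hpm
  obtain ⟨-, u, hu2, hum, huc, hue⟩ := W.wit_two hq2 hr2 hqr hqm hrm hpm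
  obtain ⟨z, hz, hz2, hz1, hzX, -, hzc⟩ := W.step (g := g) ({q, r, q * r} : Set (A W.n))
    (by rintro e (rfl | rfl | rfl); exacts [⟨hq, hq2⟩, ⟨hr, hr2⟩, ⟨mul_mem hq hr, hp2⟩]) hu2 hv2 hvm huc hv
    (Or.inr ⟨hum, hue⟩)
  simp only [Set.mem_insert_iff, Set.mem_singleton_iff, not_or] at hzX
  set Q := closure ({q, r, z} : Set (A W.n))
  have hX : ∀ a ∈ Q, a * a = 1 := elem_closure (by rintro a (rfl | rfl | rfl) <;> assumption)
    (by rintro a (rfl | rfl | rfl) b (rfl | rfl | rfl) <;>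
      first | rfl | exact hqr | exact hqr.symm | exact hzc _ (Or.inl rfl) | exact (hzc _ (Or.inl rfl)).symm |
        exact hzc _ (Or.inr (Or.inl rfl)) | exact (hzc _ (Or.inr (Or.inl rfl))).symm)
  have hQfx : Q ≤ W.fx g := (closure_le _).2 (by rintro a (rfl | rfl | rfl) <;> assumption)
  obtain ⟨h, hh⟩ := W.exists_S0 Q (isPGroup_of_sq hX)
  have hback : ∀ {a : C0}, a ∈ (Q.map (MulAut.conj h).toMonoidHom).comap W.ι → ∃ b ∈ Q, W.ι a = h * b * h⁻¹ :=
    fun ha => by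
      obtain ⟨b, hb, he⟩ := ha
      exact ⟨b, hb, he.symm⟩
  have hQ0 : ∀ a ∈ (Q.map (MulAut.conj h).toMonoidHom).comap W.ι,
      a.1 ∈ S0 ∧ a * a = 1 ∧ (a ≠ 1 → a.1.support.card = 8) := by
    intro a ha
    obtain ⟨b, hb, he⟩ := hback ha
    obtain ⟨a', ha'S, ha'e⟩ := hh b hb
    obtain rfl : a' = a := W.ι_inj (ha'e.trans he.symm)
    refine ⟨ha'S, W.ι_inj (by rw [map_mul, he, map_one, conj_mul, hX b hb, mul_one, mul_inv_cancel]),
      fun h1 => ?_⟩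
    rw [← W.mv_ι, he, mv_conj_self]
    refine W.fx_mv hg (hX b hb) (fun e => h1 (W.ι_inj ?_)) (hQfx hb)
    rw [he, e, map_one, mul_one, mul_inv_cancel]
  obtain ⟨x, -, hxe⟩ := hh q (subset_closure (Or.inl rfl))
  obtain ⟨y, -, hye⟩ := hh r (subset_closure (Or.inr (Or.inl rfl)))
  obtain ⟨w, -, hwe⟩ := hh z (subset_closure (Or.inr (Or.inr rfl)))
  have h1 : ∀ {a : C0} {b : A W.n}, W.ι a = h * b * h⁻¹ → b ≠ 1 → a ≠ 1 := by
    intro a b ha hb e
    rw [e, map_one] at ha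
    exact hb (mul_left_cancel (mul_right_cancel (by rw [← ha, mul_one, mul_inv_cancel] : h * b * h⁻¹ = h * 1 * h⁻¹)))
  have h2 : ∀ {a a' : C0} {b b' : A W.n}, W.ι a = h * b * h⁻¹ → W.ι a' = h * b' * h⁻¹ → b ≠ b' → a ≠ a' := by
    intro a a' b b' ha hb hne e
    rw [e, hb] at ha
    exact hne (mul_left_cancel (mul_right_cancel ha)).symm
  obtain ⟨t, ht, a, ha, b, hb, ha1, hb1, hab, hsep⟩ := sepC _ hQ0 (x := x) (y := y) (z := w)
    ⟨q, subset_closure (Or.inl rfl), hxe.symm⟩ ⟨r, subset_closure (Or.inr (Or.inl rfl)), hye.symm⟩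
    ⟨z, subset_closure (Or.inr (Or.inr rfl)), hwe.symm⟩ (h1 hxe hq1) (h1 hye hr1) (h1 hwe hz1)
    (h2 hxe hye hne) (h2 hxe hwe (Ne.symm hzX.1)) (h2 hye hwe (Ne.symm hzX.2.1))
    (h2 hwe (a' := x * y) (by rw [map_mul, hxe, hye, conj_mul]) hzX.2.2)
  obtain ⟨a', haQ, hae⟩ := hback ha
  obtain ⟨b', hbQ, hbe⟩ := hback hb
  have hf := List.all_eq_true.1 sixN_facts t ht
  simp only [Bool.and_eq_true, invN, Nat.beq_eq, List.contains_iff_mem] at hf
  obtain ⟨⟨htS, ht2⟩, htm⟩ := hf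
  obtain ⟨p, hpS, rfl⟩ := exists_of_mem_SL htS
  set T : C0 := ⟨p, S0_le hpS⟩
  have hT2 : W.ι T * W.ι T = 1 := by
    rw [← map_mul, show T * T = 1 from Subtype.ext (enc_inj (by
      rw [Subgroup.coe_mul, enc_mul, show T.1 = p from rfl, ht2, Subgroup.coe_one, enc_one])), map_one]
  obtain ⟨e1, e2⟩ := W.back_self h (W.ι T) hT2
  rw [sepN] at hsep
  simp only [Bool.and_eq_true, Nat.beq_eq] at hsep
  obtain ⟨⟨⟨⟨ca, cb⟩, ma⟩, mb⟩, mab⟩ := hsep
  have habe : W.ι (a * b) = h * (a' * b') * h⁻¹ := by rw [map_mul, hae, hbe, conj_mul]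
  have hmvT : ∀ c : C0, mv (W.ι T * W.ι c) = moved (mN (enc p) (enc c.1)) := fun c => by
    rw [← map_mul, W.mv_ι, ← moved_enc, enc_prod]
  have hcT : ∀ c : C0, cm (enc p) (enc c.1) = true → W.ι T * W.ι c = W.ι c * W.ι T := fun c hc => by
    rw [← map_mul, ← map_mul]
    exact congrArg W.ι (Subtype.ext (cm_iff.1 hc))
  have hTm : mv (W.ι T) = 12 := by
    rw [W.mv_ι, ← moved_enc]
    exact htm
  refine W.no_sep hg (hQfx haQ) (hQfx hbQ) (hX _ haQ) (hX _ hbQ) (fun e => ha1 (W.ι_inj ?_))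
    (fun e => hb1 (W.ι_inj ?_)) (fun e => hab (W.ι_inj ?_))
    (comm_of_sq (hX _ haQ) (hX _ hbQ) (hX _ (mul_mem haQ hbQ))) e1 (e2.trans hTm)
    ((W.back hae).1.1 (hcT a ca)) ((W.back hbe).1.1 (hcT b cb)) ?_ ?_ ?_
  · rw [hae, e, map_one, mul_one, mul_inv_cancel]
  · rw [hbe, e, map_one, mul_one, mul_inv_cancel]
  · rw [hae, hbe, e]
  · rw [(W.back hae).2, hmvT]; exact ma
  · rw [(W.back hbe).2, hmvT]; exact mb
  · rw [(W.back habe).2, hmvT, enc_prod]; exact mab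

theorem no_inv {g : G} (hg : g ∉ W.Θ.range) {q : A W.n} (hq : q ∈ W.fx g) (hq2 : q * q = 1) (hq1 : q ≠ 1) :
    False := by
  have hqm := W.fx_mv hg hq2 hq1 hq
  obtain ⟨q', hq'⟩ := W.mem_fx.1 hq
  have hq'2 := W.pre_sq hq' hq2
  obtain ⟨⟨v, hv2, hvm, hvc, hvf⟩, -⟩ := W.wit_one hq'2 ((W.mv_fused hq'2 hq2 hq').trans hqm)
  obtain ⟨-, u, hu2, hum, huc, hue⟩ := W.wit_one hq2 hqm
  obtain ⟨z, hz, hz2, hz1, hzX, -, hzc⟩ := W.step (g := g) ({q} : Set (A W.n))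
    (by rintro e rfl; exact ⟨hq, hq2⟩) hu2 hv2 hvm (by rintro e rfl; exact huc)
    (by
      rintro e rfl e' he'
      rw [show e' = q' from W.inj (mul_left_cancel (mul_right_cancel (he'.trans hq'.symm)))]
      exact ⟨hvc, hvf⟩)
    (Or.inr ⟨hum, q, rfl, hue⟩)
  exact W.no_pair hg hq hz hq2 hz2 hq1 hz1 (fun e => hzX e.symm) (hzc q rfl).symm

/-- Every involution centraliser lies inside. -/
theorem cent_le_all {p : A W.n} (hp : p * p = 1) (hp1 : p ≠ 1) {g : G} (h : g * W.Θ p = W.Θ p * g) :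
    g ∈ W.Θ.range := by
  by_contra hg
  exact W.no_inv hg (W.mem_fx.2 ⟨p, by rw [h, mul_inv_cancel_right]⟩) hp hp1

theorem range_top : W.Θ.range = ⊤ := by
  refine eq_top_iff.2 fun g _ => ?_
  by_contra hg
  have ha2 : W.ι tp0 * W.ι tp0 = 1 := by rw [← map_mul, tp0_sq, map_one]
  have hb2 : W.ι (a0 16) * W.ι (a0 16) = 1 := by
    rw [← map_mul, show a0 16 * a0 16 = 1 from Subtype.ext (av_sq 16), map_one]
  have hmb : mv (W.ι (a0 16)) = 4 := by rw [W.mv_ι, moved_a0]; decide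
  have hma : mv (W.ι tp0) = 12 := by rw [W.mv_ι]; exact tp_facts.2.1
  set V := g * W.Θ (W.ι (a0 16)) * g⁻¹ with hV
  have hU2 : W.Θ (W.ι tp0) * W.Θ (W.ι tp0) = 1 := by rw [← map_mul, ha2, map_one]
  have hV2 : V * V = 1 := by rw [hV, conj_mul, ← map_mul, hb2, map_one, mul_one, mul_inv_cancel]
  rcases dih hU2 hV2 with ⟨c, -, h⟩ | ⟨z, -, hz2, hz1, hzU, hzV, -⟩
  · have := W.mv_fused ha2 hb2 (g := g⁻¹ * c) (by
      calc g⁻¹ * c * W.Θ (W.ι tp0) * (g⁻¹ * c)⁻¹ = g⁻¹ * (c * W.Θ (W.ι tp0) * c⁻¹) * g := by group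
        _ = _ := by rw [h, hV]; group)
    omega
  obtain ⟨z0, rfl⟩ := W.cent_le ha2 (Or.inr hma) hzU
  have hz0 : z0 * z0 = 1 := W.inj (by rw [map_mul, hz2, map_one])
  obtain ⟨q, hq⟩ := W.cent_le_all hz0 (fun e => hz1 (by rw [e, map_one])) (g := V) hzV.symm
  have hq' : g * W.Θ (W.ι (a0 16)) * g⁻¹ = W.Θ q := by rw [hq]
  have hq2 : q * q = 1 := W.inj (by rw [map_mul, map_one, ← hq']; exact hV2)
  have hq1 : q ≠ 1 := fun e => by
    have := W.mv_fused hb2 hq2 hq'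
    rw [mv_one_iff.2 e] at this
    omega
  exact W.no_inv hg (W.mem_fx.2 ⟨_, hq'⟩) hq2 hq1

end Whole

end Cfsg.Agent.Spor.Yamaki

namespace Cfsg.Agent.Spor.Yamaki

open Cfsg.Agent.Small.AltDeg

/-- In the configuration with twenty-seven conjugates the group is alternating of degree twelve or thirteen. -/
theorem Data27.classification {G : Type u} [Group G] [Finite G] (E : Data27 G) :
    Nonempty (G ≃* A 12) ∨ Nonempty (G ≃* A 13) := by
  obtain ⟨L⟩ := E.exists_lift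
  obtain ⟨n, h, Θ, hn, hinj, hφ, hHB⟩ := L.exists_big
  have htop : Θ.range = ⊤ := Whole.range_top ⟨n, h, Θ, hinj, hφ, hHB⟩
  have e : G ≃* A n :=
    (((MonoidHom.ofInjective hinj).trans (MulEquiv.subgroupCongr htop)).trans Subgroup.topEquiv).symm
  rcases hn with rfl | rfl
  · exact Or.inl ⟨e⟩
  · exact Or.inr ⟨e⟩

end Cfsg.Agent.Spor.Yamaki
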